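import Groth.Agent.S14271

/-!
Sections extend uniquely across a closed subset along which the depth is at least two.
-/

set_option autoImplicit false
universe u

open AlgebraicGeometry CategoryTheory CategoryTheory.Limits
open scoped Pointwise

namespace Groth.Misc7.DepthTwo

variable {X : Scheme.{u}} {U : X.Opens} [QuasiCompact U.ι]

lemma isCompact_inf {W : X.Opens} (hW : IsAffineOpen W) :
    IsCompact ((W ⊓ U : X.Opens) : Set X) := by
  have h := (QuasiCompact.isCompact_preimage (f := U.ι) _ W.2 hW.isCompact).image U.ι.continuous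
  convert h using 1
  rw [Set.image_preimage_eq_inter_range]
  simp [Scheme.Opens.range_ι, TopologicalSpace.Opens.coe_inf]

/-- A section over `W ⊓ U` killed by an element regular at `p` is killed by an element outside `p`. -/
lemma exists_notMem_mul_eq_zero {W : X.Opens} (hW : IsAffineOpen W) {U' : X.Opens}
    (hc : IsCompact (U' : Set X)) (i : U' ⟶ W) (p : Ideal Γ(X, W)) [p.IsPrime]
    (L : Type u) [CommRing L] [Algebra Γ(X, W) L] [IsLocalization.AtPrime L p]
    (a : Γ(X, W)) (ha : IsSMulRegular L (algebraMap Γ(X, W) L a)) (δ : Γ(X, U'))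
    (h : X.presheaf.map i.op a * δ = 0) :
    ∃ f ∉ p, X.presheaf.map i.op f * δ = 0 := by
  have loc : ∀ x : U', ∃ (g f : Γ(X, W)) (hg : X.basicOpen g ≤ U'), (x : X) ∈ X.basicOpen g ∧
      f ∉ p ∧ X.presheaf.map (homOfLE hg).op (X.presheaf.map i.op f * δ) = 0 := by
    intro x
    obtain ⟨g, hg, hxg⟩ := hW.exists_basicOpen_le x (i.le x.2)
    have := hW.isLocalization_basicOpen g
    let φ := (X.presheaf.map (homOfLE hg).op).hom
    have hφ : ∀ r, φ (X.presheaf.map i.op r) = algebraMap Γ(X, W) Γ(X, X.basicOpen g) r := fun r => by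
      change (X.presheaf.map i.op ≫ X.presheaf.map (homOfLE hg).op).hom r = _
      rw [← Functor.map_comp]
      rfl
    obtain ⟨⟨d, c⟩, hd⟩ := IsLocalization.surj (Submonoid.powers g) (φ δ)
    dsimp only at hd
    have h1 : algebraMap Γ(X, W) Γ(X, X.basicOpen g) (a * d) = 0 := by
      rw [map_mul, ← hd, ← mul_assoc, ← hφ, ← map_mul, h, map_zero, zero_mul]
    obtain ⟨m, hm⟩ := (IsLocalization.map_eq_zero_iff (Submonoid.powers g) _ _).1 h1
    have h2 : algebraMap Γ(X, W) L ((m : Γ(X, W)) * d) = 0 := ha (by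
      simp only [smul_eq_mul, mul_zero]
      rw [← map_mul, mul_left_comm, hm, map_zero])
    obtain ⟨⟨f, hf⟩, hfd⟩ := (IsLocalization.map_eq_zero_iff p.primeCompl L _).1 h2
    refine ⟨g, f, hg, hxg, hf, ?_⟩
    change φ (_ * δ) = 0
    rw [map_mul, hφ]
    refine (IsLocalization.map_units Γ(X, X.basicOpen g) (m * c)).mul_right_eq_zero.1 ?_
    rw [Submonoid.coe_mul, map_mul,
      show algebraMap Γ(X, W) Γ(X, X.basicOpen g) m * algebraMap _ _ (c : Γ(X, W)) *
        (algebraMap _ _ f * φ δ) = algebraMap _ _ f * (algebraMap _ _ (m : Γ(X, W)) *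
          (φ δ * algebraMap _ _ (c : Γ(X, W)))) by ring, hd, ← map_mul, ← map_mul, hfd, map_zero]
  choose g f hg hxg hf hzero using loc
  obtain ⟨s, hs⟩ := hc.elim_finite_subcover (fun x : U' => (X.basicOpen (g x) : Set X))
    (fun x => (X.basicOpen (g x)).2) (fun x hx => Set.mem_iUnion.2 ⟨⟨x, hx⟩, hxg ⟨x, hx⟩⟩)
  refine ⟨∏ x ∈ s, f x, fun hmem => ?_, ?_⟩
  · obtain ⟨x, -, hx⟩ := (Ideal.IsPrime.prod_mem_iff).1 hmem
    exact hf x hx
  refine TopCat.Sheaf.eq_of_locally_eq' X.sheaf (fun x : s => X.basicOpen (g x.1)) U'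
    (fun x => homOfLE (hg x.1)) (fun z hz => ?_) _ _ fun x => ?_
  · obtain ⟨x, hx, hz'⟩ := Set.mem_iUnion₂.1 (hs hz)
    exact TopologicalSpace.Opens.mem_iSup.2 ⟨⟨x, hx⟩, hz'⟩
  · classical
    rw [← Finset.prod_erase_mul s f x.2, map_mul, mul_assoc]
    change (X.presheaf.map (homOfLE (hg x.1)).op).hom _ = (X.presheaf.map (homOfLE (hg x.1)).op).hom 0
    rw [map_mul, hzero, mul_zero, map_zero]

variable (hZ : ∀ z : X, z ∉ U → ∃ a b : X.presheaf.stalk z,
  a ∈ IsLocalRing.maximalIdeal (X.presheaf.stalk z) ∧ b ∈ IsLocalRing.maximalIdeal (X.presheaf.stalk z) ∧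
    RingTheory.Sequence.IsWeaklyRegular (X.presheaf.stalk z) [a, b])

omit [QuasiCompact U.ι] in
include hZ in
lemma depth_one : ∀ z : X, z ∉ U → ∃ a ∈ IsLocalRing.maximalIdeal (X.presheaf.stalk z),
    IsSMulRegular (X.presheaf.stalk z) a := fun z hz => by
  obtain ⟨a, b, ha, -, h⟩ := hZ z hz
  exact ⟨a, ha, ((RingTheory.Sequence.isWeaklyRegular_cons_iff _ _ _).1 h).1⟩

include hZ in
lemma bijective_restrict {W : X.Opens} (hW : IsAffineOpen W) {U' : X.Opens} (hU' : U' = W ⊓ U)
    (i : U' ⟶ W) : Function.Bijective (X.presheaf.map i.op) := by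
  let ρ := (X.presheaf.map i.op).hom
  have hinj : Function.Injective ρ := (injective_iff_map_eq_zero ρ).2 fun s hs =>
    Groth.Agent.S14271.section_eq_zero X U (depth_one hZ) W s fun x hx hxU => by
      have hx' : x ∈ U' := hU' ▸ ⟨hx, hxU⟩
      rw [← TopCat.Presheaf.germ_res_apply X.presheaf i x hx' s]
      erw [hs]
      exact map_zero _
  refine ⟨hinj, fun t => ?_⟩
  let A : Ideal Γ(X, W) :=
    { carrier := {r | ∃ x, ρ r * t = ρ x}
      add_mem' := by
        rintro r r' ⟨x, hx⟩ ⟨x', hx'⟩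
        exact ⟨x + x', by rw [map_add, map_add, add_mul, hx, hx']⟩
      zero_mem' := ⟨0, by rw [map_zero, zero_mul]⟩
      smul_mem' := by
        rintro c r ⟨x, hx⟩
        exact ⟨c * x, by rw [smul_eq_mul, map_mul, map_mul, mul_assoc, hx]⟩ }
  suffices h : (1 : Γ(X, W)) ∈ A by
    obtain ⟨x, hx⟩ := h
    exact ⟨x, by rw [map_one, one_mul] at hx; exact hx.symm⟩
  by_contra h1
  obtain ⟨m, hm, hAm⟩ := Ideal.exists_le_maximal A (fun e => h1 (e ▸ Submodule.mem_top))
  obtain ⟨p, hp, -⟩ := Ideal.exists_minimalPrimes_le hAm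
  have hpp : p.IsPrime := hp.1.1
  let y : PrimeSpectrum Γ(X, W) := ⟨p, hpp⟩
  have hyW : hW.fromSpec y ∈ W := by
    have := Set.mem_range_self (f := hW.fromSpec) y
    rwa [hW.range_fromSpec] at this
  let L := X.presheaf.stalk (hW.fromSpec y)
  let _ : Algebra Γ(X, W) L :=
    TopCat.Presheaf.algebra_section_stalk X.presheaf (⟨hW.fromSpec y, hyW⟩ : W)
  have : IsLocalization.AtPrime L p := hW.isLocalization_stalk' y hyW
  have hc : IsCompact (U' : Set X) := hU' ▸ isCompact_inf hW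
  by_cases hzU : hW.fromSpec y ∈ U
  · obtain ⟨g, hg, hyg⟩ := hW.exists_basicOpen_le ⟨hW.fromSpec y, hzU⟩ hyW
    have hgU : X.basicOpen g ≤ U' := by rw [hU']; exact le_inf (X.basicOpen_le g) hg
    have := hW.isLocalization_basicOpen g
    obtain ⟨⟨r, c⟩, hr⟩ := IsLocalization.surj (Submonoid.powers g)
      (X.presheaf.map (homOfLE hgU).op t)
    obtain ⟨c, n, rfl⟩ := c
    dsimp only at hr
    have hφ : ∀ r, X.presheaf.map (homOfLE hgU).op (ρ r) =
        algebraMap Γ(X, W) Γ(X, X.basicOpen g) r := fun r => by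
      change (X.presheaf.map i.op ≫ X.presheaf.map (homOfLE hgU).op).hom r = _
      rw [← Functor.map_comp]
      rfl
    have hb : X.basicOpen (ρ g) ≤ X.basicOpen g := by
      change X.basicOpen (X.presheaf.map i.op g) ≤ _
      rw [Scheme.basicOpen_res]
      exact inf_le_right
    have h0 : X.presheaf.map (homOfLE hgU).op (ρ (g ^ n) * t - ρ r) = 0 := by
      rw [map_sub, map_mul, hφ, hφ, mul_comm]
      erw [hr]
      exact sub_self _
    obtain ⟨m', hm'⟩ := exists_pow_mul_eq_zero_of_res_basicOpen_eq_zero_of_isCompact X hc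
      (ρ (g ^ n) * t - ρ r) (ρ g) (by
        have := congrArg (X.presheaf.map (homOfLE hb).op).hom h0
        rw [map_zero] at this
        erw [← CommRingCat.comp_apply, ← Functor.map_comp] at this
        exact this)
    have hgA : g ^ (m' + n) ∈ A := ⟨g ^ m' * r, by
      rw [mul_sub, sub_eq_zero] at hm'
      rw [pow_add, map_mul, map_mul, mul_assoc, map_pow ρ g m']
      exact hm'⟩
    have hgp : g ∈ p := hpp.mem_of_pow_mem _ (hp.1.2 hgA)
    have hu : IsUnit (algebraMap Γ(X, W) L g) := (X.mem_basicOpen g _ hyW).1 hyg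
    exact (IsLocalization.AtPrime.isUnit_to_map_iff L p g).1 hu hgp
  · obtain ⟨a, b, ha, hb, hreg⟩ : ∃ a b : L, a ∈ IsLocalRing.maximalIdeal L ∧
        b ∈ IsLocalRing.maximalIdeal L ∧ RingTheory.Sequence.IsWeaklyRegular L [a, b] := hZ _ hzU
    rw [RingTheory.Sequence.isWeaklyRegular_cons_iff,
      RingTheory.Sequence.isWeaklyRegular_singleton_iff] at hreg
    obtain ⟨hra, hrb⟩ := hreg
    have hrb' : ∀ x z : L, b * x = a * z → ∃ w, x = a * w := by
      intro x z h
      have h' : x ∈ a • (⊤ : Submodule L L) := mem_of_isSMulRegular_quotient_of_smul_mem hrb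
        ((Submodule.mem_smul_pointwise_iff_exists _ _ _).2 ⟨z, Submodule.mem_top, by
          rw [smul_eq_mul, smul_eq_mul, h]⟩)
      obtain ⟨w, -, hw⟩ := (Submodule.mem_smul_pointwise_iff_exists _ _ _).1 h'
      exact ⟨w, hw.symm⟩
    obtain ⟨⟨a₀, sa⟩, hae⟩ := IsLocalization.surj p.primeCompl a
    obtain ⟨⟨b₀, sb⟩, hbe⟩ := IsLocalization.surj p.primeCompl b
    obtain ⟨ua, hua⟩ := IsLocalization.map_units L sa
    obtain ⟨ub, hub⟩ := IsLocalization.map_units L sb
    dsimp only at hae hbe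
    rw [← hua] at hae
    rw [← hub] at hbe
    have ha0 : IsSMulRegular L (algebraMap Γ(X, W) L a₀) := by
      rw [← hae]
      exact hra.mul (ua.isUnit.isSMulRegular L)
    let I := A.map (algebraMap Γ(X, W) L)
    have key : ∀ r : L, r * a ∈ I → r * b ∈ I → r ∈ I := by
      intro r hra' hrb''
      obtain ⟨⟨r₀, s⟩, hrs⟩ := IsLocalization.surj p.primeCompl r
      dsimp only at hrs
      obtain ⟨us, hus⟩ := IsLocalization.map_units L s
      rw [← hus] at hrs
      suffices h : algebraMap Γ(X, W) L r₀ ∈ I by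
        rw [← hrs] at h
        exact (Ideal.mul_unit_mem_iff_mem I us.isUnit).1 h
      have hA : ∀ r : Γ(X, W), algebraMap Γ(X, W) L r ∈ I → ∃ c ∈ p.primeCompl, c * r ∈ A := by
        intro r hr
        obtain ⟨c, hc, hcr⟩ := (IsLocalization.algebraMap_mem_map_algebraMap_iff p.primeCompl L A r).1 hr
        exact ⟨c, hc, hcr⟩
      obtain ⟨c₁, hc₁, hA₁⟩ := hA (r₀ * a₀) (by
        rw [map_mul, ← hrs, ← hae, show r * (us : L) * (a * ua) = (us * ua) * (r * a) by ring]
        exact Ideal.mul_mem_left _ _ hra')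
      obtain ⟨c₂, hc₂, hA₂⟩ := hA (r₀ * b₀) (by
        rw [map_mul, ← hrs, ← hbe, show r * (us : L) * (b * ub) = (us * ub) * (r * b) by ring]
        exact Ideal.mul_mem_left _ _ hrb'')
      set r₁ := c₁ * c₂ * r₀ with hr₁
      obtain ⟨x, hx⟩ := A.mul_mem_left c₂ hA₁
      obtain ⟨z, hz⟩ := A.mul_mem_left c₁ hA₂
      have hxz : b₀ * x = a₀ * z := hinj (by
        rw [map_mul, map_mul, ← hx, ← hz]
        simp only [map_mul]
        ring)
      have hxz' := congrArg (algebraMap Γ(X, W) L) hxz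
      rw [map_mul, map_mul, ← hae, ← hbe] at hxz'
      obtain ⟨w, hw⟩ := hrb' (ub * algebraMap _ _ x) (ua * algebraMap _ _ z) (by
        rw [← mul_assoc, ← mul_assoc, hxz'])
      have hxa : algebraMap Γ(X, W) L x =
          algebraMap Γ(X, W) L a₀ * (↑ua⁻¹ * ↑ub⁻¹ * w) := by
        rw [← hae, show a * (ua : L) * (↑ua⁻¹ * ↑ub⁻¹ * w) = ((ua : L) * ↑ua⁻¹) * ((↑ub⁻¹ : L) * (a * w))
          by ring, ← hw, Units.mul_inv, one_mul, Units.inv_mul_cancel_left]
      obtain ⟨⟨z₀, c₃⟩, hz₀⟩ := IsLocalization.surj p.primeCompl (↑ua⁻¹ * ↑ub⁻¹ * w : L)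
      dsimp only at hz₀
      have he : algebraMap Γ(X, W) L (x * c₃) = algebraMap Γ(X, W) L (a₀ * z₀) := by
        rw [map_mul, map_mul, hxa, mul_assoc, hz₀]
      obtain ⟨e, he⟩ := IsLocalization.exists_of_eq (M := p.primeCompl) he
      let δ : Γ(X, U') := ρ ((e : Γ(X, W)) * c₃ * r₁) * t - ρ ((e : Γ(X, W)) * z₀)
      have hδ : ρ a₀ * δ = 0 := by
        rw [mul_sub, ← mul_assoc, ← map_mul, ← map_mul,
          show a₀ * ((e : Γ(X, W)) * c₃ * r₁) = e * c₃ * (c₂ * (c₁ * (r₀ * a₀))) by rw [hr₁]; ring,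
          map_mul, mul_assoc, hx, ← map_mul,
          show (e : Γ(X, W)) * c₃ * x = a₀ * (e * z₀) by rw [mul_assoc, mul_comm (c₃ : Γ(X, W)), he]; ring,
          sub_self]
      obtain ⟨f, hf, hfδ⟩ := exists_notMem_mul_eq_zero hW hc i p L a₀ ha0 δ hδ
      have hmem : f * ((e : Γ(X, W)) * c₃ * r₁) ∈ A := ⟨f * (e * z₀), by
        rw [map_mul, mul_assoc, map_mul ρ f]
        exact sub_eq_zero.1 (by rw [← mul_sub]; exact hfδ)⟩
      refine (IsLocalization.algebraMap_mem_map_algebraMap_iff p.primeCompl L A r₀).2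
        ⟨f * ((e : Γ(X, W)) * c₃ * (c₁ * c₂)), ?_, ?_⟩
      · exact p.primeCompl.mul_mem hf (p.primeCompl.mul_mem (p.primeCompl.mul_mem e.2 c₃.2)
          (p.primeCompl.mul_mem hc₁ hc₂))
      · rw [hr₁] at hmem
        convert hmem using 1
        ring
    have hI : I ≠ ⊤ := fun e => by
      have : (1 : L) ∈ I := e ▸ Submodule.mem_top
      rw [← map_one (algebraMap Γ(X, W) L),
        IsLocalization.algebraMap_mem_map_algebraMap_iff p.primeCompl] at this
      obtain ⟨c, hc, hcA⟩ := this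
      exact hc (hp.1.2 (by simpa using hcA))
    have hrad : IsLocalRing.maximalIdeal L ≤ I.radical := by
      intro x hx
      rw [Ideal.radical_eq_sInf, Ideal.mem_sInf]
      rintro Q ⟨hIQ, hQ⟩
      have h1 : A ≤ Q.comap (algebraMap Γ(X, W) L) := Ideal.map_le_iff_le_comap.1 hIQ
      have h2 : Q.comap (algebraMap Γ(X, W) L) ≤ p := fun r hr => by
        by_contra hrp
        exact hQ.ne_top (Ideal.eq_top_of_isUnit_mem _ hr
          (IsLocalization.map_units L (⟨r, hrp⟩ : p.primeCompl)))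
      have h3 : p ≤ Q.comap (algebraMap Γ(X, W) L) := hp.2 ⟨inferInstance, h1⟩ h2
      exact ((IsLocalization.AtPrime.map_eq_maximalIdeal p L).symm.trans_le
        (Ideal.map_le_iff_le_comap.2 h3)) hx
    obtain ⟨na, hna⟩ := hrad ha
    obtain ⟨nb, hnb⟩ := hrad hb
    have hall : ∀ d i j : ℕ, na + nb ≤ i + j + d → a ^ i * b ^ j ∈ I := by
      intro d
      induction d with
      | zero =>
        intro i j h
        rcases le_or_gt na i with h' | h'
        · exact I.mul_mem_right _ (I.pow_mem_of_pow_mem hna h')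
        · exact I.mul_mem_left _ (I.pow_mem_of_pow_mem hnb (by omega))
      | succ d ih =>
        intro i j h
        refine key _ ?_ ?_
        · convert ih (i + 1) j (by omega) using 1; ring
        · convert ih i (j + 1) (by omega) using 1; ring
    exact hI ((Ideal.eq_top_iff_one I).2 (by simpa using hall (na + nb) 0 0 (by omega)))

include hZ in
lemma bijective_app {W : X.Opens} (hW : IsAffineOpen W) : Function.Bijective (U.ι.app W) := by
  rw [Scheme.Opens.ι_app]
  exact bijective_restrict hZ hW (by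
    rw [Scheme.Hom.image_preimage_eq_opensRange_inf, Scheme.Opens.opensRange_ι, inf_comm]) _

include hZ in
lemma existsUnique_extension (Y : Scheme.{u}) (f : Y ⟶ X) [IsAffineHom f]
    (t : (U : Scheme.{u}) ⟶ Y) (ht : t ≫ f = U.ι) :
    ∃! s : X ⟶ Y, s ≫ f = 𝟙 X ∧ U.ι ≫ s = t := by
  have : QuasiCompact (t ≫ f) := ht ▸ inferInstance
  have : QuasiCompact t := QuasiCompact.of_comp t f
  let g := t.imageι ≫ f
  have hfac : t.toImage ≫ g = U.ι := by
    simp only [g]; rw [← Category.assoc, t.toImage_imageι, ht]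
  have : IsIso g := by
    rw [← MorphismProperty.isomorphisms.iff,
      IsZariskiLocalAtTarget.iff_of_iSup_eq_top (P := MorphismProperty.isomorphisms Scheme)
        (fun W : X.affineOpens => (W : X.Opens)) (iSup_affineOpens_eq_top X)]
    rintro ⟨W, hW⟩
    rw [MorphismProperty.isomorphisms.iff, isIso_morphismRestrict_iff_isIso_app _ hW,
      ConcreteCategory.isIso_iff_bijective]
    have hinj : Function.Injective (t.toImage.app (g ⁻¹ᵁ W)) :=
      t.toImage_app_injective (U := ⟨f ⁻¹ᵁ W, hW.preimage f⟩)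
    have hcomp : Function.Bijective
        (fun x => t.toImage.app (g ⁻¹ᵁ W) (g.app W x)) := by
      have h1 : Function.Bijective ((t.toImage ≫ g).app W) := by
        rw [Scheme.Hom.congr_app hfac W]
        have h2 := (ConcreteCategory.bijective_of_isIso
          ((U : Scheme.{u}).presheaf.map (eqToHom (congrArg (· ⁻¹ᵁ W) hfac)).op)).comp
          (bijective_app hZ hW)
        convert h2 using 1
        rfl
      rw [Scheme.Hom.comp_app] at h1
      exact h1
    refine ⟨fun x x' h => hcomp.1 (congrArg (fun z => t.toImage.app (g ⁻¹ᵁ W) z) h), fun x => ?_⟩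
    obtain ⟨w, hw⟩ := hcomp.2 (t.toImage.app (g ⁻¹ᵁ W) x)
    exact ⟨w, hinj hw⟩
  refine ⟨inv g ≫ t.imageι, ⟨?_, ?_⟩, fun s hs => ?_⟩
  · simp [g]
  · rw [← hfac]; simp
  · refine Groth.Agent.S14271.result X U (depth_one hZ) Y f s _ hs.1 (by simp [g]) ?_
    rw [hs.2, ← hfac]
    simp

end Groth.Misc7.DepthTwo
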