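import Mathlib
import Groth.Agent.S5375
import Groth.Agent.Sga3.SubHopfFlat

/-!
Points of Hopf subalgebras extend over an algebraically closed field, without finiteness
hypotheses.
-/

set_option autoImplicit false

universe u

namespace Groth.Misc7.HopfPoints

variable {k : Type u} [Field k] [IsAlgClosed k] {A : Type u} [CommRing A]

/-- Nullstellensatz. -/
lemma exists_point_ne_zero [Algebra k A] [Algebra.FiniteType k A] {f : A} (hf : ¬ IsNilpotent f) :
    ∃ q : A →ₐ[k] k, q f ≠ 0 := by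
  let L := Localization.Away f
  have hne : Nontrivial L := by
    rw [← not_subsingleton_iff_nontrivial]
    intro h
    obtain ⟨n, hn⟩ := (IsLocalization.subsingleton_iff (M := Submonoid.powers f) (S := L)).1 h
    exact hf ⟨n, hn⟩
  have : Algebra.FinitePresentation A L := IsLocalization.Away.finitePresentation f
  have hLfp : Algebra.FiniteType A L := inferInstance
  have : Algebra.FiniteType k L := Algebra.FiniteType.trans ‹Algebra.FiniteType k A› hLfp
  obtain ⟨m, hm⟩ := Ideal.exists_maximal L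
  letI := Ideal.Quotient.field m
  have : Module.Finite k (L ⧸ m) := finite_of_finite_type_of_isJacobsonRing k (L ⧸ m)
  let e : k ≃ₐ[k] L ⧸ m := AlgEquiv.ofBijective (Algebra.ofId k (L ⧸ m))
    (IsAlgClosed.algebraMap_bijective_of_isIntegral (k := k) (K := L ⧸ m))
  refine ⟨(e.symm : (L ⧸ m) →ₐ[k] k).comp ((Ideal.Quotient.mkₐ k m).comp (IsScalarTower.toAlgHom k A L)), ?_⟩
  refine IsUnit.ne_zero ?_
  exact (IsLocalization.Away.algebraMap_isUnit f).map
    ((e.symm : (L ⧸ m) →ₐ[k] k).comp (Ideal.Quotient.mkₐ k m))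

variable [HopfAlgebra k A]

open TensorProduct in
/-- Being a Hopf subalgebra as two inequalities of subalgebras. -/
lemma isHopfSubalgebra_iff (B : Subalgebra k A) :
    SGA3.IsHopfSubalgebra k A B ↔
      B ≤ (Algebra.TensorProduct.map B.val B.val).range.comap (Bialgebra.comulAlgHom k A) ∧
        B ≤ B.comap (HopfAlgebra.antipodeAlgHom k A) :=
  Iff.rfl

lemma range_map_mono {B B' : Subalgebra k A} (h : B ≤ B') :
    (Algebra.TensorProduct.map B.val B.val).range ≤ (Algebra.TensorProduct.map B'.val B'.val).range := by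
  have : Algebra.TensorProduct.map B.val B.val =
      (Algebra.TensorProduct.map B'.val B'.val).comp
        (Algebra.TensorProduct.map (Subalgebra.inclusion h) (Subalgebra.inclusion h)) := by
    rw [← Algebra.TensorProduct.map_comp]
    rfl
  rw [this]
  exact AlgHom.range_comp_le_range _ _

lemma isHopfSubalgebra_iSup {ι : Sort*} (B : ι → Subalgebra k A)
    (h : ∀ i, SGA3.IsHopfSubalgebra k A (B i)) : SGA3.IsHopfSubalgebra k A (⨆ i, B i) := by
  rw [isHopfSubalgebra_iff]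
  refine ⟨iSup_le fun i => ?_, iSup_le fun i => ?_⟩
  · exact ((isHopfSubalgebra_iff _).1 (h i)).1.trans
      fun x hx => range_map_mono (le_iSup B i) hx
  · exact ((isHopfSubalgebra_iff _).1 (h i)).2.trans fun x hx => le_iSup B i hx

/-- A point of a Hopf subalgebra extends to a bigger one containing a given element. -/
lemma exists_extend_step (B : Subalgebra k A) (hB : SGA3.IsHopfSubalgebra k A B) (q : B →ₐ[k] k)
    (x : A) :
    ∃ (B' : Subalgebra k A) (hle : B ≤ B'), x ∈ B' ∧ SGA3.IsHopfSubalgebra k A B' ∧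
      ∃ r : B' →ₐ[k] k, ∀ b : B, r (Subalgebra.inclusion hle b) = q b := by
  obtain ⟨C, hxC, hCfg, hC⟩ := Groth.Agent.S5375.result k A x
  let B' := B ⊔ C
  have hle : B ≤ B' := le_sup_left
  have hB' : SGA3.IsHopfSubalgebra k A B' := by
    have := isHopfSubalgebra_iSup (fun b : Bool => cond b B C) (fun b => by cases b <;> assumption)
    rwa [← sup_eq_iSup] at this
  have hff : Module.FaithfullyFlat B A := Groth.Sga3.SubHopfFlat.faithfullyFlat B hB.1 hB.2
  let ι := Subalgebra.inclusion hle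
  let J : Ideal B' := (RingHom.ker q).map ι
  let φ : B' →ₐ[k] B' ⧸ J := Ideal.Quotient.mkₐ k J
  have hJ : J ≠ ⊤ := by
    intro h
    have hle' : J ≤ ((RingHom.ker q).map (algebraMap B A)).comap B'.val := by
      refine Ideal.map_le_iff_le_comap.2 fun b hb => ?_
      exact Ideal.mem_map_of_mem (algebraMap B A) hb
    have h1 : (RingHom.ker q).map (algebraMap B A) = ⊤ := by
      rw [Ideal.eq_top_iff_one, ← map_one B'.val]
      exact hle' (h ▸ Submodule.mem_top)
    have h2 : (RingHom.ker q).comap (RingHom.id _) ≠ ⊤ := RingHom.ker_ne_top q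
    apply h2
    have := Ideal.comap_map_eq_self_of_faithfullyFlat (A := B) (B := A) (RingHom.ker q)
    rw [h1, Ideal.comap_top] at this
    simpa using this.symm
  have hscal : ∀ b : B, φ (ι b) = algebraMap k (B' ⧸ J) (q b) := fun b => by
    rw [← φ.commutes, ← ι.commutes]
    refine Ideal.Quotient.eq.2 ?_
    rw [← map_sub]
    exact Ideal.mem_map_of_mem ι (by simp [RingHom.mem_ker])
  let j := Subalgebra.inclusion (le_sup_right : C ≤ B')
  have hsurj : Function.Surjective (φ.comp j) := by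
    intro y
    obtain ⟨⟨z, hz⟩, rfl⟩ := Ideal.Quotient.mkₐ_surjective k J y
    induction hz using Algebra.adjoin_induction with
    | mem w hw =>
      rcases hw with hw | hw
      · exact ⟨algebraMap k C (q ⟨w, hw⟩), ((φ.comp j).commutes _).trans (hscal ⟨w, hw⟩).symm⟩
      · exact ⟨⟨w, hw⟩, rfl⟩
    | algebraMap c => exact ⟨algebraMap k C c, ((φ.comp j).commutes _).trans (φ.commutes c).symm⟩
    | add a b _ _ ha hb =>
      obtain ⟨u, hu⟩ := ha
      obtain ⟨v, hv⟩ := hb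
      exact ⟨u + v, by rw [map_add, hu, hv, ← map_add]; rfl⟩
    | mul a b _ _ ha hb =>
      obtain ⟨u, hu⟩ := ha
      obtain ⟨v, hv⟩ := hb
      exact ⟨u * v, by rw [map_mul, hu, hv, ← map_mul]; rfl⟩
  have : Algebra.FiniteType k C := ⟨(Subalgebra.fg_top C).2 hCfg⟩
  have : Algebra.FiniteType k (B' ⧸ J) := Algebra.FiniteType.of_surjective (φ.comp j) hsurj
  have : Nontrivial (B' ⧸ J) := Ideal.Quotient.nontrivial_iff.2 hJ
  obtain ⟨p, -⟩ := exists_point_ne_zero (k := k) (f := (1 : B' ⧸ J)) not_isNilpotent_one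
  exact ⟨B', hle, le_sup_right (a := B) hxC, hB', p.comp φ, fun b => by
    change p (φ (ι b)) = _
    rw [hscal, p.commutes]
    rfl⟩

/-- Points of Hopf subalgebras extend. -/
theorem exists_extend (B : Subalgebra k A) (hB : SGA3.IsHopfSubalgebra k A B) (q : B →ₐ[k] k) :
    ∃ g : A →ₐ[k] k, ∀ b : B, g b = q b := by
  let S : Set (Subalgebra k (A × k)) :=
    {Γ | SGA3.IsHopfSubalgebra k A (Γ.map (AlgHom.fst k A k)) ∧
      ∀ x ∈ Γ, x.1 = 0 → x.2 = 0}
  let G : ∀ (B : Subalgebra k A), (B →ₐ[k] k) → Subalgebra k (A × k) := fun B q =>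
    (B.val.prod q).range
  have hG : ∀ (B : Subalgebra k A) (_ : SGA3.IsHopfSubalgebra k A B) (q : B →ₐ[k] k), G B q ∈ S := by
    intro B hB q
    refine ⟨?_, ?_⟩
    · have : (G B q).map (AlgHom.fst k A k) = B := by
        rw [← AlgHom.range_comp, AlgHom.fst_prod, Subalgebra.range_val]
      rwa [this]
    · rintro _ ⟨b, rfl⟩ h
      have : b = 0 := Subtype.ext h
      simp [this]
  obtain ⟨Γ, hle, hmax⟩ := zorn_le_nonempty₀ S (fun c hc hchain Γ₀ hΓ₀ => by
    refine ⟨sSup c, ⟨?_, ?_⟩, fun z hz => le_sSup hz⟩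
    · rw [sSup_eq_iSup', (Subalgebra.gc_map_comap (AlgHom.fst k A k)).l_iSup]
      exact isHopfSubalgebra_iSup _ fun i => (hc i.2).1
    · intro x hx
      have : Nonempty c := ⟨⟨Γ₀, hΓ₀⟩⟩
      rw [sSup_eq_iSup', ← SetLike.mem_coe,
        Subalgebra.coe_iSup_of_directed hchain.directed, Set.mem_iUnion] at hx
      obtain ⟨i, hi⟩ := hx
      exact (hc i.2).2 x hi) (G B q) (hG B hB q)
  obtain ⟨hΓ, hinj⟩ := hmax.prop
  let f : Γ →ₐ[k] A := (AlgHom.fst k A k).comp Γ.val
  have hf : Function.Injective f := by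
    refine (injective_iff_map_eq_zero f).2 fun x hx => Subtype.ext ?_
    exact Prod.ext hx (hinj x.1 x.2 hx)
  let B₁ := Γ.map (AlgHom.fst k A k)
  let e : Γ ≃ₐ[k] B₁ := AlgEquiv.ofBijective (f.codRestrict B₁ fun x => ⟨x.1, x.2, rfl⟩)
    ⟨fun x y h => hf (congrArg Subtype.val h), by rintro ⟨_, x, hx, rfl⟩; exact ⟨⟨x, hx⟩, rfl⟩⟩
  let q₁ : B₁ →ₐ[k] k := ((AlgHom.snd k A k).comp Γ.val).comp (e.symm : B₁ →ₐ[k] Γ)
  have hfst : ∀ b : B₁, ((e.symm b : Γ) : A × k).1 = b := fun b =>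
    congrArg Subtype.val (e.apply_symm_apply b)
  have hΓle : Γ ≤ G B₁ q₁ := fun x hx => ⟨e ⟨x, hx⟩, Prod.ext rfl (by simp [q₁])⟩
  have htop : B₁ = ⊤ := by
    rw [eq_top_iff]
    intro x _
    obtain ⟨B', hle', hx, hB', r, hr⟩ := exists_extend_step B₁ hΓ q₁ x
    have h1 : G B₁ q₁ ≤ G B' r := by
      rintro _ ⟨b, rfl⟩
      exact ⟨Subalgebra.inclusion hle' b, Prod.ext rfl (hr b)⟩
    exact ⟨(x, r ⟨x, hx⟩), hmax.2 (hG B' hB' r) (hΓle.trans h1) ⟨⟨x, hx⟩, rfl⟩, rfl⟩
  refine ⟨q₁.comp ((AlgHom.id k A).codRestrict B₁ fun x => htop ▸ Algebra.mem_top), fun b => ?_⟩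
  have hb : ((b : A), q b) ∈ Γ := hle ⟨b, rfl⟩
  change q₁ ⟨b, _⟩ = q b
  have : (⟨(b : A), htop.ge Algebra.mem_top⟩ : B₁) = e ⟨_, hb⟩ := rfl
  rw [this]
  simp [q₁]

/-- Some point does not vanish at a given non-nilpotent element. -/
theorem exists_point (f : A) (hf : ¬ IsNilpotent f) : ∃ g : A →ₐ[k] k, g f ≠ 0 := by
  obtain ⟨C, hfC, hCfg, hC⟩ := Groth.Agent.S5375.result k A f
  have : Algebra.FiniteType k C := ⟨(Subalgebra.fg_top C).2 hCfg⟩
  obtain ⟨q, hq⟩ := exists_point_ne_zero (k := k) (f := (⟨f, hfC⟩ : C))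
    (fun ⟨n, hn⟩ => hf ⟨n, congrArg Subtype.val hn⟩)
  obtain ⟨g, hg⟩ := exists_extend C hC q
  exact ⟨g, by rw [← hg ⟨f, hfC⟩] at hq; exact hq⟩

end Groth.Misc7.HopfPoints
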