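import Groth.Agent.Misc7.HopfPointsExtend
import Groth.Agent.Sga3.SubHopfMap

/-!
Rational points of affine group schemes over an algebraically closed field.
-/

set_option autoImplicit false

universe u

open CategoryTheory AlgebraicGeometry MonoidalCategory CartesianMonoidalCategory Opposite

namespace Groth.Misc7.AffineGroupPoints

variable {k : Type u} [Field k]

local notation "S" => Spec (CommRingCat.of k)

lemma exists_hopf (G : Over S) [GrpObj G] [IsAffine G.left] :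
    ∃ (A : CommHopfAlgCat.{u} k), Nonempty ((hopfSpec (CommRingCat.of k)).obj (op A) ≅ (⟨G⟩ : Grp (Over S))) := by
  obtain ⟨A, ⟨e⟩⟩ : (hopfSpec (CommRingCat.of k)).essImage (⟨G⟩ : Grp (Over S)) :=
    essImage_hopfSpec.2 ‹_›
  exact ⟨A.unop, ⟨e⟩⟩

/-- The scheme over `k` underlying a Hopf algebra. -/
noncomputable abbrev specObj (A : CommHopfAlgCat.{u} k) : Over S :=
  ((hopfSpec (CommRingCat.of k)).obj (op A)).X

lemma specObj_hom (A : CommHopfAlgCat.{u} k) :
    (specObj A).hom = Spec.map (CommRingCat.ofHom (algebraMap k A)) := rfl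

/-- The point of an algebra map. -/
noncomputable def point {A : CommHopfAlgCat.{u} k} (g : A →ₐ[k] k) : 𝟙_ (Over S) ⟶ specObj A :=
  Over.homMk (Spec.map (CommRingCat.ofHom g.toRingHom)) (by
    refine (Spec.map_comp _ _).symm.trans ((congrArg Spec.map (?_ : _ = 𝟙 _)).trans (Spec.map_id _))
    exact CommRingCat.hom_ext g.comp_algebraMap)

lemma exists_eq_point {A : CommHopfAlgCat.{u} k} (x : 𝟙_ (Over S) ⟶ specObj A) :
    ∃ g : A →ₐ[k] k, x = point g := by
  obtain ⟨φ, hφ⟩ : ∃ φ : CommRingCat.of A ⟶ CommRingCat.of k, x.left = Spec.map φ :=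
    ⟨Spec.preimage x.left, (Spec.map_preimage x.left).symm⟩
  refine ⟨⟨φ.hom, fun c => ?_⟩, Over.OverMorphism.ext hφ⟩
  have hw : Spec.map φ ≫ Spec.map (CommRingCat.ofHom (algebraMap k A)) = 𝟙 _ := by
    have := Over.w x
    rw [hφ, specObj_hom] at this
    exact this
  rw [← Spec.map_comp, ← Spec.map_id, Spec.map_inj] at hw
  exact congr($hw c)

variable [IsAlgClosed k]

theorem dense_points (G : Over S) [GrpObj G] [IsAffine G.left] :
    Dense {x : ↥G.left | ∃ g : 𝟙_ (Over S) ⟶ G, g.left.base (IsLocalRing.closedPoint k) = x} := by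
  obtain ⟨A, ⟨e⟩⟩ := exists_hopf G
  let e' : specObj A ≅ G := (Grp.forget _).mapIso e
  rw [dense_iff_inter_open]
  rintro U hU ⟨z, hz⟩
  let j : PrimeSpectrum A → G.left := e'.hom.left.base
  obtain ⟨w, hw⟩ : ∃ w, j w = z := ⟨e'.inv.left.base z, by
    change (e'.inv.left ≫ e'.hom.left).base z = z
    rw [← Over.comp_left, e'.inv_hom_id]
    rfl⟩
  obtain ⟨_, ⟨f, rfl⟩, hwf, hfU⟩ := PrimeSpectrum.isTopologicalBasis_basic_opens.exists_subset_of_mem_open
    (show w ∈ j ⁻¹' U by rw [Set.mem_preimage, hw]; exact hz)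
    (hU.preimage e'.hom.left.continuous)
  obtain ⟨g, hg⟩ := Groth.Misc7.HopfPoints.exists_point (k := k) f
    (fun h => hwf ((nilradical_le_prime w.asIdeal) h))
  refine ⟨_, ?_, point g ≫ e'.hom, rfl⟩
  change j ((Spec.map (CommRingCat.ofHom g.toRingHom)).base (IsLocalRing.closedPoint k)) ∈ U
  apply hfU
  change f ∉ ((IsLocalRing.closedPoint k).asIdeal.comap g.toRingHom)
  intro h
  have h' : g f ∈ IsLocalRing.maximalIdeal k := h
  rw [IsLocalRing.maximalIdeal_eq_bot] at h'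
  exact hg h'

theorem exists_lift (G G' : Over S) [GrpObj G] [GrpObj G'] [IsAffine G.left] [IsAffine G'.left]
    (h : G ⟶ G') [IsMonHom h] (hs : Surjective h.left) (x : 𝟙_ (Over S) ⟶ G') :
    ∃ g : 𝟙_ (Over S) ⟶ G, g ≫ h = x := by
  obtain ⟨A, ⟨e⟩⟩ := exists_hopf G
  obtain ⟨B, ⟨e₁⟩⟩ := exists_hopf G'
  let hg : (⟨G⟩ : Grp (Over S)) ⟶ ⟨G'⟩ := Grp.homMk h
  have := (hopfSpec.fullyFaithful (R := CommRingCat.of k)).full
  obtain ⟨ψ', hψ'⟩ := (hopfSpec (CommRingCat.of k)).map_surjective (e.hom ≫ hg ≫ e₁.inv)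
  let ψ : B →ₐc[k] A := ψ'.unop.hom
  let e' : specObj A ≅ G := (Grp.forget _).mapIso e
  let e₁' : specObj B ≅ G' := (Grp.forget _).mapIso e₁
  have hmap : (e'.hom ≫ h ≫ e₁'.inv).left = Spec.map (CommRingCat.ofHom (ψ : B →ₐ[k] A).toRingHom) := by
    have := congrArg (fun t => ((Grp.forget (Over S)).map t).left) hψ'
    exact this.symm
  have : IsIso e'.hom.left := inferInstanceAs (IsIso ((Over.forget _).map e'.hom))
  have : IsIso e₁'.inv.left := inferInstanceAs (IsIso ((Over.forget _).map e₁'.inv))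
  have hsur : Surjective (Spec.map (CommRingCat.ofHom (ψ : B →ₐ[k] A).toRingHom)) := by
    rw [← hmap, Over.comp_left, Over.comp_left]
    have h1 : Surjective e'.hom.left := ⟨fun y => ⟨(inv e'.hom.left).base y, by
      change (inv e'.hom.left ≫ e'.hom.left).base y = y
      simp⟩⟩
    have h2 : Surjective e₁'.inv.left := ⟨fun y => ⟨(inv e₁'.inv.left).base y, by
      change (inv e₁'.inv.left ≫ e₁'.inv.left).base y = y
      simp⟩⟩
    constructor
    exact h2.surj.comp (hs.surj.comp h1.surj)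
  have hnil : ∀ b, ψ b = 0 → IsNilpotent b := fun b hb => by
    rw [nilpotent_iff_mem_prime]
    intro J hJ
    obtain ⟨w, hw⟩ := hsur.surj ⟨J, hJ⟩
    have : b ∈ ((Spec.map (CommRingCat.ofHom (ψ : B →ₐ[k] A).toRingHom)).base w).asIdeal := by
      change ψ b ∈ w.asIdeal
      rw [hb]; exact Ideal.zero_mem _
    rw [hw] at this
    exact this
  obtain ⟨φ, hφ⟩ := exists_eq_point (x ≫ e₁'.inv)
  let q₀ := Ideal.Quotient.liftₐ (RingHom.ker (ψ : B →ₐ[k] A)) φ (fun b hb => ((hnil b hb).map φ).eq_zero)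
  let eR : ((B : Type u) ⧸ RingHom.ker (ψ : B →ₐ[k] A)) ≃ₐ[k] (ψ : B →ₐ[k] A).range :=
    Ideal.quotientKerEquivRange (ψ : B →ₐ[k] A)
  let q : (ψ : B →ₐ[k] A).range →ₐ[k] k := q₀.comp (eR.symm : _ →ₐ[k] _)
  have hB : SGA3.IsHopfSubalgebra k A (ψ : B →ₐ[k] A).range := by
    refine ⟨?_, ?_⟩
    · rintro _ ⟨a, rfl⟩
      refine ⟨TensorProduct.map (ψ : B →ₐ[k] A).rangeRestrict.toLinearMap
        (ψ : B →ₐ[k] A).rangeRestrict.toLinearMap (Coalgebra.comul (R := k) a), ?_⟩
      refine Eq.trans ?_ (CoalgHomClass.map_comp_comul_apply ψ a)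
      generalize Coalgebra.comul (R := k) a = z
      induction z using TensorProduct.induction_on with
      | zero => simp
      | tmul p q => rfl
      | add p q hp hq => simp only [map_add, hp, hq]
    · rintro _ ⟨a, rfl⟩
      exact ⟨HopfAlgebra.antipode k a, Groth.Sga3.SubHopfFlat.map_antipode ψ a⟩
  obtain ⟨g, hg'⟩ := Groth.Misc7.HopfPoints.exists_extend (ψ : B →ₐ[k] A).range hB q
  have hcomp : g.comp (ψ : B →ₐ[k] A) = φ := AlgHom.ext fun b => by
    refine (hg' ⟨ψ b, b, rfl⟩).trans ?_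
    have : eR.symm ⟨ψ b, b, rfl⟩ = Ideal.Quotient.mk _ b := by
      rw [AlgEquiv.symm_apply_eq]
      rfl
    change q₀ (eR.symm ⟨ψ b, b, rfl⟩) = φ b
    rw [this]
    rfl
  refine ⟨point g ≫ e'.hom, ?_⟩
  have key : (point g ≫ e'.hom ≫ h ≫ e₁'.inv) = point φ := by
    apply Over.OverMorphism.ext
    rw [Over.comp_left, hmap, ← hcomp]
    change Spec.map _ ≫ Spec.map _ = Spec.map _
    rw [← Spec.map_comp]
    rfl
  rw [← cancel_mono e₁'.inv, hφ, Category.assoc, Category.assoc, key]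

end Groth.Misc7.AffineGroupPoints
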