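import Groth.Agent.Misc7.Deviation

/-!
Continuous cocycles in several variables on a compact group are deviations.
-/

set_option autoImplicit false

universe u

namespace Groth.Misc7.CompactDeviation

open MeasureTheory Groth.Misc7.Deviation

variable {G : Type u} [TopologicalSpace G] [CompactSpace G] [T2Space G]
  [MeasurableSpace G] [BorelSpace G]

/-- On a finite power of a compact Hausdorff space continuous functions are measurable for the
product σ-algebra. -/
lemma measurable_of_continuous_pi {ι : Type*} [Fintype ι] (f : (ι → G) → ℝ) (hf : Continuous f) :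
    Measurable f := by
  let A : Subalgebra ℝ C(ι → G, ℝ) :=
    { carrier := {F | Measurable F}
      mul_mem' := fun ha hb => Measurable.mul ha hb
      one_mem' := measurable_const
      add_mem' := fun ha hb => Measurable.add ha hb
      zero_mem' := measurable_const
      algebraMap_mem' := fun r => measurable_const }
  have hsep : A.SeparatesPoints := by
    intro x y hxy
    obtain ⟨i, hi⟩ := Function.ne_iff.1 hxy
    obtain ⟨g, h0, h1, -⟩ := exists_continuous_zero_one_of_isClosed (isClosed_singleton (x := x i))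
      (isClosed_singleton (x := y i)) (by simpa using hi)
    refine ⟨_, ⟨g.comp ⟨fun z : ι → G => z i, continuous_apply i⟩,
      g.continuous.measurable.comp (measurable_pi_apply i), rfl⟩, ?_⟩
    simp [h0 (Set.mem_singleton _), h1 (Set.mem_singleton _)]
  have htop := ContinuousMap.subalgebra_topologicalClosure_eq_top_of_separatesPoints A hsep
  have hmem : (⟨f, hf⟩ : C(ι → G, ℝ)) ∈ closure (A : Set C(ι → G, ℝ)) := by
    rw [← Subalgebra.topologicalClosure_coe, htop]
    exact trivial
  obtain ⟨F, hF, hlim⟩ := mem_closure_iff_seq_limit.1 hmem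
  refine measurable_of_tendsto_metrizable (f := fun n => ⇑(F n)) (fun n => hF n) ?_
  rw [tendsto_pi_nhds]
  exact fun x => ((continuous_eval_const x).tendsto _).comp hlim

lemma integrable_pi {ι : Type*} [Fintype ι] (ν : Measure (ι → G)) [IsFiniteMeasure ν]
    (f : (ι → G) → ℝ) (hf : Continuous f) : Integrable f ν := by
  obtain ⟨C, hC⟩ := (isCompact_range hf).isBounded.exists_norm_le
  exact Integrable.of_bound (measurable_of_continuous_pi f hf).aestronglyMeasurable C
    (ae_of_all _ fun x => hC _ ⟨x, rfl⟩)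

lemma integrable_one (μ : Measure G) [IsFiniteMeasure μ] (f : G → ℝ) (hf : Continuous f) :
    Integrable f μ := by
  obtain ⟨C, hC⟩ := (isCompact_range hf).isBounded.exists_norm_le
  exact Integrable.of_bound hf.measurable.aestronglyMeasurable C
    (ae_of_all _ fun x => hC _ ⟨x, rfl⟩)

/-- Integration in the variables of `Y` preserves continuity. -/
lemma continuous_integral {X Y : Type*} [TopologicalSpace X] [TopologicalSpace Y] [CompactSpace Y]
    [MeasurableSpace Y] (ν : Measure Y) [IsProbabilityMeasure ν]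
    (hint : ∀ g : C(Y, ℝ), Integrable g ν) (F : X → Y → ℝ)
    (hF : Continuous (fun p : X × Y => F p.1 p.2)) : Continuous fun x => ∫ y, F x y ∂ν := by
  have hlip : LipschitzWith 1 fun g : C(Y, ℝ) => ∫ y, g y ∂ν := by
    refine LipschitzWith.of_dist_le_mul fun g h => ?_
    rw [dist_eq_norm, dist_eq_norm, ← integral_sub (hint g) (hint h), NNReal.coe_one, one_mul]
    refine (norm_integral_le_of_norm_le_const (C := ‖g - h‖)
      (ae_of_all _ fun y => (g - h).norm_coe_le_norm y)).trans ?_
    simp
  exact hlip.continuous.comp (ContinuousMap.curry ⟨fun p : X × Y => F p.1 p.2, hF⟩).continuous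

variable [AddCommGroup G] [IsTopologicalAddGroup G]

omit [T2Space G] [MeasurableSpace G] [BorelSpace G] in
lemma eq_zero_of_additive (f : G → ℝ) (hf : Continuous f) (h : ∀ a b, f (a + b) = f a + f b)
    (a : G) : f a = 0 := by
  obtain ⟨C, hC⟩ := (isCompact_range hf).isBounded.exists_norm_le
  by_contra ha
  obtain ⟨n, hn⟩ := exists_nat_gt (C / ‖f a‖)
  have h1 := hC (f (n • a)) ⟨_, rfl⟩
  have h2 : f (n • a) = (n : ℝ) * f a := by
    rw [← nsmul_eq_mul]; exact map_nsmul (AddMonoidHom.mk' f h) n a
  rw [h2, norm_mul, Real.norm_natCast] at h1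
  rw [div_lt_iff₀ (norm_pos_iff.2 ha)] at hn
  linarith

/-- The deviation. -/
def dev {G : Type*} [AddCommGroup G] (φ : G → ℝ) {n : ℕ} (x : Fin n → G) : ℝ :=
  altSum φ x - ((-1 : ℤ) ^ n) • φ 0

lemma dev_eq {G : Type*} [AddCommGroup G] (φ : G → ℝ) {n : ℕ} (x : Fin n → G) :
    ∑ I ∈ ((Finset.univ : Finset (Fin n)).powerset.erase ∅),
      (-1 : ℝ) ^ (n + I.card) * φ (∑ i ∈ I, x i) = dev φ x := by
  unfold dev
  rw [← altSum_eq φ x]
  exact Finset.sum_congr rfl fun I _ => by rw [zsmul_eq_mul]; push_cast; rfl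

lemma dev_sub {G : Type*} [AddCommGroup G] (φ ψ : G → ℝ) {n : ℕ} (x : Fin n → G) :
    dev (fun g => φ g - ψ g) x = dev φ x - dev ψ x := by
  rw [← dev_eq, ← dev_eq, ← dev_eq, ← Finset.sum_sub_distrib]
  simp [mul_sub]

lemma dev_neg {G : Type*} [AddCommGroup G] (φ : G → ℝ) {n : ℕ} (x : Fin n → G) :
    dev (fun g => -φ g) x = -dev φ x := by
  rw [← dev_eq, ← dev_eq, ← Finset.sum_neg_distrib]
  simp [mul_neg]

lemma dev_one {G : Type*} [AddCommGroup G] (φ : G → ℝ) (x : Fin 1 → G) : dev φ x = φ (x 0) := by
  rw [← Fin.insertNth_self_removeNth 0 x, dev, altSum_insertNth]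
  simp [altSum]

lemma dev_step {G : Type*} [AddCommGroup G] (φ : G → ℝ) {m : ℕ} (a b : G) (y : Fin m → G) :
    dev φ (Fin.cons (a + b) y : Fin (m + 1) → G) - dev φ (Fin.cons a y : Fin (m + 1) → G)
      - dev φ (Fin.cons b y : Fin (m + 1) → G) =
      dev φ (Fin.cons b (Fin.cons a y : Fin (m + 1) → G) : Fin (m + 1 + 1) → G) := by
  simp only [← Fin.insertNth_zero']
  exact key φ (0 : Fin (m + 1)) a b y

omit [T2Space G] [MeasurableSpace G] [BorelSpace G] in
lemma eq_zero_of_dev (d : G → ℝ) (hd : Continuous d) (k : ℕ)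
    (h : ∀ x : Fin (k + 1) → G, dev d x = 0) : d = 0 := by
  induction k with
  | zero => funext a; simpa [dev_one] using h fun _ => a
  | succ k ih =>
    refine ih fun x => ?_
    rw [← Fin.cons_self_tail x]
    refine eq_zero_of_additive (fun t => dev d (Fin.cons t (Fin.tail x) : Fin (k + 1) → G)) ?_
      (fun a b => ?_) _
    · simp only [← dev_eq]
      fun_prop
    · have := (dev_step d a b (Fin.tail x)).trans (h _)
      linarith

variable (μ : Measure G) [μ.IsAddHaarMeasure] [IsProbabilityMeasure μ]

/-- The cocycle identity in every pair of variables. -/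
def IsCocycle {G : Type*} [AddCommGroup G] {n : ℕ} (ψ : (Fin n → G) → ℝ) : Prop :=
  ∀ (i j : Fin n), i ≠ j → ∀ (x : Fin n → G) (a b c : G),
    ψ (Function.update (Function.update x i (a + b)) j c) + ψ (Function.update (Function.update x i a) j b) =
      ψ (Function.update (Function.update x i a) j (b + c)) + ψ (Function.update (Function.update x i b) j c)

/-- The candidate. -/
noncomputable def phi {m : ℕ} (ψ : (Fin (m + 1) → G) → ℝ) (g : G) : ℝ :=
  (-1 : ℝ) ^ m * ∫ u, ψ (Fin.cons g u) ∂(Measure.pi fun _ : Fin m => μ)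

omit [μ.IsAddHaarMeasure] in
lemma continuous_phi {m : ℕ} (ψ : (Fin (m + 1) → G) → ℝ) (hψ : Continuous ψ) :
    Continuous (phi μ ψ) := by
  refine continuous_const.mul (continuous_integral _ (fun g => integrable_pi _ g g.continuous)
    (fun g (u : Fin m → G) => ψ (Fin.cons g u)) ?_)
  exact hψ.comp (Continuous.finCons (A := fun _ : Fin (m + 1) => G) continuous_fst continuous_snd)

theorem eq_dev (m : ℕ) : ∀ ψ : (Fin (m + 1) → G) → ℝ, Continuous ψ → IsCocycle ψ →
    ∀ x, ψ x = dev (phi μ ψ) x := by
  induction m with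
  | zero =>
    intro ψ _ _ x
    have hx : ∀ u : Fin 0 → G, (Fin.cons (x 0) u : Fin 1 → G) = x := fun u => by
      ext i; fin_cases i; rfl
    simp [dev_one, phi, hx]
  | succ m ih =>
    intro ψ hψc hψ x
    let ψ' : (Fin (m + 1) → G) → ℝ := fun x => ∫ c, ψ (Fin.insertNth 1 c x) ∂μ
    have hins : Continuous fun p : (Fin (m + 1) → G) × G =>
        (Fin.insertNth (α := fun _ => G) 1 p.2 p.1) :=
      Continuous.finInsertNth (A := fun _ : Fin (m + 1 + 1) => G) 1 continuous_snd continuous_fst
    have hψ'c : Continuous ψ' := continuous_integral μ (fun g => integrable_one μ g g.continuous)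
      (fun x c => ψ (Fin.insertNth 1 c x)) (hψc.comp hins)
    have hint : ∀ x : Fin (m + 1) → G, Integrable (fun c => ψ (Fin.insertNth 1 c x)) μ := fun x =>
      integrable_one μ _ (hψc.comp (hins.comp (Continuous.prodMk continuous_const continuous_id)))
    have hψ' : IsCocycle ψ' := by
      intro i j hij x a b c
      have h1 : ∀ e : G, _ := fun e => hψ ((1 : Fin (m + 1 + 1)).succAbove i)
        ((1 : Fin (m + 1 + 1)).succAbove j)
        (fun h => hij (Fin.succAbove_right_injective h)) (Fin.insertNth (α := fun _ => G) 1 e x) a b c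
      simp only [← Fin.insertNth_update] at h1
      simp only [ψ']
      rw [← integral_add (hint _) (hint _), ← integral_add (hint _) (hint _)]
      simp only [h1]
    have hphi : ∀ g, phi μ ψ' g = -phi μ ψ g := by
      intro g
      have hF : Continuous fun u : Fin (m + 1) → G => ψ (Fin.cons g u) :=
        hψc.comp (Continuous.finCons (A := fun _ : Fin (m + 1 + 1) => G) continuous_const continuous_id)
      have hmp := measurePreserving_piFinSuccAbove (fun _ : Fin (m + 1) => μ) 0
      have hi := hmp.symm.integrable_comp_emb (MeasurableEquiv.measurableEmbedding _) (g := fun u : Fin (m + 1) → G => ψ (Fin.cons g u))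
      have hsym : ∀ p : G × (Fin m → G),
          (MeasurableEquiv.piFinSuccAbove (fun _ : Fin (m + 1) => G) 0).symm p = Fin.cons p.1 p.2 :=
        fun p => Fin.insertNth_zero' p.1 p.2
      have hI : Integrable (fun p : G × (Fin m → G) => ψ (Fin.cons g (Fin.cons p.1 p.2)))
          (μ.prod (Measure.pi fun _ : Fin m => μ)) := by
        have := hi.2 (integrable_pi _ _ hF)
        simpa only [Function.comp_def, hsym] using this
      have key : ∫ u, ψ' (Fin.cons g u) ∂(Measure.pi fun _ : Fin m => μ) =
          ∫ u, ψ (Fin.cons g u) ∂(Measure.pi fun _ : Fin (m + 1) => μ) := by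
        rw [← hmp.symm.integral_comp (MeasurableEquiv.measurableEmbedding _)]
        simp only [hsym]
        refine Eq.trans ?_ (integral_prod_symm _ hI).symm
        refine integral_congr_ae (ae_of_all _ fun u => integral_congr_ae (ae_of_all _ fun c => ?_))
        dsimp only
        rw [← Fin.succ_zero_eq_one, Fin.insertNth_succ_cons, Fin.insertNth_zero']
      simp only [phi, key, pow_succ]
      ring
    have hsplit : x = (Fin.cons (x 0) (Fin.cons (x 1) (Fin.tail (Fin.tail x)) : Fin (m + 1) → G)) := by
      conv_lhs => rw [← Fin.cons_self_tail x, ← Fin.cons_self_tail (Fin.tail x)]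
      rfl
    generalize x 0 = a, x 1 = b, Fin.tail (Fin.tail x) = y at hsplit
    subst hsplit
    have hupd : ∀ p q : G, Function.update (Function.update
        (Fin.cons 0 (Fin.cons 0 y : Fin (m + 1) → G) : Fin (m + 1 + 1) → G) 0 p) 1 q =
          Fin.cons p (Fin.cons q y : Fin (m + 1) → G) := fun p q => by
      rw [Fin.update_cons_zero, ← Fin.succ_zero_eq_one, ← Fin.cons_update, Fin.update_cons_zero]
    have h1 : ∀ c : G, _ := fun c => hψ 0 1 (by simp) (Fin.cons 0 (Fin.cons 0 y : Fin (m + 1) → G)) a b c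
    simp only [hupd] at h1
    have hins' : ∀ (c p : G), Fin.insertNth (α := fun _ => G) 1 c (Fin.cons p y : Fin (m + 1) → G) =
        Fin.cons p (Fin.cons c y : Fin (m + 1) → G) := fun c p => by
      rw [← Fin.succ_zero_eq_one, Fin.insertNth_succ_cons, Fin.insertNth_zero']
    have hI : ∀ p : G, Integrable (fun c => ψ (Fin.cons p (Fin.cons c y : Fin (m + 1) → G))) μ :=
      fun p => by simpa only [hins'] using hint (Fin.cons p y)
    have h2 : ψ' (Fin.cons (a + b) y) + ψ (Fin.cons a (Fin.cons b y : Fin (m + 1) → G)) =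
        ψ' (Fin.cons a y) + ψ' (Fin.cons b y) := by
      simp only [ψ', hins']
      have hI' : Integrable (fun c => ψ (Fin.cons a (Fin.cons (b + c) y : Fin (m + 1) → G))) μ :=
        integrable_one μ _ (hψc.comp (Continuous.finCons (A := fun _ : Fin (m + 1 + 1) => G)
          continuous_const (Continuous.finCons (A := fun _ : Fin (m + 1) => G)
            (continuous_const.add continuous_id) continuous_const)))
      have := congrArg (fun F : G → ℝ => ∫ c, F c ∂μ) (funext h1)
      rw [integral_add (hI _) (integrable_const _), integral_add hI' (hI b),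
        integral_const,
        integral_add_left_eq_self (fun c => ψ (Fin.cons a (Fin.cons c y : Fin (m + 1) → G))) b] at this
      simpa using this
    have hn : phi μ ψ = fun g => -phi μ ψ' g := funext fun g => by rw [hphi, neg_neg]
    rw [hn, dev_neg, ← dev_step (phi μ ψ') b a y, ← ih ψ' hψ'c hψ', ← ih ψ' hψ'c hψ',
      ← ih ψ' hψ'c hψ', add_comm b a]
    linarith

theorem main {m : ℕ} (ψ : (Fin (m + 1) → G) → ℝ) (hψc : Continuous ψ) (hψ : IsCocycle ψ) :
    (∀ x : Fin (m + 1) → G,
      ψ x = ∑ I ∈ ((Finset.univ : Finset (Fin (m + 1))).powerset.erase ∅),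
        (-1 : ℝ) ^ (m + 1 + I.card) * phi μ ψ (∑ i ∈ I, x i)) ∧
    Continuous (phi μ ψ) ∧
    (∀ φ : G → ℝ, Continuous φ → (∀ x : Fin (m + 1) → G,
      ψ x = ∑ I ∈ ((Finset.univ : Finset (Fin (m + 1))).powerset.erase ∅),
        (-1 : ℝ) ^ (m + 1 + I.card) * φ (∑ i ∈ I, x i)) → φ = phi μ ψ) := by
  refine ⟨fun x => by rw [dev_eq]; exact eq_dev μ m ψ hψc hψ x, continuous_phi μ ψ hψc,
    fun φ hφ h => ?_⟩
  have := eq_zero_of_dev (fun g => φ g - phi μ ψ g) (hφ.sub (continuous_phi μ ψ hψc)) m fun x => by
    rw [dev_sub, ← dev_eq φ, ← h x, ← eq_dev μ m ψ hψc hψ x, sub_self]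
  exact funext fun g => sub_eq_zero.1 (congrFun this g)

end Groth.Misc7.CompactDeviation
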