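import Groth.Agent.Misc7.VirtualCotangent
import Groth.Agent.OmegaSheaf.ConormalTrans
import Groth.Agent.OmegaSheaf.DiffSequence
import Groth.Agent.SchemeMorphisms.PrinParts.DiffSeq
import Groth.Agent.FlatmorThree.SmoothLift
import Groth.Agent.KTheory.KvbPull
import Groth.Agent.PicAux.Pullback
import Groth.Agent.S5975
import Groth.Prelude.Def_DCoh2
import Mathlib

/-!
# The cotangent complex of a smooth factorisation does not depend on the factorisation
-/

set_option autoImplicit false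
attribute [local instance] HasDerivedCategory.standard

universe u

open CategoryTheory Limits AlgebraicGeometry TopologicalSpace Opposite HomologicalComplex

namespace Groth.Misc7.CotangentComplex

open Groth.OmegaSheaf Groth.Misc7.VirtualCotangent
open Groth.PicAux (pullSec pullSec_map)

theorem pullbackComp_inv_pullSec' {Z Y X : Scheme.{u}} (f : Z ⟶ Y) (g : Y ⟶ X) (M : X.Modules)
    {U : X.Opens} (m : Γ(M, U)) :
    ((Scheme.Modules.pullbackComp f g).inv.app M).app ((f ≫ g) ⁻¹ᵁ U) (pullSec (f ≫ g) M m) =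
      pullSec f ((Scheme.Modules.pullback g).obj M) (pullSec g M m) := by
  rw [← Groth.PicAux.pullSec_comp f g M m]
  exact congr(($(Iso.hom_inv_id_app (Scheme.Modules.pullbackComp f g) M)).app (f ⁻¹ᵁ g ⁻¹ᵁ U)
    (pullSec f ((Scheme.Modules.pullback g).obj M) (pullSec g M m)))

theorem rel_neg_one : (ComplexShape.up ℤ).Rel (-1 : ℤ) 0 := neg_add_cancel (1 : ℤ)

theorem neg_one_ne_zero' : (-1 : ℤ) ≠ 0 := by norm_num

section Double

variable {C : Type*} [Category C] [Abelian C]

/-- The map of two-term complexes given by a commutative square. -/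
noncomputable def doubleMap {A B A' B' : C} (φ : A ⟶ B) (φ' : A' ⟶ B') (a : A ⟶ A') (b : B ⟶ B')
    (w : a ≫ φ' = φ ≫ b) : double φ rel_neg_one ⟶ double φ' rel_neg_one :=
  mkHomFromDouble rel_neg_one neg_one_ne_zero'
    (a ≫ (doubleXIso₀ φ' rel_neg_one).inv) (b ≫ (doubleXIso₁ φ' rel_neg_one neg_one_ne_zero').inv)
    (by rw [double_d φ' rel_neg_one neg_one_ne_zero']; simp [reassoc_of% w])
    (fun k _ => by rw [double_d_eq_zero₀ _ _ _ _ (by norm_num), comp_zero])

theorem exactAt_double_id (Q : C) (i : ℤ) : (double (𝟙 Q) rel_neg_one).ExactAt i := by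
  rw [exactAt_iff_isZero_homology, IsZero.iff_id_eq_zero]
  by_cases h₀ : i = -1
  · subst h₀
    rw [← cancel_epi ((double (𝟙 Q) rel_neg_one).homologyπ (-1))]
    have : Mono ((double (𝟙 Q) rel_neg_one).d (-1) 0) := by
      rw [double_d _ rel_neg_one neg_one_ne_zero']
      infer_instance
    have h : (double (𝟙 Q) rel_neg_one).iCycles (-1) = 0 := by
      rw [← cancel_mono ((double (𝟙 Q) rel_neg_one).d (-1) 0)]; simp
    have h' : 𝟙 ((double (𝟙 Q) rel_neg_one).cycles (-1)) = 0 := by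
      rw [← cancel_mono ((double (𝟙 Q) rel_neg_one).iCycles (-1)), Category.id_comp, h, zero_comp]
    rw [← Category.id_comp ((double (𝟙 Q) rel_neg_one).homologyπ (-1)), h']; simp
  by_cases h₁ : i = 0
  · subst h₁
    have : Epi ((double (𝟙 Q) rel_neg_one).d (-1) 0) := by
      rw [double_d _ rel_neg_one neg_one_ne_zero']
      infer_instance
    have : Epi ((double (𝟙 Q) rel_neg_one).toCycles (-1) 0) := by
      have : Mono ((double (𝟙 Q) rel_neg_one).iCycles 0) := inferInstance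
      have h : IsIso ((double (𝟙 Q) rel_neg_one).iCycles 0) :=
        HomologicalComplex.isIso_iCycles _ 0 1 (by simp) (double_d_eq_zero₀ _ _ _ _ (by norm_num))
      rw [show (double (𝟙 Q) rel_neg_one).toCycles (-1) 0 =
        (double (𝟙 Q) rel_neg_one).d (-1) 0 ≫ inv ((double (𝟙 Q) rel_neg_one).iCycles 0) by
          rw [IsIso.eq_comp_inv]; simp]
      infer_instance
    rw [← cancel_epi ((double (𝟙 Q) rel_neg_one).homologyπ 0),
      ← cancel_epi ((double (𝟙 Q) rel_neg_one).toCycles (-1) 0)]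
    simp
  · rw [← IsZero.iff_id_eq_zero, ← exactAt_iff_isZero_homology]
    exact ShortComplex.exact_of_isZero_X₂ _ (isZero_double_X (𝟙 Q) rel_neg_one i h₀ h₁)

/-- A map of two-term complexes inside a map of short exact sequences with the same quotient is a
quasi-isomorphism. -/
theorem quasiIso_doubleMap {A B A' B' Q : C} (φ : A ⟶ B) (φ' : A' ⟶ B') (a : A ⟶ A') (b : B ⟶ B')
    (w : a ≫ φ' = φ ≫ b) (p : A' ⟶ Q) (q : B' ⟶ Q) (wp : a ≫ p = 0) (wq : b ≫ q = 0)
    (hp : (ShortComplex.mk a p wp).ShortExact) (hq : (ShortComplex.mk b q wq).ShortExact)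
    (hpq : φ' ≫ q = p) : _root_.QuasiIso (doubleMap φ φ' a b w) := by
  let g := doubleMap φ' (𝟙 Q) p q (by rw [Category.comp_id, hpq])
  have hfg : doubleMap φ φ' a b w ≫ g = 0 := by
    ext <;> simp [g, doubleMap, reassoc_of% wp, reassoc_of% wq]
  let S := ShortComplex.mk (doubleMap φ φ' a b w) g hfg
  have hS : S.ShortExact := by
    refine HomologicalComplex.shortExact_of_degreewise_shortExact S fun i => ?_
    by_cases h₀ : i = -1
    · subst h₀
      refine ShortComplex.shortExact_of_iso (ShortComplex.isoMk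
        (doubleXIso₀ φ rel_neg_one).symm (doubleXIso₀ φ' rel_neg_one).symm
        (doubleXIso₀ (𝟙 Q) rel_neg_one).symm ?_ ?_) hp
      · simp [S, doubleMap]; exact Iso.inv_hom_id_assoc _ _
      · simp [S, g, doubleMap]; exact Iso.inv_hom_id_assoc _ _
    by_cases h₁ : i = 0
    · subst h₁
      refine ShortComplex.shortExact_of_iso (ShortComplex.isoMk
        (doubleXIso₁ φ rel_neg_one neg_one_ne_zero').symm
        (doubleXIso₁ φ' rel_neg_one neg_one_ne_zero').symm
        (doubleXIso₁ (𝟙 Q) rel_neg_one neg_one_ne_zero').symm ?_ ?_) hq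
      · simp [S, doubleMap]; exact Iso.inv_hom_id_assoc _ _
      · simp [S, g, doubleMap]; exact Iso.inv_hom_id_assoc _ _
    · have z1 : IsZero (S.map (HomologicalComplex.eval _ _ i)).X₁ :=
        isZero_double_X φ rel_neg_one i h₀ h₁
      have z2 : IsZero (S.map (HomologicalComplex.eval _ _ i)).X₂ :=
        isZero_double_X φ' rel_neg_one i h₀ h₁
      have z3 : IsZero (S.map (HomologicalComplex.eval _ _ i)).X₃ :=
        isZero_double_X (𝟙 Q) rel_neg_one i h₀ h₁
      exact { exact := ShortComplex.exact_of_isZero_X₂ _ z2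
              mono_f := ⟨fun g h _ => z1.eq_of_tgt g h⟩
              epi_g := ⟨fun g h _ => z3.eq_of_src g h⟩ }
  refine ⟨fun i => ?_⟩
  rw [quasiIsoAt_iff_isIso_homologyMap]
  have h3 : ∀ j, IsZero (S.X₃.homology j) := fun j =>
    (exactAt_iff_isZero_homology _ _).1 (exactAt_double_id Q j)
  have : Epi (HomologicalComplex.homologyMap S.f i) :=
    (hS.homology_exact₂ i).epi_f ((h3 i).eq_of_tgt _ _)
  have : Mono (HomologicalComplex.homologyMap S.f i) :=
    (hS.homology_exact₁ (i - 1) i (by simp)).mono_g ((h3 (i - 1)).eq_of_src _ _)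
  exact isIso_of_mono_of_epi _

end Double

/-- The comparison of a factorisation with a finer one. -/
theorem nonempty_toD_iso {X Y V W : Scheme.{u}} (g : V ⟶ Y) [Smooth g] (p : W ⟶ V) [Smooth p]
    (h : W ⟶ Y) (hpg : p ≫ g = h) (j : X ⟶ W) [IsClosedImmersion j] (i : X ⟶ V)
    [IsClosedImmersion i] (hji : j ≫ p = i)
    {Ω : V.Modules} {d : OmegaSh.Der g Ω} (hd : OmegaSh.IsUniversal d)
    {ΩW : W.Modules} {dW : OmegaSh.Der h ΩW} (hdW : OmegaSh.IsUniversal dW)
    (φ : Omega.conormal i ⟶ (Scheme.Modules.pullback i).obj Ω) (hφ : OmegaSh.IsConormalDiff i d φ)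
    (φW : Omega.conormal j ⟶ (Scheme.Modules.pullback j).obj ΩW)
    (hφW : OmegaSh.IsConormalDiff j dW φW) :
    Nonempty (DCoh.toD X (double φ rel_neg_one) ≅ DCoh.toD X (double φW rel_neg_one)) := by
  subst hji; subst hpg
  obtain ⟨Ωp, dp, hdp⟩ := Groth.Misc7.OmegaExists.exists_isUniversal p
  obtain ⟨c₁, hc₁, -⟩ := existsUnique_isDiffCompat (h := p) (d₂ := dW) hd
    (g := 𝟙 Y) (Category.comp_id _).symm
  obtain ⟨c₂, hc₂, -⟩ := existsUnique_isDiffCompat (h := 𝟙 W) (d₂ := dp) hdW (g := g)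
    (Category.id_comp _)
  let c₂' : ΩW ⟶ Ωp := (Scheme.Modules.pullbackId W).inv.app ΩW ≫ c₂
  obtain ⟨-, heq⟩ := Groth.Agent.S5975.result p g Ω d hd ΩW dW hdW Ωp dp hdp c₁ hc₁ c₂ hc₂
  have w : c₁ ≫ c₂' = 0 := by
    rw [← imageSubobject_arrow_comp c₁, Category.assoc,
      ← Subobject.ofLE_arrow (le_of_eq heq), Category.assoc, kernelSubobject_arrow_comp,
      comp_zero, comp_zero]
  have hc₂e : Epi c₂ :=
    (Groth.Agent.S5975.result p g Ω d hd ΩW dW hdW Ωp dp hdp c₁ hc₁ c₂ hc₂).1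
  have : Epi c₂' := by
    have : Epi ((Scheme.Modules.pullbackId W).inv.app ΩW) :=
      (inferInstance : Epi ((Scheme.Modules.pullbackId W).app ΩW).inv)
    exact epi_comp' this hc₂e
  have : Mono c₁ := mono_of_formallySmooth
    (Groth.FlatmorThree.SmoothLift.isFormallySmoothHom_of_smooth p) hd hdW hc₁
  have hΩseq : (ShortComplex.mk c₁ c₂' w).ShortExact :=
    ⟨(ShortComplex.exact_iff_image_eq_kernel _).2 heq⟩
  have hq := Groth.KTheory.KvbPull.shortExact_pullback j hΩseq
    (Groth.LocFree.isFinLocFree_pullback p (isFinLocFree_of_isUniversal g hd))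
    (isFinLocFree_of_isUniversal (p ≫ g) hdW) (isFinLocFree_of_isUniversal p hdp)
  obtain ⟨ψ, hψ, -⟩ :=
    existsUnique_isConormalMap j (j ≫ p) p (𝟙 X) (Category.id_comp _)
  let ψ' : Omega.conormal (j ≫ p) ⟶ Omega.conormal j :=
    (Scheme.Modules.pullbackId X).inv.app _ ≫ ψ
  obtain ⟨φp, hφp, -⟩ := existsUnique_isConormalDiff (i := j) (d := dp)
  have w1 := conormalMap_comp_conormalDiff hψ hφp
  have : Mono ψ := conormalMap_mono hψ
  have : Epi φp := conormalDiff_epi hdp hφp
  have hψseq : (ShortComplex.mk ψ φp w1).ShortExact := ⟨conormalMap_exact hdp hψ hφp w1⟩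
  have w1' : ψ' ≫ φp = 0 := (Category.assoc _ _ _).trans ((congrArg _ w1).trans comp_zero)
  have hp' : (ShortComplex.mk ψ' φp w1').ShortExact :=
    ShortComplex.shortExact_of_iso (ShortComplex.isoMk (S₁ := ShortComplex.mk ψ φp w1) (S₂ := ShortComplex.mk ψ' φp w1') ((Scheme.Modules.pullbackId X).app _)
      (Iso.refl _) (Iso.refl _)
      ((Iso.hom_inv_id_assoc ((Scheme.Modules.pullbackId X).app _) ψ).trans (Category.comp_id ψ).symm)
      ((Category.id_comp φp).trans (Category.comp_id φp).symm)) hψseq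
  let φ₀ : Omega.conormal (j ≫ p) ⟶
      (Scheme.Modules.pullback j).obj ((Scheme.Modules.pullback p).obj Ω) :=
    φ ≫ (Scheme.Modules.pullbackComp j p).inv.app Ω
  have hdp' : ∀ (T : W.Opens) (s : Γ(W, T)), c₂'.app T (dW.app T s) = dp.app T s := fun T s => by
    change c₂.app T (((Scheme.Modules.pullbackId W).inv.app ΩW).app T (dW.app T s)) = _
    rw [pullbackId_inv_app]
    refine (hc₂ T s).trans ?_
    rw [Scheme.Hom.id_app]
    rfl
  have h2 : φW ≫ (Scheme.Modules.pullback j).map c₂' = φp := by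
    obtain ⟨_, -, huniq⟩ := existsUnique_isConormalDiff (i := j) (d := dp)
    refine (huniq _ fun T s => ?_).trans (huniq _ hφp).symm
    change ((Scheme.Modules.pullback j).map c₂').app _
      (φW.app _ (OmegaSh.conormalSect j T s)) = _
    rw [hφW T s]
    exact (pullSec_map (f := j) c₂' _).trans (congrArg (pullSec j Ωp) (hdp' T _))
  have h1 : ψ' ≫ φW = φ₀ ≫ (Scheme.Modules.pullback j).map c₁ := by
    refine conormal_hom_ext fun T t => ?_
    obtain ⟨s, hs⟩ := exists_lift_base (i := j) (p := p) T t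
    have hψt : ψ'.app _ (OmegaSh.conormalSect (j ≫ p) T t) =
        OmegaSh.conormalSect j (p ⁻¹ᵁ T) s := by
      change ψ.app _ (((Scheme.Modules.pullbackId X).inv.app _).app _ _) = _
      rw [pullbackId_inv_app]
      have h := hψ.2 T t s hs (𝟙 X ⁻¹ᵁ ((j ≫ p) ⁻¹ᵁ T)) le_rfl le_rfl
      exact ((Groth.QCohMod.res_self _ _).symm.trans h).trans (Groth.QCohMod.res_self _ _)
    change φW.app _ (ψ'.app _ (OmegaSh.conormalSect (j ≫ p) T t)) =
      ((Scheme.Modules.pullback j).map c₁).app _ (((Scheme.Modules.pullbackComp j p).inv.app Ω).app _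
        (φ.app _ (OmegaSh.conormalSect (j ≫ p) T t)))
    rw [hψt, hφ T t]
    erw [pullbackComp_inv_pullSec' j p Ω]
    refine (hφW (p ⁻¹ᵁ T) s).trans ?_
    rw [hs]
    exact ((pullSec_map (f := j) c₁ _).trans (congrArg (pullSec j ΩW) (hc₁ T _))).symm
  have := quasiIso_doubleMap φ₀ φW ψ' ((Scheme.Modules.pullback j).map c₁) h1 φp
    ((Scheme.Modules.pullback j).map c₂') w1' (by rw [← Functor.map_comp, w, Functor.map_zero])
    hp' hq h2
  let m₀ := doubleMap φ φ₀ (𝟙 _) ((Scheme.Modules.pullbackComp j p).inv.app Ω) (Category.id_comp _)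
  have : IsIso m₀ := by
    refine ⟨doubleMap φ₀ φ (𝟙 _) ((Scheme.Modules.pullbackComp j p).hom.app Ω) ?_, ?_, ?_⟩
    · simp [φ₀]
    · ext <;> simp [m₀, doubleMap]
    · ext <;> simp [m₀, doubleMap]
  exact ⟨(DerivedCategory.Q.mapIso (asIso m₀)) ≪≫
    asIso (DerivedCategory.Q.map (doubleMap φ₀ φW ψ' ((Scheme.Modules.pullback j).map c₁) h1))⟩

/-- Two factorisations have isomorphic cotangent complexes. -/
theorem nonempty_toD_iso_two {X Y V V' : Scheme.{u}} (f : X ⟶ Y) (g : V ⟶ Y) [Smooth g] (i : X ⟶ V)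
    [IsClosedImmersion i] (hi : i ≫ g = f) (g' : V' ⟶ Y) [Smooth g'] (i' : X ⟶ V')
    [IsClosedImmersion i'] (hi' : i' ≫ g' = f)
    {Ω : V.Modules} {d : OmegaSh.Der g Ω} (hd : OmegaSh.IsUniversal d)
    {Ω' : V'.Modules} {d' : OmegaSh.Der g' Ω'} (hd' : OmegaSh.IsUniversal d')
    (φ : Omega.conormal i ⟶ (Scheme.Modules.pullback i).obj Ω) (hφ : OmegaSh.IsConormalDiff i d φ)
    (φ' : Omega.conormal i' ⟶ (Scheme.Modules.pullback i').obj Ω')
    (hφ' : OmegaSh.IsConormalDiff i' d' φ') :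
    Nonempty (DCoh.toD X (double φ rel_neg_one) ≅ DCoh.toD X (double φ' rel_neg_one)) := by
  let k : X ⟶ pullback g g' := pullback.lift i i' (hi.trans hi'.symm)
  have : IsImmersion (k ≫ pullback.fst g g') := by rw [pullback.lift_fst]; infer_instance
  have : IsImmersion k := IsImmersion.of_comp k (pullback.fst g g')
  let W := k.coborderRange
  have h1 : k.liftCoborder ≫ W.ι ≫ pullback.fst g g' = i := by
    rw [← Category.assoc, Scheme.Hom.liftCoborder_ι, pullback.lift_fst]
  have h2 : k.liftCoborder ≫ W.ι ≫ pullback.snd g g' = i' := by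
    rw [← Category.assoc, Scheme.Hom.liftCoborder_ι, pullback.lift_snd]
  obtain ⟨ΩW, dW, hdW⟩ :=
    Groth.Misc7.OmegaExists.exists_isUniversal ((W.ι ≫ pullback.fst g g') ≫ g)
  have hh : (W.ι ≫ pullback.snd g g') ≫ g' = (W.ι ≫ pullback.fst g g') ≫ g := by
    rw [Category.assoc, Category.assoc, pullback.condition]
  obtain ⟨φW, hφW, -⟩ := existsUnique_isConormalDiff (i := k.liftCoborder) (d := dW)
  obtain ⟨e⟩ := nonempty_toD_iso g (W.ι ≫ pullback.fst g g') _ rfl k.liftCoborder i h1 hd hdW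
    φ hφ φW hφW
  obtain ⟨e'⟩ := nonempty_toD_iso g' (W.ι ≫ pullback.snd g g') _ hh k.liftCoborder i' h2 hd' hdW
    φ' hφ' φW hφW
  exact ⟨e ≪≫ e'.symm⟩

end Groth.Misc7.CotangentComplex
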