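import Mathlib

namespace Groth.Misc7.DetVanish

universe u v

lemma det_eq_zero_of_block {R : Type u} [CommRing R] {n : Type*} [Fintype n] [DecidableEq n]
    (M : Matrix n n R) (S T : Finset n) (h : ∀ i ∈ S, ∀ j ∈ T, M i j = 0)
    (hcard : Fintype.card n < S.card + T.card) : M.det = 0 := by
  rw [Matrix.det_apply]
  refine Finset.sum_eq_zero fun σ _ => ?_
  obtain ⟨j, hjT, hjS⟩ : ∃ j ∈ T, σ j ∈ S := by
    by_contra hc
    push Not at hc
    have hd : Disjoint (T.map σ.toEmbedding) S := Finset.disjoint_left.2 fun x hx => by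
      obtain ⟨j, hj, rfl⟩ := Finset.mem_map.1 hx
      exact hc j hj
    have := Finset.card_union_of_disjoint hd ▸ Finset.card_le_univ (T.map σ.toEmbedding ∪ S)
    rw [Finset.card_map] at this
    omega
  rw [Finset.prod_eq_zero (f := fun i => M (σ i) i) (Finset.mem_univ j) (h _ hjS _ hjT), smul_zero]

lemma det_eq_zero_of_rows_local {A : Type u} [CommRing A] [IsLocalRing A] {n : ℕ}
    {P : Type v} [AddCommGroup P] [Module A P] [Module.Free A P] [Module.Finite A P]
    (π : (Fin n → A) →ₗ[A] P) (hπ : Function.Surjective π)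
    (a : Matrix (Fin n) (Fin n) A) (S : Finset (Fin n)) (hS : ∀ i ∈ S, π (a i) = 0)
    (hcard : n < S.card + Module.finrank A P) : a.det = 0 := by
  classical
  obtain ⟨s, hs⟩ := Module.projective_lifting_property π LinearMap.id hπ
  let q : (Fin n → A) →ₗ[A] LinearMap.ker π :=
    (LinearMap.id - s ∘ₗ π).codRestrict _ fun x => by
      simp [LinearMap.mem_ker, show π (s (π x)) = π x from LinearMap.congr_fun hs (π x)]
  let E : (Fin n → A) ≃ₗ[A] (LinearMap.ker π) × P :=
    LinearEquiv.ofLinear (q.prod π) ((LinearMap.ker π).subtype.coprod s)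
      (by
        apply LinearMap.ext
        rintro ⟨x, p⟩
        have h1 : π (s p) = p := LinearMap.congr_fun hs p
        have h2 : π (x : Fin n → A) = 0 := x.2
        refine Prod.ext (Subtype.ext ?_) ?_
        · simp [q, h1, h2]
        · simp [h1, h2])
      (by ext x; simp [q])
  have : Module.Finite A (LinearMap.ker π) := Module.Finite.of_surjective q fun x =>
    ⟨x, Subtype.ext (by simp [q, show π (x : Fin n → A) = 0 from x.2])⟩
  have : Module.Projective A (LinearMap.ker π) := Module.Projective.of_split
    ((LinearMap.ker π).subtype) q (by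
      ext x : 1
      exact Subtype.ext (by simp [q, show π (x : Fin n → A) = 0 from x.2]))
  have : Module.Free A (LinearMap.ker π) := Module.free_of_flat_of_isLocalRing
  let bK := Module.Free.chooseBasis A (LinearMap.ker π)
  let bP := Module.Free.chooseBasis A P
  let e₀ := (bK.prod bP).map E.symm
  let σ : (Module.Free.ChooseBasisIndex A (LinearMap.ker π) ⊕ Module.Free.ChooseBasisIndex A P) ≃ Fin n :=
    e₀.indexEquiv (Pi.basisFun A (Fin n))
  let e := e₀.reindex σ
  have hdet : (e.toMatrix a).det = 0 := by
    refine det_eq_zero_of_block _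
      ((Finset.univ.map Function.Embedding.inr).map σ.toEmbedding) S ?_ ?_
    · intro r hr i hi
      simp only [Finset.mem_map, Finset.mem_univ, true_and, Function.Embedding.inr_apply,
        Equiv.coe_toEmbedding] at hr
      obtain ⟨_, ⟨l, rfl⟩, rfl⟩ := hr
      change (e₀.reindex σ).repr (a i) (σ (Sum.inr l)) = 0
      rw [Module.Basis.repr_reindex_apply, Equiv.symm_apply_apply]
      change (bK.prod bP).repr (E (a i)) (Sum.inr l) = 0
      rw [Module.Basis.prod_repr_inr, show (E (a i)).2 = 0 from hS i hi, map_zero, Finsupp.zero_apply]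
    · simp only [Finset.card_map, Finset.card_univ, Fintype.card_fin]
      rw [← Module.finrank_eq_card_chooseBasisIndex]
      omega
  have := Module.Basis.toMatrix_mul_toMatrix (b := Pi.basisFun A (Fin n)) (b' := e) (b'' := a)
  have h2 := congrArg Matrix.det this
  rw [Matrix.det_mul, hdet, mul_zero, eq_comm] at h2
  have ht : (Pi.basisFun A (Fin n)).toMatrix a = a.transpose := by
    ext i j; exact Pi.basisFun_repr (R := A) (η := Fin n) (a j) i
  rwa [ht, Matrix.det_transpose] at h2

open TensorProduct in
lemma det_eq_zero_of_rows {A : Type u} [CommRing A] {n : ℕ}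
    {P : Type v} [AddCommGroup P] [Module A P] [Module.Projective A P] [Module.Finite A P] (k : ℕ)
    (hk : ∀ p, Module.rankAtStalk (R := A) P p = k)
    (π : (Fin n → A) →ₗ[A] P) (hπ : Function.Surjective π)
    (a : Matrix (Fin n) (Fin n) A) (S : Finset (Fin n)) (hS : ∀ i ∈ S, π (a i) = 0)
    (hcard : n < S.card + k) : a.det = 0 := by
  classical
  apply Module.eq_zero_of_localization_maximal (fun m _ => Localization.AtPrime m)
    (fun m _ => Algebra.linearMap A (Localization.AtPrime m))
  intro m _
  let L := Localization.AtPrime m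
  change algebraMap A L a.det = 0
  rw [RingHom.map_det]
  let π' : (Fin n → L) →ₗ[L] L ⊗[A] P :=
    Fintype.linearCombination L fun i => (1 : L) ⊗ₜ[A] π (Pi.single i 1)
  have hπ' : ∀ v : Fin n → A, π' (fun i => algebraMap A L (v i)) = (1 : L) ⊗ₜ[A] π v := by
    intro v
    conv_rhs => rw [pi_eq_sum_univ v, map_sum, tmul_sum]
    rw [Fintype.linearCombination_apply]
    refine Finset.sum_congr rfl fun i _ => ?_
    rw [map_smul, tmul_smul, algebraMap_smul]
    congr 2; congr 1; funext j; simp [Pi.single_apply, eq_comm]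
  have hsurj : Function.Surjective π' := by
    intro y
    induction y using TensorProduct.induction_on with
    | zero => exact ⟨0, map_zero _⟩
    | tmul c p =>
      obtain ⟨v, rfl⟩ := hπ p
      exact ⟨c • fun i => algebraMap A L (v i), by rw [map_smul, hπ', smul_tmul', smul_eq_mul, mul_one]⟩
    | add y z hy hz =>
      obtain ⟨v, rfl⟩ := hy
      obtain ⟨w, rfl⟩ := hz
      exact ⟨v + w, map_add _ _ _⟩
  have : Module.Free L (L ⊗[A] P) := Module.free_of_flat_of_isLocalRing
  have hrank : Module.finrank L (L ⊗[A] P) = k := by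
    rw [← hk ⟨m, inferInstance⟩, Module.rankAtStalk_eq_finrank_tensorProduct]
  refine det_eq_zero_of_rows_local π' hsurj _ S (fun i hi => ?_) (by rw [hrank]; exact hcard)
  have := hπ' (a i)
  rw [hS i hi, tmul_zero] at this
  exact this

end Groth.Misc7.DetVanish
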