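import Mathlib

namespace Groth.Misc7.Deviation

universe u v
variable {A : Type u} {G : Type v} [AddCommGroup A] [AddCommGroup G]

/-- full alternating sum over all subsets -/
def altSum (f : A → G) {n : ℕ} (x : Fin n → A) : G :=
  ∑ I ∈ (Finset.univ : Finset (Fin n)).powerset, ((-1 : ℤ) ^ (n + I.card)) • f (∑ i ∈ I, x i)

lemma altSum_eq (f : A → G) {n : ℕ} (x : Fin n → A) :
    (∑ I ∈ ((Finset.univ : Finset (Fin n)).powerset.erase ∅),
      ((-1 : ℤ) ^ (n + I.card)) • f (∑ i ∈ I, x i)) = altSum f x - ((-1 : ℤ) ^ n) • f 0 := by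
  rw [Finset.sum_erase_eq_sub (Finset.empty_mem_powerset _)]
  simp [altSum]

lemma altSum_insertNth (f : A → G) {n : ℕ} (j : Fin (n + 1)) (t : A) (y : Fin n → A) :
    altSum f (j.insertNth t y : Fin (n + 1) → A) = altSum (fun a => f (t + a)) y - altSum f y := by
  classical
  unfold altSum
  have hu : (Finset.univ : Finset (Fin (n + 1))) =
      insert j ((Finset.univ : Finset (Fin n)).map j.succAboveEmb) := by
    rw [Fin.univ_succAbove n j, Finset.cons_eq_insert]
  have hnm : j ∉ (Finset.univ : Finset (Fin n)).map j.succAboveEmb := by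
    simp [Fin.succAbove_ne]
  rw [hu, Finset.sum_powerset_insert hnm]
  have hp : ((Finset.univ : Finset (Fin n)).map j.succAboveEmb).powerset =
      (Finset.univ : Finset (Fin n)).powerset.map (Finset.mapEmbedding j.succAboveEmb).toEmbedding := by
    ext I
    simp only [Finset.mem_powerset, Finset.mem_map, RelEmbedding.coe_toEmbedding,
      Finset.mapEmbedding_apply]
    constructor
    · intro h
      obtain ⟨u, hu, rfl⟩ := Finset.subset_map_iff.1 h
      exact ⟨u, hu, rfl⟩
    · rintro ⟨a, ha, rfl⟩; exact Finset.map_subset_map.2 ha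
  simp only [hp, Finset.sum_map, RelEmbedding.coe_toEmbedding, Finset.mapEmbedding_apply]
  rw [← Finset.sum_add_distrib, ← Finset.sum_sub_distrib]
  refine Finset.sum_congr rfl fun I _ => ?_
  have hj : j ∉ I.map j.succAboveEmb := by simp [Fin.succAbove_ne]
  rw [Finset.sum_insert hj, Finset.card_insert_of_notMem hj, Finset.card_map, Finset.sum_map]
  simp only [Fin.insertNth_apply_same, Fin.coe_succAboveEmb, Fin.insertNth_apply_succAbove]
  rw [show n + 1 + (I.card + 1) = n + I.card + 2 by ring, show n + 1 + I.card = n + I.card + 1 by ring,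
    pow_add _ _ 2, pow_succ _ (n + I.card)]
  module

lemma altSum_of_eq_zero (f : A → G) {n : ℕ} (x : Fin n → A) (i : Fin n) (hx : x i = 0) :
    altSum f x = 0 := by
  obtain ⟨m, rfl⟩ : ∃ m, n = m + 1 := ⟨n - 1, by have := i.2; omega⟩
  rw [← Fin.insertNth_self_removeNth i x, altSum_insertNth, hx]
  simp [zero_add]

lemma key (f : A → G) {m : ℕ} (j : Fin (m + 1)) (a b : A) (y : Fin m → A) :
    (altSum f (j.insertNth (a + b) y : Fin (m + 1) → A) - ((-1 : ℤ) ^ (m+1)) • f 0)
      - (altSum f (j.insertNth a y : Fin (m + 1) → A) - ((-1 : ℤ) ^ (m+1)) • f 0)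
      - (altSum f (j.insertNth b y : Fin (m + 1) → A) - ((-1 : ℤ) ^ (m+1)) • f 0)
    = altSum f (Fin.insertNth 0 b (j.insertNth a y) : Fin (m + 1 + 1) → A)
        - ((-1 : ℤ) ^ (m+1+1)) • f 0 := by
  rw [altSum_insertNth f (0 : Fin (m+1+1)), altSum_insertNth f, altSum_insertNth f,
    altSum_insertNth f, altSum_insertNth (fun c => f (b + c))]
  have : (fun c => f (b + (a + c))) = fun c => f (a + b + c) := by ext c; congr 1; abel
  rw [this, pow_succ _ (m+1)]
  module

theorem deg_iff (f : A → G) (n : ℕ) (hn : 1 ≤ n) :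
    (∀ x : Fin (n + 1) → A, ∑ I ∈ ((Finset.univ : Finset (Fin (n + 1))).powerset.erase ∅), ((-1 : ℤ) ^ (n + 1 + I.card)) • f (∑ i ∈ I, x i) = 0) ↔
      (∀ (j : Fin n) (y : Fin n → A) (a b : A),
        ∑ I ∈ ((Finset.univ : Finset (Fin n)).powerset.erase ∅), ((-1 : ℤ) ^ (n + I.card)) • f (∑ i ∈ I, (Function.update y j (a + b)) i) =
          ∑ I ∈ ((Finset.univ : Finset (Fin n)).powerset.erase ∅), ((-1 : ℤ) ^ (n + I.card)) • f (∑ i ∈ I, (Function.update y j a) i) + ∑ I ∈ ((Finset.univ : Finset (Fin n)).powerset.erase ∅), ((-1 : ℤ) ^ (n + I.card)) • f (∑ i ∈ I, (Function.update y j b) i)) := by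
  obtain ⟨m, rfl⟩ : ∃ m, n = m + 1 := ⟨n - 1, by omega⟩
  simp only [altSum_eq]
  have e : ∀ (j : Fin (m+1)) (y : Fin (m+1) → A) (t : A),
      Function.update y j t = (j.insertNth t (j.removeNth y) : Fin (m + 1) → A) :=
    fun j y t => (Fin.insertNth_removeNth j t y).symm
  constructor
  · intro h j y a b
    rw [e, e, e]
    rw [← sub_eq_zero, ← sub_sub, key]
    exact h _
  · intro h x
    have h0 := h 0 (Fin.removeNth 0 x) (x 1) (x 0)
    rw [e, e, e, ← sub_eq_zero, ← sub_sub, key] at h0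
    convert h0 using 4
    rw [show x 1 = (Fin.removeNth 0 x : Fin (m+1) → A) 0 from rfl, Fin.insertNth_self_removeNth,
      Fin.insertNth_self_removeNth]

end Groth.Misc7.Deviation
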