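import Mathlib
import Groth.Prelude.Def_GSzH1

/-!
Locally constant cocycles of the absolute Galois group of a finite field.
-/

set_option autoImplicit false
universe u v

namespace Groth.Misc7.FrobCocycle

open Polynomial

variable {k : Type u} [Field k] [Finite k] {π : AlgebraicClosure k ≃ₐ[k] AlgebraicClosure k}
  (hπ : ∀ x : AlgebraicClosure k, π x = x ^ Nat.card k)

open scoped Classical

include hπ

lemma pow_apply (i : ℕ) (x : AlgebraicClosure k) : (π ^ i) x = x ^ (Nat.card k ^ i) := by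
  induction i generalizing x with
  | zero => simp
  | succ i ih => rw [pow_succ', AlgEquiv.mul_apply, ih, hπ, ← pow_mul, ← pow_succ]

lemma exists_pow_fix (E : IntermediateField k (AlgebraicClosure k)) [FiniteDimensional k E] :
    ∃ n : ℕ, 0 < n ∧ ∀ x ∈ E, (π ^ n) x = x := by
  have := Module.finite_of_finite k (M := E)
  have := Fintype.ofFinite k
  have := Fintype.ofFinite E
  refine ⟨Module.finrank k E, Module.finrank_pos, fun x hx => ?_⟩
  rw [pow_apply hπ, Nat.card_eq_fintype_card, ← Module.card_eq_pow_finrank (K := k) (V := E)]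
  exact congrArg Subtype.val (FiniteField.pow_card (⟨x, hx⟩ : E))

lemma exists_pow_agree (E : IntermediateField k (AlgebraicClosure k)) [FiniteDimensional k E]
    (σ : (AlgebraicClosure k ≃ₐ[k] AlgebraicClosure k)) : ∃ i : ℕ, (π ^ i)⁻¹ * σ ∈ E.fixingSubgroup := by
  have := Module.finite_of_finite k (M := E)
  have := Fintype.ofFinite k
  obtain ⟨i, hi⟩ := (FiniteField.bijective_frobeniusAlgEquivOfAlgebraic_pow k E).2
    (σ.restrictNormal E)
  refine ⟨i, (IntermediateField.mem_fixingSubgroup_iff _ _).2 fun x hx => ?_⟩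
  have h1 : σ x = (π ^ (i : ℕ)) x := by
    have h2 := σ.restrictNormal_commutes E (⟨x, hx⟩ : E)
    rw [← hi] at h2
    rw [pow_apply hπ, show σ x = σ (algebraMap E (AlgebraicClosure k) ⟨x, hx⟩) from rfl, ← h2,
      AlgEquiv.coe_pow, FiniteField.coe_frobeniusAlgEquivOfAlgebraic_iterate]
    change ((⟨x, hx⟩ : E) ^ (Fintype.card k ^ (i : ℕ)) : E).1 = _
    rw [Nat.card_eq_fintype_card]
    rfl
  rw [AlgEquiv.mul_apply, h1, ← AlgEquiv.mul_apply, inv_mul_cancel]
  rfl

lemma exists_field (E₀ : IntermediateField k (AlgebraicClosure k)) (m : ℕ) (hm : 0 < m)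
    (h₀ : ∀ x ∈ E₀, (π ^ m) x = x) :
    ∃ E : IntermediateField k (AlgebraicClosure k), FiniteDimensional k E ∧
      E₀ ≤ E ∧ (∀ x ∈ E, (π ^ m) x = x) ∧ ∀ i, i < m → π ^ i ∈ E.fixingSubgroup → i = 0 := by
  have := Fintype.ofFinite k
  obtain ⟨p, hchar⟩ := CharP.exists k
  obtain ⟨n, hp, hcard⟩ := FiniteField.card k p
  have hp' := Fact.mk hp
  have : CharP (AlgebraicClosure k) p := charP_of_injective_algebraMap
    (algebraMap k (AlgebraicClosure k)).injective p
  set q := Nat.card k with hq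
  have hqp : q = p ^ (n : ℕ) := by rw [hq, Nat.card_eq_fintype_card, hcard]
  have hq1 : 1 < q := hqp ▸ Nat.one_lt_pow n.pos.ne' hp.one_lt
  have hdvd : p ∣ q ^ m := (dvd_pow_self p n.pos.ne').trans (hqp ▸ dvd_pow_self q hm.ne')
  have hne : ∀ i, 0 < i → (X ^ q ^ i - X : (AlgebraicClosure k)[X]).natDegree = q ^ i ∧
      (X ^ q ^ i - X : (AlgebraicClosure k)[X]) ≠ 0 := fun i hi =>
    ⟨FiniteField.X_pow_card_sub_X_natDegree_eq _ (Nat.one_lt_pow hi.ne' hq1),
      FiniteField.X_pow_card_sub_X_ne_zero _ (Nat.one_lt_pow hi.ne' hq1)⟩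
  let S := (X ^ q ^ m - X : (AlgebraicClosure k)[X]).roots.toFinset
  have hS : ∀ x, x ∈ S ↔ (π ^ m) x = x := fun x => by
    rw [pow_apply hπ, Multiset.mem_toFinset, mem_roots (hne m hm).2]
    simp [sub_eq_zero, hq]
  have hScard : S.card = q ^ m := by
    rw [Multiset.toFinset_card_of_nodup (nodup_roots (galois_poly_separable p _ hdvd)),
      IsAlgClosed.card_roots_eq_natDegree, (hne m hm).1]
  let E := IntermediateField.adjoin k (S : Set (AlgebraicClosure k))
  have hfin : FiniteDimensional k E := IntermediateField.finiteDimensional_adjoin fun x _ =>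
    Algebra.IsIntegral.isIntegral x
  refine ⟨E, hfin, fun x hx => IntermediateField.subset_adjoin k _ ((hS x).2 (h₀ x hx)),
    fun x hx => ?_, fun i hi hfix => ?_⟩
  · induction hx using IntermediateField.adjoin_induction with
    | mem y hy => exact (hS y).1 hy
    | algebraMap r => exact AlgEquiv.commutes _ _
    | add a b _ _ ha hb => rw [map_add, ha, hb]
    | inv a _ ha => rw [map_inv₀, ha]
    | mul a b _ _ ha hb => rw [map_mul, ha, hb]
  · by_contra h0
    have hsub : S ⊆ (X ^ q ^ i - X : (AlgebraicClosure k)[X]).roots.toFinset := fun x hx => by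
      rw [Multiset.mem_toFinset, mem_roots (hne i (Nat.pos_of_ne_zero h0)).2]
      have := (IntermediateField.mem_fixingSubgroup_iff _ _).1 hfix x
        (IntermediateField.subset_adjoin k _ hx)
      rw [pow_apply hπ] at this
      simpa [sub_eq_zero, hq, Nat.card_eq_fintype_card] using this
    have := (Finset.card_le_card hsub).trans ((Multiset.toFinset_card_le _).trans (card_roots' _))
    rw [hScard, (hne i (Nat.pos_of_ne_zero h0)).1, Nat.pow_le_pow_iff_right hq1] at this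
    omega

variable {A : Type v} [Group A] [MulDistribMulAction (AlgebraicClosure k ≃ₐ[k] AlgebraicClosure k) A]

omit [Finite k] hπ in
lemma isLocallyConstant_smul (hcont : ∀ a : A, IsOpen {σ : (AlgebraicClosure k ≃ₐ[k] AlgebraicClosure k) | σ • a = a}) (c : A) :
    IsLocallyConstant (fun σ : (AlgebraicClosure k ≃ₐ[k] AlgebraicClosure k) => σ • c) := by
  rw [IsLocallyConstant.iff_exists_open]
  intro σ
  refine ⟨(fun τ => σ⁻¹ * τ) ⁻¹' {τ | τ • c = c}, (hcont c).preimage (continuous_const_mul _),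
    by simp, fun τ hτ => ?_⟩
  have : (σ⁻¹ * τ) • c = c := hτ
  rw [mul_smul, inv_smul_eq_iff] at this
  exact this

omit [Finite k] hπ in
lemma cocycle_one (z : GpH1.OneCocycle (AlgebraicClosure k ≃ₐ[k] AlgebraicClosure k) A) : z.1 1 = 1 := by
  have := z.2 1 1
  rw [one_mul, one_smul] at this
  exact (left_eq_mul.1 this)

lemma eq_of_apply_frobenius (z z' : GpH1.OneCocycleLC (AlgebraicClosure k ≃ₐ[k] AlgebraicClosure k) A) (h : z.1.1 π = z'.1.1 π) : z = z' := by
  have hpow : ∀ i : ℕ, z.1.1 (π ^ i) = z'.1.1 (π ^ i) := by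
    intro i
    induction i with
    | zero => rw [pow_zero, cocycle_one, cocycle_one]
    | succ i ih => rw [pow_succ, z.1.2, z'.1.2, ih, h]
  refine Subtype.ext (GpH1.OneCocycle.ext fun σ => ?_)
  have hopen : IsOpen {τ : (AlgebraicClosure k ≃ₐ[k] AlgebraicClosure k) | z.1.1 (σ * τ) = z.1.1 σ ∧ z'.1.1 (σ * τ) = z'.1.1 σ} :=
    ((z.2.isOpen_fiber _).preimage (continuous_const_mul σ)).inter
      ((z'.2.isOpen_fiber _).preimage (continuous_const_mul σ))
  obtain ⟨E, _, hE⟩ := (krullTopology_mem_nhds_one_iff k (AlgebraicClosure k) _).1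
    (hopen.mem_nhds (by simp : (1 : (AlgebraicClosure k ≃ₐ[k] AlgebraicClosure k)) ∈ _))
  obtain ⟨i, hi⟩ := exists_pow_agree hπ E σ
  obtain ⟨h1, h2⟩ := hE (E.fixingSubgroup.inv_mem hi)
  simp only [mul_inv_rev, inv_inv, mul_inv_cancel_left] at h1 h2
  rw [← h1, ← h2, hpow]

lemma exists_cocycle (hcont : ∀ a : A, IsOpen {σ : (AlgebraicClosure k ≃ₐ[k] AlgebraicClosure k) | σ • a = a})
    (hfin : ∀ a : A, ∃ H : Subgroup A, (H : Set A).Finite ∧ a ∈ H ∧
      ∀ (σ : (AlgebraicClosure k ≃ₐ[k] AlgebraicClosure k)) (x : A), x ∈ H → σ • x ∈ H) (a : A) :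
    ∃ z : GpH1.OneCocycleLC (AlgebraicClosure k ≃ₐ[k] AlgebraicClosure k) A, z.1.1 π = a := by
  obtain ⟨H, hH, haH, hst⟩ := hfin a
  have hopen : IsOpen (⋂ x ∈ (H : Set A), {σ : (AlgebraicClosure k ≃ₐ[k] AlgebraicClosure k) | σ • x = x}) :=
    hH.isOpen_biInter fun x _ => hcont x
  obtain ⟨E₀, _, hE₀⟩ := (krullTopology_mem_nhds_one_iff k (AlgebraicClosure k) _).1
    (hopen.mem_nhds (by simp : (1 : (AlgebraicClosure k ≃ₐ[k] AlgebraicClosure k)) ∈ _))
  have hfixH : ∀ σ ∈ E₀.fixingSubgroup, ∀ x ∈ H, σ • x = x := fun σ hσ x hx =>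
    Set.mem_iInter₂.1 (hE₀ hσ) x hx
  obtain ⟨n, hn, hn0⟩ := exists_pow_fix hπ E₀
  let P : ℕ → A := fun i => Nat.rec 1 (fun i x => x * (π ^ i) • a) i
  have hP0 : P 0 = 1 := rfl
  have hPs : ∀ i, P (i + 1) = P i * (π ^ i) • a := fun _ => rfl
  have hPadd : ∀ i j, P (i + j) = P i * (π ^ i) • P j := by
    intro i j
    induction j with
    | zero => rw [add_zero, hP0, smul_one, mul_one]
    | succ j ih => rw [← add_assoc, hPs, hPs, ih, smul_mul', ← mul_smul, ← pow_add, mul_assoc]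
  have hPH : ∀ i, P i ∈ H := by
    intro i
    induction i with
    | zero => exact H.one_mem
    | succ i ih => exact H.mul_mem ih (hst _ _ haH)
  have hnfix : π ^ n ∈ E₀.fixingSubgroup := (IntermediateField.mem_fixingSubgroup_iff _ _).2 hn0
  have hPn : ∀ M, P (n * M) = P n ^ M := by
    intro M
    induction M with
    | zero => rw [Nat.mul_zero, pow_zero, hP0]
    | succ M ih =>
      rw [Nat.mul_succ, hPadd, ih, pow_mul π n M, hfixH _ (Subgroup.pow_mem _ hnfix M) _ (hPH _),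
        pow_succ]
  have : Finite H := hH.to_subtype
  obtain ⟨M, hM, hPM⟩ := (isOfFinOrder_iff_pow_eq_one).1 (isOfFinOrder_of_finite (⟨P n, hPH n⟩ : H))
  have hPnM : P n ^ M = 1 := congrArg Subtype.val hPM
  obtain ⟨m, hm⟩ : ∃ m, m = n * M := ⟨_, rfl⟩
  have hmpos : 0 < m := hm ▸ Nat.mul_pos hn hM
  have hm0 : π ^ m ∈ E₀.fixingSubgroup := by
    rw [hm, pow_mul]; exact Subgroup.pow_mem _ hnfix M
  obtain ⟨E, hEfin, hle, hEm, hEmin⟩ := exists_field hπ E₀ m hmpos
    ((IntermediateField.mem_fixingSubgroup_iff _ _).1 hm0)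
  have hmE : π ^ m ∈ E.fixingSubgroup := (IntermediateField.mem_fixingSubgroup_iff _ _).2 hEm
  have hPm : ∀ i, P i = P (i % m) := by
    intro i
    conv_lhs => rw [← Nat.mod_add_div i m]
    rw [hPadd, hm, mul_assoc, hPn, pow_mul, hPnM, one_pow, smul_one, mul_one]
  have key : ∀ (σ : (AlgebraicClosure k ≃ₐ[k] AlgebraicClosure k)) (i j : ℕ), (π ^ i)⁻¹ * σ ∈ E.fixingSubgroup →
      (π ^ j)⁻¹ * σ ∈ E.fixingSubgroup → P i = P j := by
    have aux : ∀ (σ : (AlgebraicClosure k ≃ₐ[k] AlgebraicClosure k)) (i j : ℕ), i % m ≤ j % m → (π ^ i)⁻¹ * σ ∈ E.fixingSubgroup →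
        (π ^ j)⁻¹ * σ ∈ E.fixingSubgroup → i % m = j % m := by
      intro σ i j hle' hi hj
      have h1 := E.fixingSubgroup.mul_mem hi (E.fixingSubgroup.inv_mem hj)
      rw [mul_inv_rev, inv_inv, mul_assoc, mul_inv_cancel_left, ← Nat.mod_add_div i m,
        ← Nat.mod_add_div j m, ← Nat.add_sub_cancel' hle', pow_add, pow_add, pow_add, mul_inv_rev,
        mul_assoc, mul_assoc, inv_mul_cancel_left, pow_mul, pow_mul,
        E.fixingSubgroup.mul_mem_cancel_left (E.fixingSubgroup.inv_mem (Subgroup.pow_mem _ hmE _)),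
        E.fixingSubgroup.mul_mem_cancel_right (Subgroup.pow_mem _ hmE _)] at h1
      have := hEmin _ (lt_of_le_of_lt (Nat.sub_le _ _) (Nat.mod_lt _ hmpos)) h1
      omega
    intro σ i j hi hj
    rw [hPm i, hPm j]
    rcases le_total (i % m) (j % m) with h | h
    · rw [aux σ i j h hi hj]
    · rw [aux σ j i h hj hi]
  choose ι hι using exists_pow_agree hπ E
  have hact : ∀ (σ : (AlgebraicClosure k ≃ₐ[k] AlgebraicClosure k)) (x : A), x ∈ H → σ • x = (π ^ ι σ) • x := fun σ x hx => by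
    have := hfixH _ (IntermediateField.fixingSubgroup_le hle (hι σ)) x hx
    rwa [mul_smul, inv_smul_eq_iff] at this
  have hcoc : GpH1.IsOneCocycle (fun σ : (AlgebraicClosure k ≃ₐ[k] AlgebraicClosure k) => P (ι σ)) := by
    intro σ τ
    change P (ι (σ * τ)) = P (ι σ) * σ • P (ι τ)
    rw [hact σ _ (hPH _), ← hPadd]
    refine key (σ * τ) _ _ (hι _) ?_
    rw [IntermediateField.mem_fixingSubgroup_iff]
    intro x hx
    have hs : ∀ (σ : (AlgebraicClosure k ≃ₐ[k] AlgebraicClosure k)), ∀ y ∈ E, σ y = (π ^ ι σ) y := fun σ y hy => by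
      have := (IntermediateField.mem_fixingSubgroup_iff _ _).1 (hι σ) y hy
      calc σ y = (π ^ ι σ * ((π ^ ι σ)⁻¹ * σ)) y := by rw [mul_inv_cancel_left]
        _ = _ := by rw [AlgEquiv.mul_apply, this]
    have hmem : (π ^ ι τ) x ∈ E := by rw [pow_apply hπ]; exact pow_mem hx _
    calc ((π ^ (ι σ + ι τ))⁻¹ * (σ * τ)) x = (π ^ (ι σ + ι τ))⁻¹ (σ (τ x)) := rfl
      _ = (π ^ (ι σ + ι τ))⁻¹ ((π ^ (ι σ + ι τ)) x) := by
        rw [hs τ x hx, hs σ _ hmem, pow_add π]; rfl
      _ = x := by rw [← AlgEquiv.mul_apply, inv_mul_cancel]; rfl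
  refine ⟨⟨⟨_, hcoc⟩, ?_⟩, ?_⟩
  · rw [IsLocallyConstant.iff_exists_open]
    intro σ
    refine ⟨(fun τ => σ⁻¹ * τ) ⁻¹' (E.fixingSubgroup : Set (AlgebraicClosure k ≃ₐ[k] AlgebraicClosure k)),
      E.fixingSubgroup_isOpen.preimage (continuous_const_mul _), by simp [E.fixingSubgroup.one_mem],
      fun τ hτ => key τ _ _ (hι τ) ?_⟩
    have := E.fixingSubgroup.mul_mem (hι σ) hτ
    rwa [mul_assoc, mul_inv_cancel_left] at this
  · change P (ι π) = a
    rw [key π (ι π) 1 (hι π) (by rw [pow_one, inv_mul_cancel]; exact E.fixingSubgroup.one_mem)]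
    exact (hPs 0).trans (by rw [hP0, pow_zero, one_smul, one_mul])

lemma main (hcont : ∀ a : A, IsOpen {σ : (AlgebraicClosure k ≃ₐ[k] AlgebraicClosure k) | σ • a = a})
    (hfin : ∀ a : A, ∃ H : Subgroup A, (H : Set A).Finite ∧ a ∈ H ∧
      ∀ (σ : (AlgebraicClosure k ≃ₐ[k] AlgebraicClosure k)) (x : A), x ∈ H → σ • x ∈ H) :
    Function.Bijective (fun z : GpH1.OneCocycleLC (AlgebraicClosure k ≃ₐ[k] AlgebraicClosure k) A => z.1.1 π) ∧
      ∀ z z' : GpH1.OneCocycleLC (AlgebraicClosure k ≃ₐ[k] AlgebraicClosure k) A,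
        z.cl = z'.cl ↔ ∃ g : A, z'.1.1 π = g * z.1.1 π * (π • g)⁻¹ := by
  refine ⟨⟨fun z z' h => eq_of_apply_frobenius hπ z z' h, exists_cocycle hπ hcont hfin⟩,
    fun z z' => ?_⟩
  rw [GpH1.OneCocycleLC.cl_eq_cl_iff]
  refine ⟨fun ⟨c, hc⟩ => ⟨c, ?_⟩, fun ⟨g, hg⟩ => ⟨g, fun σ => ?_⟩⟩
  · rw [hc π]; group
  · let w : GpH1.OneCocycleLC (AlgebraicClosure k ≃ₐ[k] AlgebraicClosure k) A := ⟨⟨fun σ => g⁻¹ * z'.1.1 σ * σ • g, fun σ τ => by
      change g⁻¹ * z'.1.1 (σ * τ) * (σ * τ) • g = _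
      rw [z'.1.2, smul_mul', smul_mul', smul_inv', mul_smul]
      group⟩, ((z'.2.comp (g⁻¹ * ·)).comp₂ (isLocallyConstant_smul hcont g) (· * ·))⟩
    have hw : z = w := eq_of_apply_frobenius hπ z w (by
      change z.1.1 π = g⁻¹ * z'.1.1 π * π • g
      rw [hg]; group)
    exact congrArg (fun v : GpH1.OneCocycleLC (AlgebraicClosure k ≃ₐ[k] AlgebraicClosure k) A => v.1.1 σ) hw

end Groth.Misc7.FrobCocycle
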