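import Mathlib
import Groth.Agent.Calg6.PowerSeries
import Groth.Agent.AdicLinTop.Adic
import Groth.Agent.AdicLinTop.RigClosed

/-!
# Presentations of finite local algebras with truncated polynomial special fibre
-/

set_option linter.style.haveILetI false

universe u v

open IsLocalRing

namespace Groth.FrobeniusLike

variable {n : ℕ} (q : Fin n → ℕ)

/-- Indices of standard monomials. -/
abbrev StdIdx := (i : Fin n) → Fin (q i)

/-- The exponent of a standard monomial. -/
noncomputable def expo (a : StdIdx q) : Fin n →₀ ℕ := Finsupp.equivFunOnFinite.symm fun i => (a i : ℕ)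

@[simp] theorem expo_apply (a : StdIdx q) (i : Fin n) : expo q a i = (a i : ℕ) := rfl

theorem expo_injective : Function.Injective (expo q) := fun a b h =>
  funext fun i => Fin.ext (by simpa using congrArg (fun d : Fin n →₀ ℕ => d i) h)

theorem exists_expo_eq {d : Fin n →₀ ℕ} (hd : ∀ i, d i < q i) : ∃ a, expo q a = d :=
  ⟨fun i => ⟨d i, hd i⟩, Finsupp.ext fun _ => rfl⟩

section Poly

variable {k : Type*} [CommRing k]

/-- The ideal of the truncated polynomial algebra. -/
noncomputable def truncIdeal : Ideal (MvPolynomial (Fin n) k) :=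
  Ideal.span (Set.range fun i : Fin n => (MvPolynomial.X i : MvPolynomial (Fin n) k) ^ q i)

theorem truncIdeal_eq : truncIdeal (k := k) q =
    Ideal.span ((fun d => MvPolynomial.monomial d (1 : k)) '' Set.range fun i => Finsupp.single i (q i)) := by
  rw [truncIdeal, ← Set.range_comp]
  congr 2
  funext i
  simp [MvPolynomial.X_pow_eq_monomial]

/-- Standard monomials form a basis of the truncated polynomial algebra. -/
theorem linearCombination_bijective : Function.Bijective
    (Fintype.linearCombination k (fun a : StdIdx q =>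
      Ideal.Quotient.mk (truncIdeal (k := k) q) (MvPolynomial.monomial (expo q a) 1))) := by
  classical
  constructor
  · rw [injective_iff_map_eq_zero]
    intro c hc
    funext a
    simp only [Fintype.linearCombination_apply] at hc
    have hp : (∑ b, MvPolynomial.monomial (expo q b) (c b)) ∈ truncIdeal (k := k) q := by
      rw [← Ideal.Quotient.eq_zero_iff_mem, map_sum, ← hc]
      refine Finset.sum_congr rfl fun b _ => ?_
      rw [← mul_one (c b), ← MvPolynomial.C_mul_monomial, map_mul, mul_one]
      exact (Algebra.smul_def (A := MvPolynomial (Fin n) k ⧸ truncIdeal (k := k) q) (c b) _).symm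
    rw [truncIdeal_eq, MvPolynomial.mem_ideal_span_monomial_image] at hp
    by_contra hne
    have hmem : expo q a ∈ (∑ b, MvPolynomial.monomial (expo q b) (c b)).support := by
      rw [MvPolynomial.mem_support_iff, MvPolynomial.coeff_sum,
        Finset.sum_eq_single a (fun b _ hb => by
          rw [MvPolynomial.coeff_monomial, if_neg fun h => hb (expo_injective q h)]) (by simp),
        MvPolynomial.coeff_monomial, if_pos rfl]
      exact hne
    obtain ⟨_, ⟨i, rfl⟩, hle⟩ := hp _ hmem
    have := hle i
    simp only [Finsupp.single_eq_same, expo_apply] at this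
    exact absurd this (by omega)
  · rw [← LinearMap.range_eq_top, Fintype.range_linearCombination, eq_top_iff]
    rintro x -
    obtain ⟨p, rfl⟩ := Ideal.Quotient.mk_surjective x
    induction p using MvPolynomial.induction_on' with
    | monomial d c =>
      by_cases hd : ∀ i, d i < q i
      · obtain ⟨a, rfl⟩ := exists_expo_eq q hd
        rw [← mul_one c, ← MvPolynomial.C_mul_monomial, map_mul]
        show algebraMap k (MvPolynomial (Fin n) k ⧸ truncIdeal (k := k) q) c *
          Ideal.Quotient.mk (truncIdeal (k := k) q) (MvPolynomial.monomial (expo q a) 1) ∈ _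
        rw [← Algebra.smul_def]
        exact Submodule.smul_mem _ _ (Submodule.subset_span ⟨a, rfl⟩)
      · have h0 : MvPolynomial.monomial d c ∈ truncIdeal (k := k) q := by
          rw [truncIdeal_eq, MvPolynomial.mem_ideal_span_monomial_image]
          intro e he
          obtain rfl := Finset.mem_singleton.mp (MvPolynomial.support_monomial_subset he)
          push Not at hd
          obtain ⟨i, hi⟩ := hd
          exact ⟨_, ⟨i, rfl⟩, Finsupp.single_le_iff.mpr hi⟩
        rw [Ideal.Quotient.eq_zero_iff_mem.mpr h0]
        exact zero_mem _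
    | add f g hf hg =>
      rw [map_add]
      exact add_mem hf hg

end Poly

section Division

variable {R : Type u} [CommRing R]

open MvPowerSeries

open Classical in
/-- The first generator dividing a monomial. -/
noncomputable def pick (d : Fin n →₀ ℕ) : Option (Fin n) :=
  if h : ∃ i, q i ≤ d i then some h.choose else none

/-- The quotient by the `i`-th power. -/
noncomputable def divPart (i : Fin n) (S : MvPowerSeries (Fin n) R) : MvPowerSeries (Fin n) R :=
  fun d => if pick q (d + Finsupp.single i (q i)) = some i then coeff (d + Finsupp.single i (q i)) S else 0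

theorem coeff_divPart (i : Fin n) (S : MvPowerSeries (Fin n) R) (d : Fin n →₀ ℕ) :
    coeff d (divPart q i S) =
      if pick q (d + Finsupp.single i (q i)) = some i then coeff (d + Finsupp.single i (q i)) S else 0 := rfl

theorem divPart_sub (i : Fin n) (S S' : MvPowerSeries (Fin n) R) :
    divPart q i (S - S') = divPart q i S - divPart q i S' := by
  ext d
  rw [map_sub, coeff_divPart, coeff_divPart, coeff_divPart, map_sub]
  split <;> simp

/-- The standard part. -/
noncomputable def stdPart (S : MvPowerSeries (Fin n) R) : MvPowerSeries (Fin n) R :=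
  ∑ a : StdIdx q, monomial (expo q a) (coeff (expo q a) S)

theorem eq_stdPart_add (S : MvPowerSeries (Fin n) R) :
    S = stdPart q S + ∑ i, (X i : MvPowerSeries (Fin n) R) ^ q i * divPart q i S := by
  classical
  ext d
  rw [map_add, stdPart, map_sum, map_sum]
  simp only [X_pow_eq, coeff_monomial_mul, coeff_monomial, one_mul]
  by_cases h : ∃ i, q i ≤ d i
  · have h1 : (∑ a : StdIdx q, if d = expo q a then coeff (expo q a) S else 0) = 0 := by
      refine Finset.sum_eq_zero fun a _ => if_neg fun ha => ?_
      obtain ⟨i, hi⟩ := h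
      rw [ha, expo_apply] at hi
      omega
    rw [h1, zero_add, Finset.sum_eq_single h.choose]
    · have hle : Finsupp.single h.choose (q h.choose) ≤ d := Finsupp.single_le_iff.mpr h.choose_spec
      have hp : pick q d = some h.choose := by simp [pick, dif_pos h]
      rw [if_pos hle, coeff_divPart, tsub_add_cancel_of_le hle, if_pos hp]
    · intro i _ hi
      split_ifs with hle
      · rw [coeff_divPart, tsub_add_cancel_of_le hle, if_neg]
        simp [pick, dif_pos h, Ne.symm hi]
      · rfl
    · simp
  · push Not at h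
    obtain ⟨a, rfl⟩ := exists_expo_eq q h
    rw [Finset.sum_eq_single a (fun b _ hb => if_neg fun e => hb (expo_injective q e).symm) (by simp),
      if_pos rfl, Finset.sum_eq_zero fun i _ => if_neg fun hle => ?_, add_zero]
    have := hle i
    simp only [Finsupp.single_eq_same, expo_apply] at this
    exact absurd this (by omega)

variable [IsLocalRing R] [IsAdicComplete (maximalIdeal R) R]
  (g : Fin n → MvPolynomial (Fin n) R) (hg : ∀ i d, (g i).coeff d ∈ maximalIdeal R)

/-- The correction operator. -/
noncomputable def corr (S : MvPowerSeries (Fin n) R) : MvPowerSeries (Fin n) R :=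
  -∑ i, (g i : MvPowerSeries (Fin n) R) * divPart q i S

omit [IsLocalRing R] [IsAdicComplete (maximalIdeal R) R] in
theorem corr_sub (S S' : MvPowerSeries (Fin n) R) :
    corr q g (S - S') = corr q g S - corr q g S' := by
  simp only [corr, divPart_sub, mul_sub, Finset.sum_sub_distrib]
  abel

include hg

omit [IsAdicComplete (maximalIdeal R) R] in
theorem coeff_corr_mem {N : ℕ} {S : MvPowerSeries (Fin n) R}
    (hS : ∀ d, coeff d S ∈ maximalIdeal R ^ N) (d : Fin n →₀ ℕ) :
    coeff d (corr q g S) ∈ maximalIdeal R ^ (N + 1) := by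
  classical
  rw [corr, map_neg, map_sum]
  refine neg_mem (Ideal.sum_mem _ fun i _ => ?_)
  rw [coeff_mul]
  refine Ideal.sum_mem _ fun p _ => ?_
  rw [pow_succ', MvPolynomial.coeff_coe]
  refine Ideal.mul_mem_mul (hg i p.1) ?_
  rw [coeff_divPart]
  split
  · exact hS _
  · exact zero_mem _

theorem exists_fixed (h : MvPowerSeries (Fin n) R) :
    ∃ L : MvPowerSeries (Fin n) R, L = h + corr q g L := by
  let S : ℕ → MvPowerSeries (Fin n) R := fun m => Nat.rec 0 (fun _ s => h + corr q g s) m
  have hS : ∀ m, S (m + 1) = h + corr q g (S m) := fun m => rfl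
  have hstep : ∀ m d, coeff d (S (m + 1) - S m) ∈ maximalIdeal R ^ m := by
    intro m
    induction m with
    | zero => intro d; simp
    | succ m ih =>
      intro d
      rw [hS (m + 1), hS m, add_sub_add_left_eq_sub, ← corr_sub]
      have := coeff_corr_mem q g hg ih d
      rwa [hS m] at this
  have hcau : ∀ {l m}, l ≤ m → ∀ d, coeff d (S l - S m) ∈ maximalIdeal R ^ l := by
    intro l m hlm
    induction m, hlm using Nat.le_induction with
    | base => intro d; simp
    | succ m hlm ih =>
      intro d
      have : S l - S (m + 1) = (S l - S m) - (S (m + 1) - S m) := by abel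
      rw [this, map_sub]
      exact sub_mem (ih d) (Ideal.pow_le_pow_right hlm (hstep m d))
  have hl : ∀ d, ∃ L : R, ∀ m, coeff d (S m) - L ∈ maximalIdeal R ^ m := by
    intro d
    obtain ⟨L, hL⟩ := IsPrecomplete.prec' (I := maximalIdeal R) (M := R) (fun m => coeff d (S m))
      (fun {l m} hlm => by
        rw [SModEq.sub_mem, smul_eq_mul, Ideal.mul_top, ← map_sub]
        exact hcau hlm d)
    refine ⟨L, fun m => ?_⟩
    have := hL m
    rwa [SModEq.sub_mem, smul_eq_mul, Ideal.mul_top] at this
  choose L hL using hl
  let L' : MvPowerSeries (Fin n) R := L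
  have hL' : ∀ m d, coeff d (S m - L') ∈ maximalIdeal R ^ m := fun m d => by
    rw [map_sub]; exact hL d m
  refine ⟨L', MvPowerSeries.ext fun d => sub_eq_zero.1 (IsHausdorff.haus' (I := maximalIdeal R) _ fun m => ?_)⟩
  rw [SModEq.sub_mem, sub_zero, smul_eq_mul, Ideal.mul_top, ← map_sub]
  have : L' - (h + corr q g L') = -(S (m + 1) - L') + corr q g (S m - L') := by
    rw [hS, corr_sub]; abel
  rw [this, map_add, map_neg]
  exact add_mem (neg_mem (Ideal.pow_le_pow_right m.le_succ (hL' (m + 1) d)))
    (Ideal.pow_le_pow_right m.le_succ (coeff_corr_mem q g hg (hL' m) d))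

/-- Modulo the equations every power series is a combination of standard monomials. -/
theorem span_monomials_eq_top :
    Submodule.span R (Set.range fun a : StdIdx q =>
      Ideal.Quotient.mk (Ideal.span (Set.range fun i => (X i : MvPowerSeries (Fin n) R) ^ q i + (g i : MvPowerSeries (Fin n) R)))
        (monomial (expo q a) (1 : R))) = ⊤ := by
  classical
  set I := Ideal.span (Set.range fun i => (X i : MvPowerSeries (Fin n) R) ^ q i + (g i : MvPowerSeries (Fin n) R))
  rw [eq_top_iff]
  rintro x -
  obtain ⟨h, rfl⟩ := Ideal.Quotient.mk_surjective x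
  obtain ⟨L, hL⟩ := exists_fixed q g hg h
  have h1 : h - stdPart q L ∈ I := by
    have h2 : h - stdPart q L =
        ∑ i, ((X i : MvPowerSeries (Fin n) R) ^ q i + (g i : MvPowerSeries (Fin n) R)) * divPart q i L := by
      simp only [add_mul, Finset.sum_add_distrib]
      have h3 : h = L - corr q g L := eq_sub_of_add_eq hL.symm
      have h4 := eq_stdPart_add q L
      rw [h3, corr]
      linear_combination h4
    rw [h2]
    exact Ideal.sum_mem _ fun i _ => Ideal.mul_mem_right _ _ (Ideal.subset_span ⟨i, rfl⟩)
  rw [Ideal.Quotient.eq.mpr h1, stdPart, map_sum]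
  refine Submodule.sum_mem _ fun a _ => ?_
  have : monomial (expo q a) (coeff (expo q a) L) =
      coeff (expo q a) L • (monomial (expo q a) (1 : R) : MvPowerSeries (Fin n) R) := by
    rw [← LinearMap.map_smul, smul_eq_mul, mul_one]
  rw [this, ← Ideal.Quotient.mkₐ_eq_mk R, map_smul]
  exact Submodule.smul_mem _ _ (Submodule.subset_span ⟨a, rfl⟩)

end Division

section Main

variable {R : Type u} [CommRing R] [IsDomain R] [IsNoetherianRing R] [IsLocalRing R]
  [IsAdicComplete (maximalIdeal R) R]
  {A : Type v} [CommRing A] [Algebra R A] [Module.Finite R A] [Module.Flat R A]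

theorem exists_presentation (hq : ∀ i, 0 < q i)
    (E : (TensorProduct R (ResidueField R) A) ≃ₐ[ResidueField R]
      (MvPolynomial (Fin n) (ResidueField R) ⧸ truncIdeal (k := ResidueField R) q)) :
    ∃ g : Fin n → MvPolynomial (Fin n) R,
      (∀ i, (∀ d, (g i).coeff d ∈ maximalIdeal R) ∧ (g i).degreeOf i < q i) ∧
      Nonempty (A ≃ₐ[R] (MvPowerSeries (Fin n) R ⧸
        Ideal.span (Set.range fun i => (MvPowerSeries.X i : MvPowerSeries (Fin n) R) ^ q i + ↑(g i)))) := by
  classical
  let ι : A →ₐ[R] TensorProduct R (ResidueField R) A := Algebra.TensorProduct.includeRight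
  have hι : Function.Surjective ι := TensorProduct.mk_surjective R A (ResidueField R) residue_surjective
  choose x hx using fun i => hι (E.symm (Ideal.Quotient.mk _ (MvPolynomial.X i)))
  let Φ : MvPolynomial (Fin n) R →ₐ[R] A := MvPolynomial.aeval x
  have hΦ : ∀ d : Fin n →₀ ℕ, ι (Φ (MvPolynomial.monomial d 1)) =
      E.symm (Ideal.Quotient.mk _ (MvPolynomial.monomial d 1)) := fun d => by
    rw [MvPolynomial.monomial_eq, MvPolynomial.monomial_eq, map_one, map_one, one_mul, one_mul]
    simp only [Finsupp.prod, map_prod, map_pow, Φ, MvPolynomial.aeval_X, hx]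
  let mon : StdIdx q → A := fun a => Φ (MvPolynomial.monomial (expo q a) 1)
  let bs : Module.Basis (StdIdx q) (ResidueField R) (TensorProduct R (ResidueField R) A) :=
    Module.Basis.ofEquivFun (((LinearEquiv.ofBijective _
      (linearCombination_bijective (k := ResidueField R) q)).trans E.symm.toLinearEquiv).symm)
  have hbs : ∀ a, bs a = ι (mon a) := fun a => by
    rw [hΦ]
    simp [bs, Module.Basis.coe_ofEquivFun, Fintype.linearCombination_apply_single]
  have hfree : Module.Free R A := Module.free_of_flat_of_isLocalRing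
  have hrank : Module.finrank R A = Fintype.card (StdIdx q) := by
    rw [← Module.finrank_baseChange (R := ResidueField R) (M' := A), Module.finrank_eq_card_basis bs]
  have hspan : Submodule.span R (Set.range mon) = ⊤ := by
    refine IsLocalRing.span_eq_top_of_tmul_eq_basis mon bs fun a => ?_
    exact (hbs a).symm
  -- the equations
  have hmA : ∀ z : A, ι z = 0 → z ∈ maximalIdeal R • (⊤ : Submodule R A) := fun z hz => by
    have h2 := congrArg (TensorProduct.quotTensorEquivQuotSMul A (maximalIdeal R))
      (show (Ideal.Quotient.mk (maximalIdeal R) 1) ⊗ₜ[R] z = 0 from hz)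
    rw [TensorProduct.quotTensorEquivQuotSMul_mk_tmul, map_zero, one_smul] at h2
    exact (Submodule.Quotient.mk_eq_zero _).mp h2
  have hpow : ∀ i, ι (x i ^ q i) = 0 := fun i => by
    rw [map_pow, hx, ← map_pow, ← map_pow,
      Ideal.Quotient.eq_zero_iff_mem.mpr (show (MvPolynomial.X i : MvPolynomial (Fin n) (ResidueField R)) ^ q i ∈
        truncIdeal (k := ResidueField R) q from Ideal.subset_span (Set.mem_range_self i)), map_zero]
  have hc : ∀ i, ∃ c : StdIdx q → R, (∀ a, c a ∈ maximalIdeal R) ∧ ∑ a, c a • mon a = x i ^ q i := fun i => by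
    have h := hmA _ (hpow i)
    rw [← hspan] at h
    obtain ⟨c, hc, he⟩ := (Submodule.mem_ideal_smul_span_iff_exists_sum _ mon _).mp h
    refine ⟨fun a => c a, hc, ?_⟩
    rw [← he, Finsupp.sum_fintype _ _ (by simp)]
  choose c hcm hc using hc
  let g : Fin n → MvPolynomial (Fin n) R := fun i => ∑ a, MvPolynomial.monomial (expo q a) (-(c i a))
  have hg : ∀ i d, (g i).coeff d ∈ maximalIdeal R := fun i d => by
    rw [MvPolynomial.coeff_sum]
    refine Ideal.sum_mem _ fun a _ => ?_
    rw [MvPolynomial.coeff_monomial]
    split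
    · exact neg_mem (hcm i a)
    · exact zero_mem _
  have hgdeg : ∀ i, (g i).degreeOf i < q i := fun i => by
    rw [MvPolynomial.degreeOf_lt_iff (hq i)]
    intro d hd
    obtain ⟨a, -, ha⟩ := Finset.mem_biUnion.mp (MvPolynomial.support_sum hd)
    obtain rfl := Finset.mem_singleton.mp (MvPolynomial.support_monomial_subset ha)
    exact (a i).isLt
  refine ⟨g, fun i => ⟨hg i, hgdeg i⟩, ?_⟩
  -- evaluation
  let J : Ideal A := (maximalIdeal R).map (algebraMap R A)
  haveI : IsAdicComplete (maximalIdeal R) A := Groth.AdicLinTop.Adic.isAdicComplete_of_finite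
  haveI : IsAdicComplete J A := (IsAdicComplete.map_algebraMap_iff (maximalIdeal R) A).mpr inferInstance
  let I : Ideal A := J ⊔ Ideal.span (Set.range x)
  have hIJ : Ideal.span (Set.range x) ≤ J.radical := by
    rw [Ideal.span_le]
    rintro _ ⟨i, rfl⟩
    refine ⟨q i, ?_⟩
    have h := hmA _ (hpow i)
    rw [Ideal.smul_top_eq_map] at h
    exact h
  obtain ⟨N, hN⟩ : ∃ N, I ^ N ≤ J :=
    Ideal.exists_pow_le_of_le_radical_of_fg (sup_le Ideal.le_radical hIJ)
      (by
        haveI : IsNoetherianRing A := IsNoetherianRing.of_finite R A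
        exact IsNoetherian.noetherian _)
  haveI : IsAdicComplete I A := Groth.AdicLinTop.RigClosed.isAdicComplete_of_pow_le le_sup_left hN A
  have hxI : ∀ i, x i ∈ I := fun i => Ideal.mem_sup_right (Ideal.subset_span ⟨i, rfl⟩)
  let θ : MvPowerSeries (Fin n) R →ₐ[R] A := Groth.Calg6.evalAdic I x hxI
  have hθpoly : ∀ p : MvPolynomial (Fin n) R, θ (p : MvPowerSeries (Fin n) R) = Φ p := by
    intro p
    have : θ.comp (MvPolynomial.coeToMvPowerSeries.algHom R) = Φ := by
      refine MvPolynomial.algHom_ext fun i => ?_
      simp only [AlgHom.comp_apply, MvPolynomial.coeToMvPowerSeries.algHom_apply, MvPolynomial.coe_X, θ, Φ,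
        MvPolynomial.aeval_X, MvPowerSeries.map_id, RingHom.id_apply, Algebra.algebraMap_self]
      exact Groth.Calg6.evalAdic_X I x hxI i
    rw [← this]
    simp
  let K := Ideal.span (Set.range fun i => (MvPowerSeries.X i : MvPowerSeries (Fin n) R) ^ q i + ↑(g i))
  have hK : K ≤ RingHom.ker θ.toRingHom := by
    rw [Ideal.span_le]
    rintro _ ⟨i, rfl⟩
    show θ ((MvPowerSeries.X i : MvPowerSeries (Fin n) R) ^ q i + ↑(g i)) = 0
    rw [map_add, map_pow, hθpoly, ← MvPolynomial.coe_X, hθpoly]
    simp only [g, Φ, map_sum, MvPolynomial.aeval_X]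
    rw [← hc i, ← Finset.sum_add_distrib]
    refine Finset.sum_eq_zero fun a _ => ?_
    rw [show (MvPolynomial.monomial (expo q a)) (-(c i a)) = -(c i a) • MvPolynomial.monomial (expo q a) (1 : R) by
      rw [MvPolynomial.smul_monomial, smul_eq_mul, mul_one], map_smul, neg_smul, ← sub_eq_add_neg, sub_eq_zero]
  let θ' : (MvPowerSeries (Fin n) R ⧸ K) →ₐ[R] A := Ideal.Quotient.liftₐ K θ hK
  have hθ' : ∀ a, θ' (Ideal.Quotient.mk K (MvPowerSeries.monomial (expo q a) (1 : R))) = mon a := fun a => by
    show θ (MvPowerSeries.monomial (expo q a) (1 : R)) = _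
    rw [← MvPolynomial.coe_monomial, hθpoly]
  have hsurj : Function.Surjective θ' := by
    intro z
    have hz : z ∈ Submodule.span R (Set.range mon) := by rw [hspan]; trivial
    induction hz using Submodule.span_induction with
    | mem z hz => obtain ⟨a, rfl⟩ := hz; exact ⟨_, hθ' a⟩
    | zero => exact ⟨0, map_zero _⟩
    | add z z' _ _ h h' => obtain ⟨w, rfl⟩ := h; obtain ⟨w', rfl⟩ := h'; exact ⟨w + w', map_add _ _ _⟩
    | smul r z _ h => obtain ⟨w, rfl⟩ := h; exact ⟨r • w, map_smul _ _ _⟩
  let σ : (StdIdx q → R) →ₗ[R] (MvPowerSeries (Fin n) R ⧸ K) := Fintype.linearCombination R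
    fun a => Ideal.Quotient.mk K (MvPowerSeries.monomial (expo q a) (1 : R))
  have hσ : Function.Surjective σ := by
    rw [← LinearMap.range_eq_top, Fintype.range_linearCombination]
    exact span_monomials_eq_top q g hg
  let b := (Module.Free.chooseBasis R A).equivFun
  have hcard : Fintype.card (Module.Free.ChooseBasisIndex R A) = Fintype.card (StdIdx q) := by
    rw [← Module.finrank_eq_card_chooseBasisIndex, hrank]
  let e : A ≃ₗ[R] (StdIdx q → R) := b.trans (LinearEquiv.funCongrLeft R R (Fintype.equivOfCardEq hcard).symm)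
  have hcomp : Function.Injective (θ'.toLinearMap ∘ₗ σ) := by
    have h := OrzechProperty.injective_of_surjective_endomorphism (e.toLinearMap ∘ₗ θ'.toLinearMap ∘ₗ σ)
      (e.surjective.comp (hsurj.comp hσ))
    exact fun u w huw => h (congrArg e huw)
  refine ⟨(AlgEquiv.ofBijective θ' ⟨fun u w huw => ?_, hsurj⟩).symm⟩
  obtain ⟨u, rfl⟩ := hσ u
  obtain ⟨w, rfl⟩ := hσ w
  exact congrArg σ (hcomp huw)

end Main

end Groth.FrobeniusLike
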