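import Mathlib
import Groth.Agent.RelTilde.Sections
import Groth.Agent.LocCohTransform.Basic

/-!
# The ideal transform of a graded module along the irrelevant ideal is `⊕ₙ Γ(Proj, M(n)~)`
-/

universe u

open CategoryTheory AlgebraicGeometry Opposite TopologicalSpace DirectSum
open Groth.LocCohTransform (cls cls_surjective cls_restrict cls_eq_iff pow_le mulMap toDT_eq_cls
  cls_eq_zero_of_range_le)

namespace Groth.GrModTransform

open Groth.RelTilde (smul_mem decompose_smul_of_mem_left exists_pow_smul_eq_zero exists_frac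
  exists_pow_smul_sub_eq_zero sect_ext mk_mem_tildeAt mk_eq_zero_iff)

variable {A σ : Type u} [CommRing A] [SetLike σ A] [AddSubgroupClass σ A] (𝒜 : ℕ → σ) [GradedRing 𝒜]
  {M τ : Type u} [AddCommGroup M] [Module A M] [SetLike τ M] [AddSubgroupClass τ M]
  (ℳ : ℕ → τ) [DirectSum.Decomposition ℳ] [SetLike.GradedSMul 𝒜 ℳ]

/-- The component of integer degree `k` (zero if `k < 0`). -/
def zcomp (k : ℤ) : M →+ M where
  toFun x := if 0 ≤ k then (decompose ℳ x k.toNat : M) else 0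
  map_zero' := by simp
  map_add' x y := by split <;> simp

theorem zcomp_mem (k : ℤ) (x : M) : zcomp ℳ k x ∈ ℳ k.toNat := by
  simp only [zcomp, AddMonoidHom.coe_mk, ZeroHom.coe_mk]
  split
  · exact SetLike.coe_mem _
  · exact zero_mem _

theorem zcomp_deg (k : ℤ) (x : M) : (k.toNat : ℤ) = k ∨ zcomp ℳ k x = 0 := by
  by_cases h : 0 ≤ k
  · exact Or.inl (Int.toNat_of_nonneg h)
  · exact Or.inr (by simp [zcomp, h])

theorem zcomp_natCast (k : ℕ) (x : M) : zcomp ℳ k x = (decompose ℳ x k : M) := by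
  simp [zcomp]

theorem zcomp_of_mem {i : ℕ} {m : M} (hm : m ∈ ℳ i) (k : ℤ) :
    zcomp ℳ k m = if k = i then m else 0 := by
  split_ifs with h
  · subst h
    rw [zcomp_natCast, decompose_of_mem_same ℳ hm]
  · simp only [zcomp, AddMonoidHom.coe_mk, ZeroHom.coe_mk]
    split_ifs with h0
    · exact decompose_of_mem_ne ℳ hm (by omega)
    · rfl

theorem zcomp_smul {e : ℕ} {a : A} (ha : a ∈ 𝒜 e) (x : M) (k : ℤ) :
    zcomp ℳ (e + k) (a • x) = a • zcomp ℳ k x := by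
  induction x using DirectSum.Decomposition.inductionOn ℳ with
  | zero => simp
  | homogeneous m =>
    rename_i i
    rw [zcomp_of_mem ℳ (smul_mem 𝒜 ℳ ha m.2 rfl), zcomp_of_mem ℳ m.2]
    by_cases h : k = i
    · rw [if_pos h, if_pos (by push_cast; omega)]
    · rw [if_neg h, if_neg (by push_cast; omega), smul_zero]
  | add x y hx hy => simp [smul_add, hx, hy]

local notation3 "R₊" => (HomogeneousIdeal.irrelevant 𝒜).toIdeal

/-- A finite system of homogeneous generators of positive degree of the irrelevant ideal. -/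
structure Gens where
  E : Finset A
  deg : A → ℕ
  pos : ∀ e ∈ E, 0 < deg e
  hom : ∀ e ∈ E, e ∈ 𝒜 (deg e)
  span : (HomogeneousIdeal.irrelevant 𝒜).toIdeal = Ideal.span (E : Set A)

theorem exists_gens [IsNoetherianRing A] : Nonempty (Gens 𝒜) := by
  obtain ⟨E, hE, hspan⟩ := Groth.Ega2Proj.exists_homogeneous_generators_of_fg 𝒜
    (IsNoetherian.noetherian (R := A) (M := A) R₊)
  choose! deg hpos hhom using hE
  exact ⟨⟨E, deg, hpos, hhom, hspan⟩⟩

variable {𝒜}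
variable (G : Gens 𝒜)

theorem Gens.mem {e : A} (he : e ∈ G.E) : e ∈ R₊ := G.span ▸ Ideal.subset_span he

theorem Gens.pow_mem_graded {e : A} (he : e ∈ G.E) (N : ℕ) : e ^ N ∈ 𝒜 (N * G.deg e) := by
  simpa using SetLike.pow_mem_graded N (G.hom e he)

theorem Gens.exists_notMem (x : ProjectiveSpectrum 𝒜) : ∃ e ∈ G.E, e ∉ x.asHomogeneousIdeal := by
  by_contra h
  push Not at h
  refine x.not_irrelevant_le ?_
  show R₊ ≤ x.asHomogeneousIdeal.toIdeal
  rw [G.span, Ideal.span_le]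
  exact h

/-- The generator attached to a point. -/
noncomputable def Gens.gen (x : ProjectiveSpectrum 𝒜) : A := (G.exists_notMem x).choose

theorem Gens.gen_mem (x : ProjectiveSpectrum 𝒜) : G.gen x ∈ G.E :=
  (G.exists_notMem x).choose_spec.1

theorem Gens.gen_notMem (x : ProjectiveSpectrum 𝒜) : G.gen x ∉ x.asHomogeneousIdeal :=
  (G.exists_notMem x).choose_spec.2

theorem pow_notMem {x : ProjectiveSpectrum 𝒜} {e : A} (hx : e ∉ x.asHomogeneousIdeal) (N : ℕ) :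
    e ^ N ∉ x.asHomogeneousIdeal := fun h => hx (x.isPrime.mem_of_pow_mem N h)

/-- The numerator attached to a generator. -/
def num {N : ℕ} (φ : (R₊ ^ N : Ideal A) →ₗ[A] M) (n : ℤ) {e : A} (he : e ∈ G.E) : M :=
  zcomp ℳ ((N * G.deg e : ℕ) + n) (φ ⟨e ^ N, Ideal.pow_mem_pow (G.mem he) N⟩)

theorem num_cross {N : ℕ} (φ : (R₊ ^ N : Ideal A) →ₗ[A] M) (n : ℤ) {e e' : A} (he : e ∈ G.E)
    (he' : e' ∈ G.E) :
    e' ^ N • num ℳ G φ n he = e ^ N • num ℳ G φ n he' := by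
  rw [num, num, ← zcomp_smul 𝒜 ℳ (G.pow_mem_graded he' N), ← zcomp_smul 𝒜 ℳ (G.pow_mem_graded he N),
    ← map_smul, ← map_smul]
  congr 2
  · omega
  · exact Subtype.ext (mul_comm _ _)

/-- The value at a point. -/
noncomputable def value {N : ℕ} (φ : (R₊ ^ N : Ideal A) →ₗ[A] M) (n : ℤ)
    (x : ProjectiveSpectrum 𝒜) : GrMod.LocMod 𝒜 (M := M) x :=
  LocalizedModule.mk (num ℳ G φ n (G.gen_mem x)) ⟨G.gen x ^ N, pow_notMem (G.gen_notMem x) N⟩

theorem value_eq {N : ℕ} (φ : (R₊ ^ N : Ideal A) →ₗ[A] M) (n : ℤ) {x : ProjectiveSpectrum 𝒜}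
    {e : A} (he : e ∈ G.E) (hx : e ∉ x.asHomogeneousIdeal) :
    value ℳ G φ n x = LocalizedModule.mk (num ℳ G φ n he) ⟨e ^ N, pow_notMem hx N⟩ := by
  refine LocalizedModule.mk_eq.mpr ⟨1, ?_⟩
  simp only [one_smul, Submonoid.smul_def]
  exact num_cross ℳ G φ n _ he

theorem num_deg {N : ℕ} (φ : (R₊ ^ N : Ideal A) →ₗ[A] M) (n : ℤ) {e : A} (he : e ∈ G.E) :
    ((((N * G.deg e : ℕ) : ℤ) + n).toNat : ℤ) = (N * G.deg e : ℕ) + n ∨ num ℳ G φ n he = 0 :=
  zcomp_deg ℳ _ _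

/-- The section of `M(n)~` attached to a map on a power of the irrelevant ideal. -/
noncomputable def theta {N : ℕ} (φ : (R₊ ^ N : Ideal A) →ₗ[A] M) (n : ℤ) :
    GrMod.sect 𝒜 ℳ n (op ⊤) :=
  ⟨fun x => ⟨value ℳ G φ n x.1, mk_mem_tildeAt 𝒜 ℳ n (zcomp_mem ℳ _ _)
      (G.pow_mem_graded (G.gen_mem x.1) N) _ (num_deg ℳ G φ n (G.gen_mem x.1))⟩,
    fun x => ⟨ProjectiveSpectrum.basicOpen 𝒜 (G.gen x.1),
      (ProjectiveSpectrum.mem_basicOpen 𝒜 _ _).mpr (G.gen_notMem x.1), homOfLE le_top,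
      _, _, ⟨num ℳ G φ n (G.gen_mem x.1), zcomp_mem ℳ _ _⟩,
      ⟨G.gen x.1 ^ N, G.pow_mem_graded (G.gen_mem x.1) N⟩,
      fun y => pow_notMem ((ProjectiveSpectrum.mem_basicOpen 𝒜 _ _).mp y.2) N,
      num_deg ℳ G φ n (G.gen_mem x.1),
      fun y => value_eq ℳ G φ n (G.gen_mem x.1) ((ProjectiveSpectrum.mem_basicOpen 𝒜 _ _).mp y.2)⟩⟩

theorem theta_add {N : ℕ} (φ ψ : (R₊ ^ N : Ideal A) →ₗ[A] M) (n : ℤ) :
    theta ℳ G (φ + ψ) n = theta ℳ G φ n + theta ℳ G ψ n := by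
  refine sect_ext 𝒜 ℳ n fun x => ?_
  show value ℳ G (φ + ψ) n x.1 = value ℳ G φ n x.1 + value ℳ G ψ n x.1
  rw [value, value, value, num, LinearMap.add_apply, map_add, LocalizedModule.mk_add_mk]
  refine LocalizedModule.mk_eq.mpr ⟨1, ?_⟩
  simp only [num, one_smul, Submonoid.smul_def, smul_add, Submonoid.coe_mul, mul_smul]

theorem theta_restrict {N N' : ℕ} (h : N ≤ N') (φ : (R₊ ^ N : Ideal A) →ₗ[A] M) (n : ℤ) :
    theta ℳ G (φ ∘ₗ Submodule.inclusion (pow_le R₊ h)) n = theta ℳ G φ n := by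
  refine sect_ext 𝒜 ℳ n fun x => ?_
  show value ℳ G (φ ∘ₗ Submodule.inclusion (pow_le R₊ h)) n x.1 = value ℳ G φ n x.1
  set e := G.gen x.1
  have he : e ∈ G.E := G.gen_mem x.1
  refine LocalizedModule.mk_eq.mpr ⟨1, ?_⟩
  simp only [one_smul, Submonoid.smul_def]
  obtain ⟨k, rfl⟩ := Nat.exists_eq_add_of_le h
  have h1 : num ℳ G (φ ∘ₗ Submodule.inclusion (pow_le R₊ h)) n he = e ^ k • num ℳ G φ n he := by
    have h2 : Submodule.inclusion (pow_le R₊ h) ⟨e ^ (N + k), Ideal.pow_mem_pow (G.mem he) (N + k)⟩ =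
        e ^ k • (⟨e ^ N, Ideal.pow_mem_pow (G.mem he) N⟩ : (R₊ ^ N : Ideal A)) := by
      refine Subtype.ext ?_
      show e ^ (N + k) = e ^ k * e ^ N
      rw [pow_add, mul_comm]
    have h3 : (((N + k) * G.deg e : ℕ) : ℤ) + n = ((k * G.deg e : ℕ) : ℤ) + (((N * G.deg e : ℕ) : ℤ) + n) := by
      push_cast; ring
    rw [num, num, ← zcomp_smul 𝒜 ℳ (G.pow_mem_graded he k), ← map_smul, LinearMap.comp_apply, h2, h3]
  show e ^ N • num ℳ G (φ ∘ₗ Submodule.inclusion (pow_le R₊ h)) n he =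
    e ^ (N + k) • num ℳ G φ n he
  rw [h1, smul_smul, pow_add]

open Classical in
/-- The finitely many degrees that matter. -/
noncomputable def degrees {N : ℕ} (φ : (R₊ ^ N : Ideal A) →ₗ[A] M) : Finset ℤ :=
  G.E.attach.biUnion fun e =>
    (decompose ℳ (φ ⟨e.1 ^ N, Ideal.pow_mem_pow (G.mem e.2) N⟩)).support.image
      fun k : ℕ => (k : ℤ) - (N * G.deg e.1 : ℕ)

theorem num_eq_zero_of_notMem {N : ℕ} (φ : (R₊ ^ N : Ideal A) →ₗ[A] M) {n : ℤ}
    (hn : n ∉ degrees ℳ G φ) {e : A} (he : e ∈ G.E) : num ℳ G φ n he = 0 := by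
  classical
  rcases num_deg ℳ G φ n he with h | h
  swap
  · exact h
  by_contra hne
  refine hn (Finset.mem_biUnion.mpr ⟨⟨e, he⟩, Finset.mem_attach _ _,
    Finset.mem_image.mpr ⟨(((N * G.deg e : ℕ) : ℤ) + n).toNat, ?_, by rw [h]; ring⟩⟩)
  rw [DFinsupp.mem_support_iff]
  intro h0
  refine hne ?_
  rw [num, ← h, zcomp_natCast, h0]
  rfl

theorem theta_eq_zero_of_notMem {N : ℕ} (φ : (R₊ ^ N : Ideal A) →ₗ[A] M) {n : ℤ}
    (hn : n ∉ degrees ℳ G φ) : theta ℳ G φ n = 0 := by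
  refine sect_ext 𝒜 ℳ n fun x => ?_
  show value ℳ G φ n x.1 = 0
  rw [value, num_eq_zero_of_notMem ℳ G φ hn, LocalizedModule.zero_mk]

open Classical in
/-- All the degrees together. -/
noncomputable def level {N : ℕ} (φ : (R₊ ^ N : Ideal A) →ₗ[A] M) :
    DirectSum ℤ fun n : ℤ => ((GrMod.tilde 𝒜 ℳ n).val.obj (op ⊤) : Type u) :=
  DFinsupp.mk (degrees ℳ G φ) fun n => theta ℳ G φ n.1

theorem level_apply {N : ℕ} (φ : (R₊ ^ N : Ideal A) →ₗ[A] M) (n : ℤ) :
    level ℳ G φ n = theta ℳ G φ n := by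
  classical
  by_cases h : n ∈ degrees ℳ G φ
  · exact DFinsupp.mk_of_mem h
  · exact (DFinsupp.mk_of_notMem h).trans (theta_eq_zero_of_notMem ℳ G φ h).symm

theorem level_add {N : ℕ} (φ ψ : (R₊ ^ N : Ideal A) →ₗ[A] M) :
    level ℳ G (φ + ψ) = level ℳ G φ + level ℳ G ψ := by
  refine DFinsupp.ext fun n => ?_
  rw [DirectSum.add_apply, level_apply, level_apply, level_apply]
  exact theta_add ℳ G φ ψ n

theorem level_restrict {N N' : ℕ} (h : N ≤ N') (φ : (R₊ ^ N : Ideal A) →ₗ[A] M) :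
    level ℳ G (φ ∘ₗ Submodule.inclusion (pow_le R₊ h)) = level ℳ G φ := by
  refine DFinsupp.ext fun n => ?_
  rw [level_apply, level_apply]
  exact theta_restrict ℳ G h φ n

theorem level_eq_of_cls_eq {N N' : ℕ} (φ : (R₊ ^ N : Ideal A) →ₗ[A] M)
    (ψ : (R₊ ^ N' : Ideal A) →ₗ[A] M) (h : cls R₊ N φ = cls R₊ N' ψ) :
    level ℳ G φ = level ℳ G ψ := by
  have h1 : N ≤ max N N' := le_max_left _ _
  have h2 : N' ≤ max N N' := le_max_right _ _
  rw [← cls_restrict R₊ h1 φ, ← cls_restrict R₊ h2 ψ, cls_eq_iff] at h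
  obtain ⟨m, hm, e⟩ := h
  rw [← level_restrict ℳ G h1 φ, ← level_restrict ℳ G h2 ψ, ← level_restrict ℳ G hm, e,
    level_restrict ℳ G hm]

/-- The comparison map. -/
noncomputable def compare : LocCoh.DT R₊ M →+
    DirectSum ℤ fun n : ℤ => ((GrMod.tilde 𝒜 ℳ n).val.obj (op ⊤) : Type u) :=
  AddMonoidHom.mk' (fun x => level ℳ G (cls_surjective R₊ x).choose_spec.choose) fun x y => by
    obtain ⟨N, φ, rfl⟩ := cls_surjective R₊ x
    obtain ⟨N', ψ, rfl⟩ := cls_surjective R₊ y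
    have h1 : N ≤ max N N' := le_max_left _ _
    have h2 : N' ≤ max N N' := le_max_right _ _
    rw [level_eq_of_cls_eq ℳ G _ φ (cls_surjective R₊ (cls R₊ N φ)).choose_spec.choose_spec,
      level_eq_of_cls_eq ℳ G _ ψ (cls_surjective R₊ (cls R₊ N' ψ)).choose_spec.choose_spec,
      ← level_restrict ℳ G h1 φ, ← level_restrict ℳ G h2 ψ, ← level_add]
    refine level_eq_of_cls_eq ℳ G _ _ ?_
    rw [(cls_surjective R₊ _).choose_spec.choose_spec, map_add, cls_restrict R₊ h1, cls_restrict R₊ h2]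

theorem compare_cls {N : ℕ} (φ : (R₊ ^ N : Ideal A) →ₗ[A] M) :
    compare ℳ G (cls R₊ N φ) = level ℳ G φ :=
  level_eq_of_cls_eq ℳ G _ φ (cls_surjective R₊ (cls R₊ N φ)).choose_spec.choose_spec

theorem compare_toDT {i : ℕ} (m : ℳ i) :
    compare ℳ G (LocCoh.toDT R₊ M (m : M)) =
      DirectSum.of (fun n : ℤ => ((GrMod.tilde 𝒜 ℳ n).val.obj (op ⊤) : Type u)) (i : ℤ)
        (GrMod.alpha 𝒜 ℳ i m) := by
  classical
  rw [toDT_eq_cls R₊ 0, compare_cls]
  refine DFinsupp.ext fun n => ?_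
  rw [level_apply]
  have key : ∀ x : (⊤ : Opens (ProjectiveSpectrum.top 𝒜)),
      value ℳ G (mulMap R₊ 0 (m : M)) n x.1 =
        if n = i then LocalizedModule.mk (m : M) 1 else 0 := fun x => by
    rw [value, num]
    simp only [Groth.LocCohTransform.mulMap_apply, pow_zero, one_smul, Nat.zero_mul, Nat.cast_zero,
      zero_add, zcomp_of_mem ℳ m.2]
    split
    · rfl
    · exact LocalizedModule.zero_mk _
  by_cases h : n = (i : ℤ)
  · subst h
    rw [DirectSum.of_eq_same]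
    refine sect_ext 𝒜 ℳ (i : ℤ) fun x => ?_
    exact (key x).trans (if_pos rfl)
  · rw [DirectSum.of_eq_of_ne _ _ _ h]
    refine sect_ext 𝒜 ℳ n fun x => ?_
    exact (key x).trans (if_neg h)

variable [IsNoetherianRing A]

omit [IsNoetherianRing A] in
theorem Gens.irrelevant_le_radical {f : {e // e ∈ G.E} → ℕ} {J : Ideal A}
    (hJ : ∀ e : {e // e ∈ G.E}, e.1 ^ f e ∈ J) : R₊ ≤ J.radical := by
  rw [G.span, Ideal.span_le]
  exact fun e he => ⟨f ⟨e, he⟩, hJ ⟨e, he⟩⟩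

theorem compare_injective : Function.Injective (compare ℳ G) := by
  classical
  refine (injective_iff_map_eq_zero _).mpr fun x hx => ?_
  obtain ⟨N, φ, rfl⟩ := cls_surjective R₊ x
  rw [compare_cls] at hx
  have hz : ∀ (e : {e // e ∈ G.E}), ∃ L : ℕ,
      e.1 ^ L • φ ⟨e.1 ^ N, Ideal.pow_mem_pow (G.mem e.2) N⟩ = 0 := fun e => by
    set z := φ ⟨e.1 ^ N, Ideal.pow_mem_pow (G.mem e.2) N⟩
    have h1 : ∀ k : ℕ, ∃ L : ℕ, e.1 ^ L • (decompose ℳ z k : M) = 0 := fun k => by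
      refine exists_pow_smul_eq_zero 𝒜 ℳ (G.pos _ e.2) (G.hom _ e.2) (SetLike.coe_mem _) fun x hxe => ?_
      set n : ℤ := (k : ℤ) - (N * G.deg e.1 : ℕ)
      have h0 : theta ℳ G φ n = 0 := by
        rw [← level_apply, hx]; rfl
      have h2 : value ℳ G φ n x = 0 :=
        congrArg (fun s : GrMod.sect 𝒜 ℳ n (op ⊤) => (s.1 ⟨x, trivial⟩).1) h0
      rw [value_eq ℳ G φ n e.2 hxe] at h2
      obtain ⟨u, hu, hu0⟩ := (mk_eq_zero_iff 𝒜).mp h2
      refine ⟨u, hu, ?_⟩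
      have h3 : num ℳ G φ n e.2 = (decompose ℳ z k : M) := by
        rw [num, ← zcomp_natCast ℳ k z]
        congr 1
        simp [n]
      rwa [h3] at hu0
    choose L hL using h1
    refine ⟨(decompose ℳ z).support.sup L, ?_⟩
    conv_lhs => arg 2; rw [← sum_support_decompose ℳ z]
    rw [Finset.smul_sum]
    refine Finset.sum_eq_zero fun k hk => ?_
    rw [← Nat.sub_add_cancel (Finset.le_sup (f := L) hk), pow_add, mul_smul, hL, smul_zero]
  choose L hL using hz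
  refine cls_eq_zero_of_range_le R₊ φ fun r => ?_
  have hmem : ∀ e : {e // e ∈ G.E}, e.1 ^ (L e + N) ∈
      LinearMap.ker (LinearMap.toSpanSingleton A M (φ r)) := fun e => by
    rw [LinearMap.mem_ker, LinearMap.toSpanSingleton_apply, ← map_smul]
    have : (e.1 ^ (L e + N) • r : (R₊ ^ N : Ideal A)) =
        ((r : A) * e.1 ^ L e) • ⟨e.1 ^ N, Ideal.pow_mem_pow (G.mem e.2) N⟩ :=
      Subtype.ext (show e.1 ^ (L e + N) * (r : A) = (r : A) * e.1 ^ L e * e.1 ^ N by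
        rw [pow_add]; ring)
    rw [this, map_smul, mul_smul, hL, smul_zero]
  obtain ⟨k, hk⟩ := Ideal.exists_pow_le_of_le_radical_of_fg
    (G.irrelevant_le_radical hmem) (IsNoetherian.noetherian (R := A) (M := A) R₊)
  exact ⟨k, fun a ha => hk ha⟩

theorem exists_frac_uniform (n : ℤ) (s : GrMod.sect 𝒜 ℳ n (op ⊤)) :
    ∃ (L : ℕ) (i : {e // e ∈ G.E} → ℕ) (m : {e // e ∈ G.E} → M), 0 < L ∧ (∀ e, m e ∈ ℳ (i e)) ∧
      (∀ e, (i e : ℤ) = (L * G.deg e.1 : ℕ) + n) ∧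
      (∀ e e', e'.1 ^ L • m e = e.1 ^ L • m e') ∧
      ∀ (e : {e // e ∈ G.E}) (x : ProjectiveSpectrum 𝒜) (hx : e.1 ∉ x.asHomogeneousIdeal),
        (s.1 ⟨x, trivial⟩).1 = LocalizedModule.mk (m e) ⟨e.1 ^ L, pow_notMem hx L⟩ := by
  classical
  choose k i₀ m₀ hdeg₀ hs₀ using fun e : {e // e ∈ G.E} =>
    exists_frac 𝒜 ℳ n (G.pos _ e.2) (G.hom _ e.2) (GrMod.res 𝒜 ℳ n
      (homOfLE (le_top : ProjectiveSpectrum.basicOpen 𝒜 e.1 ≤ ⊤)).op s)
  obtain ⟨L, hLpos, hL⟩ : ∃ L, 0 < L ∧ ∀ e, k e ≤ L :=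
    ⟨Finset.univ.sup k + 1, Nat.succ_pos _, fun e =>
      (Finset.le_sup (f := k) (Finset.mem_univ e)).trans (Nat.le_succ _)⟩
  let i₁ : {e // e ∈ G.E} → ℕ := fun e => (L - k e) * G.deg e.1 + i₀ e
  let m₁ : {e // e ∈ G.E} → M := fun e => e.1 ^ (L - k e) • (m₀ e).1
  have hm₁ : ∀ e, m₁ e ∈ ℳ (i₁ e) := fun e =>
    smul_mem 𝒜 ℳ (G.pow_mem_graded e.2 _) (m₀ e).2 rfl
  have hdeg₁ : ∀ e, (i₁ e : ℤ) = (L * G.deg e.1 : ℕ) + n := fun e => by
    simp only [i₁]
    push_cast [Nat.cast_sub (hL e)]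
    rw [hdeg₀ e]
    ring
  have hs₁ : ∀ (e : {e // e ∈ G.E}) (x : ProjectiveSpectrum 𝒜) (hx : e.1 ∉ x.asHomogeneousIdeal),
      (s.1 ⟨x, trivial⟩).1 = LocalizedModule.mk (m₁ e) ⟨e.1 ^ L, pow_notMem hx L⟩ := fun e x hx => by
    refine (hs₀ e ⟨x, (ProjectiveSpectrum.mem_basicOpen 𝒜 _ _).mpr hx⟩).trans ?_
    refine LocalizedModule.mk_eq.mpr ⟨1, ?_⟩
    simp only [m₁, one_smul, Submonoid.smul_def, smul_smul, ← pow_add,
      Nat.add_sub_cancel' (hL e)]
  clear_value m₁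
  have hcross : ∀ e e', ∃ K : ℕ,
      (e.1 ^ L * e'.1 ^ L) ^ K • (e'.1 ^ L • m₁ e - e.1 ^ L • m₁ e') = 0 := fun e e' => by
    refine exists_pow_smul_sub_eq_zero 𝒜 ℳ (Nat.mul_pos hLpos (G.pos _ e.2))
      (G.pow_mem_graded e.2 L) (G.pow_mem_graded e'.2 L) (hm₁ e) (hm₁ e') ?_ fun x hx hx' => ?_
    · have := hdeg₁ e; have := hdeg₁ e'; omega
    · have he : e.1 ∉ x.asHomogeneousIdeal := fun h =>
        hx (x.asHomogeneousIdeal.toIdeal.pow_mem_of_mem h L hLpos)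
      have he' : e'.1 ∉ x.asHomogeneousIdeal := fun h =>
        hx' (x.asHomogeneousIdeal.toIdeal.pow_mem_of_mem h L hLpos)
      exact (hs₁ e x he).symm.trans (hs₁ e' x he')
  choose K₀ hK₀ using hcross
  obtain ⟨K, hK⟩ : ∃ K, ∀ e e', K₀ e e' ≤ K :=
    ⟨Finset.univ.sup fun r : {e // e ∈ G.E} × {e // e ∈ G.E} => K₀ r.1 r.2, fun e e' =>
      Finset.le_sup (f := fun r : {e // e ∈ G.E} × {e // e ∈ G.E} => K₀ r.1 r.2)
        (Finset.mem_univ (e, e'))⟩
  refine ⟨L + L * K, fun e => L * K * G.deg e.1 + i₁ e, fun e => e.1 ^ (L * K) • m₁ e,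
    by omega, fun e => smul_mem 𝒜 ℳ (G.pow_mem_graded e.2 _) (hm₁ e) rfl, fun e => ?_,
    fun e e' => ?_, fun e x hx => ?_⟩
  · push_cast
    rw [hdeg₁ e]
    push_cast
    ring
  · dsimp only
    have h₀ : (e.1 ^ L * e'.1 ^ L) ^ K • (e'.1 ^ L • m₁ e - e.1 ^ L • m₁ e') = 0 := by
      rw [← Nat.sub_add_cancel (hK e e'), pow_add, mul_smul, hK₀, smul_zero]
    rw [smul_sub, sub_eq_zero, smul_smul, smul_smul] at h₀
    rw [smul_smul, smul_smul]
    calc (e'.1 ^ (L + L * K) * e.1 ^ (L * K)) • m₁ e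
        = ((e.1 ^ L * e'.1 ^ L) ^ K * e'.1 ^ L) • m₁ e := by
          congr 1; rw [pow_add, mul_pow, ← pow_mul, ← pow_mul]; ring
      _ = ((e.1 ^ L * e'.1 ^ L) ^ K * e.1 ^ L) • m₁ e' := h₀
      _ = (e.1 ^ (L + L * K) * e'.1 ^ (L * K)) • m₁ e' := by
          congr 1; rw [pow_add, mul_pow, ← pow_mul, ← pow_mul]; ring
  · refine (hs₁ e x hx).trans (LocalizedModule.mk_eq.mpr ⟨1, ?_⟩)
    simp only [one_smul, Submonoid.smul_def, smul_smul, ← pow_add]

omit [IsNoetherianRing A] in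
/-- Compatible numerators give a map on a high power of the ideal of the denominators. -/
theorem exists_hom_of_compatible [IsNoetherianRing A] {ι : Type u} [Fintype ι] (g : ι → A)
    (m : ι → M) (h : ∀ i j, g j • m i = g i • m j) :
    ∃ (k : ℕ) (F : ((Ideal.span (Set.range g) ^ (k + 2) : Ideal A)) →ₗ[A] M),
      ∀ (i : ι) (a : A) (_ : a ∈ Ideal.span (Set.range g) ^ (k + 1))
        (hag : a * g i ∈ Ideal.span (Set.range g) ^ (k + 2)), F ⟨a * g i, hag⟩ = a • m i := by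
  classical
  set J := Ideal.span (Set.range g)
  let π : (ι → A) →ₗ[A] A := Fintype.linearCombination A g
  let μ : (ι → A) →ₗ[A] M := Fintype.linearCombination A m
  obtain ⟨k, hk⟩ := Ideal.exists_pow_inf_eq_pow_smul J (LinearMap.ker π)
  let P : Submodule A (ι → A) := J ^ (k + 1) • ⊤
  have hπ : LinearMap.range π = J := Fintype.range_linearCombination A g
  have hkill : J • LinearMap.ker π ≤ LinearMap.ker μ := Submodule.smul_le.mpr fun a ha c hc => by
    rw [LinearMap.mem_ker, map_smul]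
    induction ha using Submodule.span_induction with
    | mem a ha =>
      obtain ⟨j, rfl⟩ := ha
      have hc' : ∑ i, c i * g i = 0 := by
        simpa [π, Fintype.linearCombination_apply] using LinearMap.mem_ker.mp hc
      simp only [μ, Fintype.linearCombination_apply, Finset.smul_sum]
      calc ∑ i, g j • c i • m i = ∑ i, (c i * g i) • m j :=
            Finset.sum_congr rfl fun i _ => by rw [smul_comm, h i j, smul_smul]
        _ = 0 := by rw [← Finset.sum_smul, hc', zero_smul]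
    | zero => rw [zero_smul]
    | add a b _ _ iha ihb => rw [add_smul, iha, ihb, add_zero]
    | smul r a _ iha => rw [smul_eq_mul, mul_smul, iha, smul_zero]
  have hker : LinearMap.ker (π.domRestrict P) ≤ LinearMap.ker (μ.domRestrict P) := by
    rintro ⟨c, hc⟩ hc0
    refine hkill ?_
    have h1 : c ∈ J ^ (k + 1) • ⊤ ⊓ LinearMap.ker π := ⟨hc, hc0⟩
    rw [hk (k + 1) (Nat.le_succ k), Nat.add_sub_cancel_left, pow_one] at h1
    exact Submodule.smul_mono le_rfl inf_le_right h1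
  have hrange : LinearMap.range (π.domRestrict P) = J ^ (k + 2) := by
    rw [LinearMap.range_domRestrict, Submodule.map_smul'', Submodule.map_top, hπ, smul_eq_mul,
      pow_succ J (k + 1)]
  let e := (π.domRestrict P).quotKerEquivRange.trans (LinearEquiv.ofEq _ _ hrange)
  refine ⟨k, (Submodule.liftQ _ (μ.domRestrict P) hker) ∘ₗ e.symm.toLinearMap, fun i a ha hag => ?_⟩
  have hc : (Pi.single i a : ι → A) ∈ P := by
    have : (Pi.single i a : ι → A) = a • Pi.single i 1 := by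
      ext j; simp [Pi.single_apply]
    rw [this]
    exact Submodule.smul_mem_smul ha Submodule.mem_top
  have he : e (Submodule.Quotient.mk ⟨_, hc⟩) = ⟨a * g i, hag⟩ :=
    Subtype.ext (by simp [e, π, Fintype.linearCombination_apply_single])
  rw [LinearMap.comp_apply, ← he, LinearEquiv.coe_coe, LinearEquiv.symm_apply_apply,
    Submodule.liftQ_apply]
  simp [μ, Fintype.linearCombination_apply_single]

theorem compare_surjective : Function.Surjective (compare ℳ G) := by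
  classical
  intro y
  induction y using DirectSum.induction_on with
  | zero => exact ⟨0, map_zero _⟩
  | add y y' hy hy' =>
    obtain ⟨x, rfl⟩ := hy
    obtain ⟨x', rfl⟩ := hy'
    exact ⟨x + x', map_add _ x x'⟩
  | of n s =>
    obtain ⟨L, i, m, hLpos, hm, hdeg, hcross, hs⟩ := exists_frac_uniform ℳ G n s
    obtain ⟨k, F, hF⟩ := exists_hom_of_compatible (fun e : {e // e ∈ G.E} => e.1 ^ L) m hcross
    let J := Ideal.span (Set.range fun e : {e // e ∈ G.E} => e.1 ^ L)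
    have hJ : ∀ (e : {e // e ∈ G.E}) (l : ℕ), e.1 ^ (L * l) ∈ J ^ l := fun e l => by
      rw [pow_mul]
      exact Ideal.pow_mem_pow (Ideal.subset_span (Set.mem_range_self e)) l
    obtain ⟨N₀, hN₀⟩ := Ideal.exists_pow_le_of_le_radical_of_fg
      (G.irrelevant_le_radical (f := fun _ => L * (k + 2)) (J := J ^ (k + 2)) fun e => hJ e (k + 2))
      (IsNoetherian.noetherian (R := A) (M := A) R₊)
    set N := N₀ + L * (k + 2) with hN
    have hNJ : R₊ ^ N ≤ J ^ (k + 2) := (Ideal.pow_le_pow_right (Nat.le_add_right _ _)).trans hN₀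
    refine ⟨cls R₊ N (F ∘ₗ Submodule.inclusion hNJ), ?_⟩
    rw [compare_cls]
    refine DFinsupp.ext fun n' => ?_
    rw [level_apply]
    have hval : ∀ (e : {e // e ∈ G.E}),
        num ℳ G (F ∘ₗ Submodule.inclusion hNJ) n' e.2 =
          if n' = n then e.1 ^ (N - L) • m e else 0 := fun e => by
      have hNL : L ≤ N := le_add_left (Nat.le_mul_of_pos_right _ (by omega))
      have h1 : (F ∘ₗ Submodule.inclusion hNJ) ⟨e.1 ^ N, Ideal.pow_mem_pow (G.mem e.2) N⟩ =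
          e.1 ^ (N - L) • m e := by
        have ha : e.1 ^ (N - L) ∈ J ^ (k + 1) := by
          have : N - L = (N₀ : ℕ) + L * (k + 1) := by rw [hN, mul_add L (k+1) 1, mul_one]; omega
          rw [this, pow_add e.1]
          exact Ideal.mul_mem_left _ _ (hJ e (k + 1))
        have heq : e.1 ^ N = e.1 ^ (N - L) * e.1 ^ L := by rw [← pow_add, Nat.sub_add_cancel hNL]
        have hag : e.1 ^ (N - L) * e.1 ^ L ∈ J ^ (k + 2) := heq ▸ hNJ (Ideal.pow_mem_pow (G.mem e.2) N)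
        rw [← hF e _ ha hag, LinearMap.comp_apply]
        have hsub : Submodule.inclusion hNJ ⟨e.1 ^ N, Ideal.pow_mem_pow (G.mem e.2) N⟩ =
            ⟨e.1 ^ (N - L) * e.1 ^ L, hag⟩ := Subtype.ext heq
        rw [hsub]
      rw [num, h1, zcomp_of_mem ℳ (smul_mem 𝒜 ℳ (G.pow_mem_graded e.2 _) (hm e) rfl)]
      refine if_congr ?_ rfl rfl
      have := hdeg e
      have h2 : N * G.deg e.1 = (N - L) * G.deg e.1 + L * G.deg e.1 := by
        rw [← add_mul, Nat.sub_add_cancel hNL]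
      omega
    by_cases h : n' = n
    · subst h
      rw [DirectSum.of_eq_same]
      refine sect_ext 𝒜 ℳ n' fun x => ?_
      refine Eq.trans ?_ (hs ⟨G.gen x.1, G.gen_mem x.1⟩ x.1 (G.gen_notMem x.1)).symm
      show LocalizedModule.mk (num ℳ G (F ∘ₗ Submodule.inclusion hNJ) n' (G.gen_mem x.1)) _ = _
      rw [hval ⟨_, G.gen_mem x.1⟩, if_pos rfl]
      refine LocalizedModule.mk_eq.mpr ⟨1, ?_⟩
      simp only [one_smul, Submonoid.smul_def, smul_smul, ← pow_add]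
      rw [Nat.add_sub_cancel' (le_add_left (Nat.le_mul_of_pos_right _ (by omega)))]
    · rw [DirectSum.of_eq_of_ne _ _ _ h]
      refine sect_ext 𝒜 ℳ n' fun x => ?_
      show LocalizedModule.mk (num ℳ G (F ∘ₗ Submodule.inclusion hNJ) n' (G.gen_mem x.1)) _ = _
      rw [hval ⟨_, G.gen_mem x.1⟩, if_neg h, LocalizedModule.zero_mk]
      rfl

theorem exists_equiv_closure :
    Nonempty ((DirectSum ℤ (fun n : ℤ => ((GrMod.tilde 𝒜 ℳ n).val.obj (op ⊤) : Type u)) ⧸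
        AddSubgroup.closure (⋃ i : ℕ, Set.range (fun m : ℳ i =>
          DirectSum.of (fun n : ℤ => ((GrMod.tilde 𝒜 ℳ n).val.obj (op ⊤) : Type u)) (i : ℤ)
            (GrMod.alpha 𝒜 ℳ i m)))) ≃+
      LocCoh.DT R₊ M ⧸ LinearMap.range (LocCoh.toDT R₊ M)) := by
  classical
  obtain ⟨G⟩ := exists_gens 𝒜
  let E := AddEquiv.ofBijective (compare ℳ G) ⟨compare_injective ℳ G, compare_surjective ℳ G⟩
  refine ⟨(QuotientAddGroup.congr (LinearMap.range (LocCoh.toDT R₊ M)).toAddSubgroup _ E ?_).symm⟩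
  apply le_antisymm
  · rintro _ ⟨_, ⟨m, rfl⟩, rfl⟩
    show compare ℳ G (LocCoh.toDT R₊ M m) ∈ _
    induction m using DirectSum.Decomposition.inductionOn ℳ with
    | zero => rw [map_zero, map_zero]; exact zero_mem _
    | homogeneous m =>
      rw [compare_toDT]
      exact AddSubgroup.subset_closure (Set.mem_iUnion.mpr ⟨_, m, rfl⟩)
    | add x y hx hy => rw [map_add, map_add]; exact add_mem hx hy
  · rw [AddSubgroup.closure_le]
    rintro _ hx
    obtain ⟨i, m, rfl⟩ := Set.mem_iUnion.mp hx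
    exact ⟨_, ⟨(m : M), rfl⟩, compare_toDT ℳ G m⟩

end Groth.GrModTransform
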