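import Groth.Agent.Misc7.HypersurfaceTor
import Mathlib.LinearAlgebra.ExteriorPower.Basic
import Mathlib.LinearAlgebra.Determinant
import Mathlib.RingTheory.LocalRing.Module
import Mathlib.CategoryTheory.Monoidal.Linear
import Mathlib.Algebra.Homology.ShortComplex.Linear

/-!
Annihilators of Tor over a hypersurface by the derivatives of its equation.
-/

universe u

open CategoryTheory CategoryTheory.Limits TensorProduct MonoidalCategory

namespace Groth.HypTor

open Groth.EtaleAlgebra Groth.SGA7.TorSeq

variable {R : Type u} [CommRing R]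

/-- A scalar whose multiplication factors through a flat module kills the positive Tor. -/
theorem smul_tor_eq_zero_of_factor {M F : Type u} [AddCommGroup M] [Module R M] [AddCommGroup F]
    [Module R F] [Module.Flat R F] (a : R) (ψ : M →ₗ[R] F) (κ : F →ₗ[R] M) (h : ∀ x, κ (ψ x) = a • x)
    (Y : ModuleCat.{u} R) (i : ℕ) (hi : 0 < i)
    (y : (((Tor (ModuleCat.{u} R) i).obj (ModuleCat.of R M)).obj Y : ModuleCat.{u} R)) : a • y = 0 := by
  obtain ⟨P⟩ := (inferInstance : HasProjectiveResolution Y).out
  let e : (((Tor (ModuleCat.{u} R) i).obj (ModuleCat.of R M)).obj Y : ModuleCat.{u} R) ≃ₗ[R]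
      ((tc (ModuleCat.of R M) P).homology i : ModuleCat.{u} R) :=
    (P.isoLeftDerivedObj ((tensoringLeft (ModuleCat.{u} R)).obj (ModuleCat.of R M)) i).toLinearEquiv
  refine e.injective ?_
  rw [map_smul, map_zero]
  let tm : ∀ {M M' : ModuleCat.{u} R}, (M ⟶ M') → (tc M P ⟶ tc M' P) := fun f =>
    (NatTrans.mapHomologicalComplex ((tensoringLeft (ModuleCat.{u} R)).map f) _).app P.complex
  have hcomp : tm (ModuleCat.ofHom ψ) ≫ tm (ModuleCat.ofHom κ) = a • 𝟙 (tc (ModuleCat.of R M) P) := by
    ext j : 1
    change (ModuleCat.ofHom ψ ▷ P.complex.X j) ≫ (ModuleCat.ofHom κ ▷ P.complex.X j) =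
      a • 𝟙 (ModuleCat.of R M ⊗ P.complex.X j)
    rw [← comp_whiskerRight, show ModuleCat.ofHom ψ ≫ ModuleCat.ofHom κ = a • 𝟙 (ModuleCat.of R M) from
      ModuleCat.hom_ext (LinearMap.ext h), MonoidalLinear.smul_whiskerRight, id_whiskerRight]
  have hz : IsZero ((tc (ModuleCat.of R F) P).homology i) :=
    (isZero_tor_iff _ Y P i).1 (isZero_tor_of_flat (ModuleCat.of R F) Y i hi)
  have h0 : HomologicalComplex.homologyMap (a • 𝟙 (tc (ModuleCat.of R M) P)) i = 0 := by
    rw [← hcomp, HomologicalComplex.homologyMap_comp, hz.eq_of_tgt (HomologicalComplex.homologyMap (tm _) i) 0,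
      zero_comp]
  have h1 : HomologicalComplex.homologyMap (a • 𝟙 (tc (ModuleCat.of R M) P)) i =
      a • 𝟙 ((tc (ModuleCat.of R M) P).homology i) := by
    change ShortComplex.homologyMap (((HomologicalComplex.shortComplexFunctor _ _ i).map
      (a • 𝟙 (tc (ModuleCat.of R M) P)))) = _
    have hl : (HomologicalComplex.shortComplexFunctor (ModuleCat.{u} R) (ComplexShape.down ℕ) i).map
        (a • 𝟙 (tc (ModuleCat.of R M) P)) =
        a • (HomologicalComplex.shortComplexFunctor (ModuleCat.{u} R) (ComplexShape.down ℕ) i).map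
          (𝟙 (tc (ModuleCat.of R M) P)) := by
      ext <;> rfl
    rw [hl, ShortComplex.homologyMap_smul, CategoryTheory.Functor.map_id, ShortComplex.homologyMap_id]
    rfl
  exact congr($(h1.symm.trans h0) (e y))

variable {B : Type u} [CommRing B] [Algebra B R]

/-- Derivatives of the equation kill Tor of modules of tor dimension at most one. -/
theorem smul_tor_eq_zero_one (D : B →+ B) (hD : ∀ a b, D (a * b) = a * D b + b * D a) (g : B)
    (hsurj : Function.Surjective (algebraMap B R)) (hgR : algebraMap B R g = 0)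
    {M : Type u} [AddCommGroup M] [Module B M] [Module R M] [IsScalarTower B R M]
    (hM : DRing.HasTorDimLE B 1 M) (Y : ModuleCat.{u} R) (i : ℕ) (hi : 0 < i)
    (y : (((Tor (ModuleCat.{u} R) i).obj (ModuleCat.of R M)).obj Y : ModuleCat.{u} R)) :
    algebraMap B R (D g) • y = 0 := by
  let π : (M →₀ B) →ₗ[B] M := Finsupp.linearCombination B id
  have hπ : Function.Surjective π := fun n => ⟨Finsupp.single n 1, by simp [π]⟩
  have : Module.Flat B (LinearMap.ker π) := flat_of_hasTorDimLE_zero (LinearMap.ker π)
    (hasTorDimLE_kernel (K := LinearMap.ker π) (LinearMap.ker π).subtype π Subtype.val_injective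
      (LinearMap.exact_subtype_ker_map π) hπ hM)
  have hgM : ∀ x : M, g • x = 0 := fun x => by rw [← algebraMap_smul R, hgR, zero_smul]
  let G : (M →₀ B) →ₗ[B] R ⊗[B] LinearMap.ker π :=
    (TensorProduct.mk B R (LinearMap.ker π) 1).comp
      ((g • LinearMap.id : (M →₀ B) →ₗ[B] (M →₀ B)).codRestrict (LinearMap.ker π) fun f => by
        simp [hgM])
  have hG : ∀ f : LinearMap.ker π, G f.1 = 0 := fun f => by
    have e : G f.1 = (1 : R) ⊗ₜ[B] (g • f) := rfl
    rw [e, TensorProduct.tmul_smul, TensorProduct.smul_tmul', ← Algebra.algebraMap_eq_smul_one, hgR,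
      TensorProduct.zero_tmul]
  have hGπ : ∀ f, G (Finsupp.single (π f) 1) = G f := fun f => by
    have := hG ⟨Finsupp.single (π f) 1 - f, by simp [π]⟩
    rwa [map_sub, sub_eq_zero] at this
  let ψ₀ : M →ₗ[B] R ⊗[B] LinearMap.ker π :=
    { toFun := fun x => G (Finsupp.single x 1)
      map_add' := fun x y => by
        rw [← map_add, show x + y = π (Finsupp.single x 1 + Finsupp.single y 1) by simp [π], hGπ]
      map_smul' := fun b x => by
        rw [RingHom.id_apply, ← map_smul, show b • x = π (b • Finsupp.single x 1) by simp [π], hGπ] }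
  let ψ : M →ₗ[R] R ⊗[B] LinearMap.ker π :=
    { toFun := ψ₀
      map_add' := ψ₀.map_add
      map_smul' := fun r x => by
        obtain ⟨b, rfl⟩ := hsurj r
        rw [RingHom.id_apply, algebraMap_smul, algebraMap_smul, map_smul] }
  let DF : (M →₀ B) →+ (M →₀ B) := Finsupp.mapRange.addMonoidHom D
  have hDF : ∀ (b : B) (f : M →₀ B), DF (b • f) = b • DF f + D b • f := fun b f => Finsupp.ext fun m => by
    simp [DF, hD, mul_comm]
  let κ₀ : LinearMap.ker π →ₗ[B] M :=
    { toFun := fun k => π (DF k.1)
      map_add' := fun k l => by simp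
      map_smul' := fun b k => by
        rw [RingHom.id_apply, Submodule.coe_smul, hDF, map_add, map_smul, map_smul,
          show π k.1 = 0 from k.2, smul_zero, add_zero] }
  have hκ : ∀ k : LinearMap.ker π, (κ₀.liftBaseChange R) ((1 : R) ⊗ₜ[B] k) = π (DF (k : M →₀ B)) := by
    intro k
    rw [LinearMap.liftBaseChange_tmul, one_smul]
    rfl
  have hmem : ∀ x : M, g • Finsupp.single x (1 : B) ∈ LinearMap.ker π := fun x => by
    rw [LinearMap.mem_ker, map_smul, hgM]
  have hψ : ∀ x, ψ x = (1 : R) ⊗ₜ[B] (⟨g • Finsupp.single x (1 : B), hmem x⟩ : LinearMap.ker π) :=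
    fun x => rfl
  have key : ∀ x, (κ₀.liftBaseChange R) (ψ x) = algebraMap B R (D g) • x := fun x => by
    have e : g • Finsupp.single x (1 : B) = Finsupp.single x g := by
      rw [Finsupp.smul_single, smul_eq_mul, mul_one]
    rw [hψ, hκ, algebraMap_smul]
    simp only [e]
    simp [DF, π]
  exact smul_tor_eq_zero_of_factor (F := R ⊗[B] LinearMap.ker π) (algebraMap B R (D g)) ψ
    (κ₀.liftBaseChange R) key Y i hi y

/-- Derivatives of the equation kill high Tor of modules of finite tor dimension. -/
theorem smul_tor_eq_zero (D : B →+ B) (hD : ∀ a b, D (a * b) = a * D b + b * D a) (g : B)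
    (hg : IsSMulRegular B g) (hsurj : Function.Surjective (algebraMap B R))
    (hker : RingHom.ker (algebraMap B R) = Ideal.span {g}) (d : ℕ) :
    ∀ (M : Type u) [AddCommGroup M] [Module B M] [Module R M] [IsScalarTower B R M],
      DRing.HasTorDimLE B d M → ∀ (Y : ModuleCat.{u} R) (i : ℕ), d ≤ i →
      ∀ y : (((Tor (ModuleCat.{u} R) i).obj (ModuleCat.of R M)).obj Y : ModuleCat.{u} R),
        algebraMap B R (D g) • y = 0 := by
  have hgR : algebraMap B R g = 0 := by
    rw [← RingHom.mem_ker, hker]; exact Ideal.mem_span_singleton_self g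
  rcases d with _ | d
  · intro M _ _ _ _ h Y i _ y
    have : Module.Flat B M := flat_of_hasTorDimLE_zero M h
    have h0 : ∀ x : M, x = 0 := fun x => by
      refine (TensorProduct.lid B M).symm.injective (Module.Flat.rTensor_preserves_injective_linearMap
        (M := M) (LinearMap.mulLeft B g) hg ?_)
      rw [TensorProduct.lid_symm_apply, TensorProduct.lid_symm_apply, LinearMap.rTensor_tmul,
        LinearMap.rTensor_tmul, LinearMap.mulLeft_apply, mul_one, TensorProduct.tmul_zero,
        show g ⊗ₜ[B] x = (g • (1 : B)) ⊗ₜ[B] x by rw [smul_eq_mul, mul_one], TensorProduct.smul_tmul,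
        ← algebraMap_smul R g x, hgR, zero_smul, TensorProduct.tmul_zero]
    have : Subsingleton M := ⟨fun x y => (h0 x).trans (h0 y).symm⟩
    have hz : IsZero (((Tor (ModuleCat.{u} R) i).obj (ModuleCat.of R M)).obj Y) := by
      obtain ⟨P⟩ := (inferInstance : HasProjectiveResolution Y).out
      refine (isZero_tor_iff _ Y P i).2 (ShortComplex.isZero_homology_of_isZero_X₂ _ ?_)
      exact (ModuleCat.isZero_iff_subsingleton).2 (inferInstanceAs (Subsingleton (M ⊗[R] P.complex.X i)))
    exact (ModuleCat.isZero_iff_subsingleton.1 hz).elim _ _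
  · induction d with
    | zero => exact fun M _ _ _ _ h Y i hi => smul_tor_eq_zero_one D hD g hsurj hgR h Y i hi
    | succ d ih =>
      intro M _ _ _ _ h Y i hi y
      obtain ⟨i, rfl⟩ : ∃ j, i = j + 1 := ⟨i - 1, by omega⟩
      let ρ : (M →₀ R) →ₗ[R] M := Finsupp.linearCombination R id
      have hρ : Function.Surjective ρ := fun n => ⟨Finsupp.single n 1, by simp [ρ]⟩
      have hR : DRing.HasTorDimLE B (d + 1) R := fun N _ _ p hp => by
        refine (hasTorDimLE_cokernel (LinearMap.mulLeft B g) (Algebra.linearMap B R) hg ?_ hsurj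
          (hasTorDimLE_of_flat 0 B)) N p (by omega)
        intro x
        change x ∈ RingHom.ker (algebraMap B R) ↔ _
        rw [hker, Ideal.mem_span_singleton]
        exact ⟨fun ⟨c, hc⟩ => ⟨c, hc.symm⟩, fun ⟨c, hc⟩ => ⟨c, hc.symm⟩⟩
      have hF : DRing.HasTorDimLE B (d + 1) (M →₀ R) := by
        intro N _ _ p hp
        refine (hasTorDimLE_cokernel (g • LinearMap.id : (M →₀ B) →ₗ[B] (M →₀ B))
          (Finsupp.mapRange.linearMap (Algebra.linearMap B R)) ?_ ?_ ?_
          (hasTorDimLE_of_flat 0 (M →₀ B))) N p (by omega)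
        · exact fun x y e => Finsupp.ext fun a => hg (congr($e a))
        · intro f
          constructor
          · intro h
            have hd : ∀ a, ∃ b, f a = g * b := fun a => by
              have : f a ∈ RingHom.ker (algebraMap B R) := by
                rw [RingHom.mem_ker]; exact congr($h a)
              rw [hker] at this
              exact Ideal.mem_span_singleton.1 this
            choose c hc using hd
            refine ⟨Finsupp.onFinset f.support c fun a ha => Finsupp.mem_support_iff.2 fun e => ha ?_, ?_⟩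
            · exact hg (show g • c a = g • 0 by rw [smul_eq_mul, ← hc a, e, smul_zero])
            · ext a; simp [hc a]
          · rintro ⟨f', rfl⟩
            ext a
            change algebraMap B R ((g • f') a) = 0
            simp [hgR]
        · exact Finsupp.mapRange_surjective _ (map_zero _) hsurj
      have hK : DRing.HasTorDimLE B (d + 1) (LinearMap.ker ρ) := fun N _ _ p hp =>
        ModuleCat.isZero_iff_subsingleton.1 (isZero_tor_X₁
          (shortExact_mk ((LinearMap.ker ρ).subtype.restrictScalars B) (ρ.restrictScalars B)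
            Subtype.val_injective (LinearMap.exact_subtype_ker_map ρ) hρ)
          (ModuleCat.of B N) p (ModuleCat.isZero_iff_subsingleton.2 (h N (p + 1) (by omega)))
          (ModuleCat.isZero_iff_subsingleton.2 (hF N p hp)))
      obtain ⟨e⟩ := nonempty_tor_dimShift (K := LinearMap.ker ρ) (LinearMap.ker ρ).subtype ρ
        Subtype.val_injective (LinearMap.exact_subtype_ker_map ρ) hρ Y i (by omega)
      refine e.toLinearEquiv.injective ?_
      rw [map_smul, map_zero]
      exact ih (LinearMap.ker ρ) hK Y i (by omega) _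

section Annihilator

variable {A : Type u} [CommRing A] [Algebra A B] [Algebra A R] [IsScalarTower A B R]

/-- An element annihilating the top exterior power dies in any free quotient of that rank. -/
theorem algebraMap_eq_zero_of_annihilator {R L W Q : Type u} [CommRing R] [CommRing L] [Algebra R L]
    [Nontrivial L] [AddCommGroup W] [Module R W] [AddCommGroup Q] [Module R Q] [Module L Q]
    [IsScalarTower R L Q] [Module.Free L Q] [Module.Finite L Q] (n : ℕ) (hfr : Module.finrank L Q = n)
    (τ : W →ₗ[R] Q) (hspan : Submodule.span L (Set.range τ) = ⊤) (a : R)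
    (ha : a ∈ (⋀[R]^n W).annihilator) : algebraMap R L a = 0 := by
  let b := Module.finBasisOfFinrankEq L Q hfr
  let ω : W [⋀^Fin n]→ₗ[R] L :=
    { toMultilinearMap := (b.det.toMultilinearMap.restrictScalars R).compLinearMap fun _ => τ
      map_eq_zero_of_eq' := fun v i j hv hij =>
        b.det.map_eq_zero_of_eq (fun i => τ (v i)) (congrArg τ hv) hij }
  have hω : ∀ v : Fin n → W, algebraMap R L a * b.det (fun i => τ (v i)) = 0 := by
    intro v
    have h1 : a • exteriorPower.ιMulti R n v = 0 := Module.mem_annihilator.1 ha _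
    have h2 := congrArg (exteriorPower.alternatingMapLinearEquiv ω) h1
    rw [map_smul, map_zero, exteriorPower.alternatingMapLinearEquiv_apply_ιMulti] at h2
    rw [← Algebra.smul_def]
    exact h2
  have hall : ∀ (k : ℕ), k ≤ n → ∀ v : Fin n → Q, (∀ i : Fin n, k ≤ i.1 → v i ∈ Set.range τ) →
      algebraMap R L a * b.det v = 0 := by
    intro k
    induction k with
    | zero =>
      intro _ v hv
      choose w hw using fun i => hv i (Nat.zero_le _)
      rw [show v = fun i => τ (w i) from funext fun i => (hw i).symm]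
      exact hω w
    | succ k ih =>
      intro hk v hv
      have hmem : v ⟨k, hk⟩ ∈ Submodule.span L (Set.range τ) := hspan ▸ trivial
      suffices h : ∀ x ∈ Submodule.span L (Set.range τ),
          algebraMap R L a * b.det (Function.update v ⟨k, hk⟩ x) = 0 by
        simpa using h _ hmem
      intro x hx
      induction hx using Submodule.span_induction with
      | mem x hx =>
        refine ih (by omega) _ fun i hi => ?_
        by_cases h : i = ⟨k, hk⟩
        · subst h; simpa using hx
        · rw [Function.update_of_ne h]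
          exact hv i (by rcases Nat.lt_or_eq_of_le hi with h' | h'; exacts [h', absurd (Fin.ext h'.symm) h])
      | zero => simp
      | add x y _ _ hx hy => rw [b.det.map_update_add, mul_add, hx, hy, add_zero]
      | smul c x _ hx => rw [b.det.map_update_smul, mul_smul_comm, hx, smul_zero]
  have := hall n le_rfl b fun i hi => absurd hi (by omega)
  rw [b.det_self, mul_one] at this
  exact this

/-- The annihilator of the top exterior power of the differentials of a hypersurface lies in the
ideal of the derivatives of the equation. -/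
theorem annihilator_le_span (n : ℕ) [Module.Projective B (Ω[B⁄A])] [Module.Finite B (Ω[B⁄A])]
    (hn : ∀ p : PrimeSpectrum B, Module.rankAtStalk (Ω[B⁄A]) p = n) (g : B)
    (hsurj : Function.Surjective (algebraMap B R))
    (hker : RingHom.ker (algebraMap B R) = Ideal.span {g}) :
    (⋀[R]^n (Ω[R⁄A])).annihilator ≤
      Ideal.span (Set.range fun φ : Ω[B⁄A] →ₗ[B] B => algebraMap B R (φ (KaehlerDifferential.D A B g))) := by
  set I := Ideal.span (Set.range fun φ : Ω[B⁄A] →ₗ[B] B => algebraMap B R (φ (KaehlerDifferential.D A B g)))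
  intro a ha
  rw [← Ideal.Quotient.eq_zero_iff_mem]
  by_contra hne
  obtain ⟨m, hm, hle⟩ := Ideal.exists_le_maximal ((⊥ : Ideal (R ⧸ I)).colon {Ideal.Quotient.mk I a}) (by
    intro e
    have := (Ideal.eq_top_iff_one _).1 e
    simp [hne] at this)
  let L := Localization.AtPrime m
  have ha0 : algebraMap R L a ≠ 0 := by
    intro e
    rw [IsScalarTower.algebraMap_apply R (R ⧸ I) L, IsLocalization.map_eq_zero_iff m.primeCompl] at e
    obtain ⟨⟨s, hs⟩, hsa⟩ := e
    exact hs (hle (by simpa [Submodule.mem_colon_singleton] using hsa))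
  have hdg : (1 : L) ⊗ₜ[B] (KaehlerDifferential.D A B g) = 0 := by
    classical
    obtain ⟨N, p, hp⟩ := Module.Finite.exists_fin' B (Ω[B⁄A])
    obtain ⟨σ, hσ⟩ := Module.projective_lifting_property p LinearMap.id hp
    have hx : ∀ z : Ω[B⁄A], z = ∑ j, σ z j • p (Pi.single j 1) := fun z => by
      have h1 : σ z = ∑ j, σ z j • (Pi.single j (1 : B) : Fin N → B) := by
        ext i
        simp [Finset.sum_apply, Pi.single_apply]
      have h2 := LinearMap.congr_fun hσ z
      rw [LinearMap.comp_apply, LinearMap.id_apply] at h2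
      conv_lhs => rw [← h2, h1]
      simp only [map_sum, map_smul]
    rw [hx (KaehlerDifferential.D A B g), TensorProduct.tmul_sum]
    refine Finset.sum_eq_zero fun j _ => ?_
    rw [TensorProduct.tmul_smul, TensorProduct.smul_tmul', ← Algebra.algebraMap_eq_smul_one,
      IsScalarTower.algebraMap_apply B R L, IsScalarTower.algebraMap_apply R (R ⧸ I) L,
      Ideal.Quotient.algebraMap_eq, Ideal.Quotient.eq_zero_iff_mem.2
        (show algebraMap B R (σ (KaehlerDifferential.D A B g) j) ∈ I from
          Ideal.subset_span ⟨(LinearMap.proj j).comp σ, rfl⟩), map_zero, TensorProduct.zero_tmul]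
  have hgR : algebraMap B R g = 0 := by
    rw [← RingHom.mem_ker, hker]; exact Ideal.mem_span_singleton_self g
  let Q := L ⊗[B] Ω[B⁄A]
  let d₀ : B → Q := fun b => (1 : L) ⊗ₜ[B] (KaehlerDifferential.D A B b)
  have hd₀ : ∀ b b', algebraMap B R b = algebraMap B R b' → d₀ b = d₀ b' := by
    intro b b' e
    have h : b - b' ∈ RingHom.ker (algebraMap B R) := by simp [RingHom.mem_ker, e]
    rw [hker, Ideal.mem_span_singleton] at h
    obtain ⟨c, hc⟩ := h
    rw [← sub_eq_zero]
    have h1 : d₀ b - d₀ b' = (1 : L) ⊗ₜ[B] (g • KaehlerDifferential.D A B c + c • KaehlerDifferential.D A B g) := by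
      rw [← Derivation.leibniz, ← hc, map_sub, TensorProduct.tmul_sub]
    rw [h1, TensorProduct.tmul_add, TensorProduct.tmul_smul c, hdg, smul_zero, add_zero,
      TensorProduct.tmul_smul, TensorProduct.smul_tmul', ← Algebra.algebraMap_eq_smul_one,
      IsScalarTower.algebraMap_apply B R L, hgR, map_zero, TensorProduct.zero_tmul]
  let sec := Function.surjInv hsurj
  have hsec : ∀ r, algebraMap B R (sec r) = r := Function.surjInv_eq hsurj
  have hadd : ∀ b b', d₀ (b + b') = d₀ b + d₀ b' := fun b b' => by
    simp only [d₀, map_add, TensorProduct.tmul_add]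
  have hmul : ∀ b b', d₀ (b * b') = algebraMap B R b • d₀ b' + algebraMap B R b' • d₀ b := fun b b' => by
    simp only [d₀, Derivation.leibniz, TensorProduct.tmul_add, TensorProduct.tmul_smul]
    rw [algebraMap_smul, algebraMap_smul]
  have hsmul : ∀ (c : A) b, d₀ (c • b) = c • d₀ b := fun c b => by
    simp only [d₀, Derivation.map_smul, TensorProduct.tmul_smul]
  have hone : d₀ 1 = 0 := by
    simp only [d₀, Derivation.map_one_eq_zero, TensorProduct.tmul_zero]
  let dlin : R →ₗ[A] Q :=
    { toFun := fun r => d₀ (sec r)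
      map_add' := fun x y => by
        rw [hd₀ (sec (x + y)) (sec x + sec y) (by rw [map_add, hsec, hsec, hsec]), hadd]
      map_smul' := fun c x => by
        rw [RingHom.id_apply, hd₀ (sec (c • x)) (c • sec x) (by
          rw [hsec, Algebra.smul_def, Algebra.smul_def, map_mul, ← IsScalarTower.algebraMap_apply, hsec]), hsmul] }
  let dR : Derivation A R Q :=
    { toLinearMap := dlin
      map_one_eq_zero' := by
        change d₀ (sec 1) = 0
        rw [hd₀ (sec 1) 1 (by rw [hsec, map_one]), hone]
      leibniz' := fun x y => by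
        change d₀ (sec (x * y)) = x • d₀ (sec y) + y • d₀ (sec x)
        rw [hd₀ (sec (x * y)) (sec x * sec y) (by rw [map_mul, hsec, hsec, hsec]), hmul, hsec, hsec] }
  let τ : Ω[R⁄A] →ₗ[R] Q := Derivation.liftKaehlerDifferential (M := Q) dR
  have hτ : ∀ x : Ω[B⁄A], (1 : L) ⊗ₜ[B] x ∈ LinearMap.range τ := by
    intro x
    have hx : x ∈ Submodule.span B (Set.range (KaehlerDifferential.D A B)) := by
      rw [KaehlerDifferential.span_range_derivation]; trivial
    induction hx using Submodule.span_induction with
    | mem x hx =>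
      obtain ⟨b, rfl⟩ := hx
      refine ⟨KaehlerDifferential.D A R (algebraMap B R b), ?_⟩
      rw [Derivation.liftKaehlerDifferential_comp_D]
      exact hd₀ _ _ (hsec _)
    | zero => simp
    | add x y _ _ hx hy => rw [TensorProduct.tmul_add]; exact add_mem hx hy
    | smul b x _ hx =>
      rw [TensorProduct.tmul_smul, ← algebraMap_smul R b ((1 : L) ⊗ₜ[B] x)]
      exact Submodule.smul_mem _ _ hx
  have hspan : Submodule.span L (Set.range τ) = ⊤ := by
    rw [eq_top_iff]
    rintro z -
    induction z using TensorProduct.induction_on with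
    | zero => simp
    | tmul l x =>
      rw [show l ⊗ₜ[B] x = l • ((1 : L) ⊗ₜ[B] x) by rw [TensorProduct.smul_tmul', smul_eq_mul, mul_one]]
      exact Submodule.smul_mem _ _ (Submodule.subset_span (hτ x))
    | add x y hx hy => exact add_mem hx hy
  have hfree : Module.Free L Q := Module.free_of_flat_of_isLocalRing (R := L) (P := L ⊗[B] Ω[B⁄A])
  have hfr : Module.finrank L Q = n := by
    obtain ⟨p⟩ : Nonempty (PrimeSpectrum L) := inferInstance
    have h1 : Module.rankAtStalk Q p = n := by
      rw [Module.rankAtStalk_baseChange]; exact hn _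
    rw [Module.rankAtStalk_eq_finrank_of_free] at h1
    simpa using h1
  exact ha0 (algebraMap_eq_zero_of_annihilator (L := L) (Q := L ⊗[B] Ω[B⁄A]) n hfr τ hspan a ha)

end Annihilator

end Groth.HypTor
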