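import Groth.Agent.EtaleAlgebra.TorDimAscend
import Groth.Agent.KoszulLCI.TorPolynomial
import Groth.Agent.DAlg.TorDim
import Groth.Agent.Calg5.RelGCI
import Mathlib.RingTheory.RingHom.StandardSmooth
import Mathlib.RingTheory.Smooth.StandardSmoothOfFree
import Mathlib.RingTheory.Etale.Kaehler
import Mathlib.RingTheory.Etale.Weakly
import Mathlib.RingTheory.Spectrum.Prime.FreeLocus

/-!
Tor dimension along smooth maps and two-periodicity of Tor over a hypersurface.
-/

universe u

open CategoryTheory CategoryTheory.Limits TensorProduct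

namespace Groth.HypTor

open Groth.EtaleAlgebra

/-- Localizing a dimension shift. -/
theorem hasTorDimLE_localized_kernel {B : Type u} [CommRing B] (T : Submonoid B) {K F N : Type u}
    [AddCommGroup K] [Module B K] [AddCommGroup F] [Module B F] [AddCommGroup N] [Module B N]
    [Module.Flat B F] (f : K →ₗ[B] F) (g : F →ₗ[B] N) (hf : Function.Injective f)
    (he : Function.Exact f g) (hg : Function.Surjective g) {d : ℕ}
    (h : DRing.HasTorDimLE (Localization T) (d + 1) (LocalizedModule T N)) :
    DRing.HasTorDimLE (Localization T) d (LocalizedModule T K) := by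
  have : Module.Flat (Localization T) (LocalizedModule T F) := Module.Flat.localizedModule T
  exact hasTorDimLE_kernel (LocalizedModule.map T f) (LocalizedModule.map T g)
    (LocalizedModule.map_injective T _ hf) (LocalizedModule.map_exact T _ _ he)
    (LocalizedModule.map_surjective T _ hg) h

/-- Tor dimension can be checked on a covering by basic opens. -/
theorem hasTorDimLE_of_localized_span {B : Type u} [CommRing B] (s : Set B) (hs : Ideal.span s = ⊤)
    (d : ℕ) : ∀ (N : Type u) [AddCommGroup N] [Module B N],
      (∀ r : s, DRing.HasTorDimLE (Localization.Away r.1) d (LocalizedModule.Away r.1 N)) →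
      DRing.HasTorDimLE B d N := by
  induction d with
  | zero =>
    intro N _ _ h
    have : Module.Flat B N := Module.flat_of_localized_span B N s hs fun r =>
      have := flat_of_hasTorDimLE_zero _ (h r)
      Module.Flat.trans B (Localization.Away r.1) (LocalizedModule.Away r.1 N)
    exact hasTorDimLE_of_flat 0 N
  | succ d ih =>
    intro N _ _ h
    let g : (N →₀ B) →ₗ[B] N := Finsupp.linearCombination B id
    have hg : Function.Surjective g := fun n => ⟨Finsupp.single n 1, by simp [g]⟩
    refine hasTorDimLE_cokernel (LinearMap.ker g).subtype g Subtype.val_injective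
      (LinearMap.exact_subtype_ker_map g) hg (ih (LinearMap.ker g) fun r => ?_)
    exact hasTorDimLE_localized_kernel (Submonoid.powers r.1) (K := LinearMap.ker g)
      (LinearMap.ker g).subtype g Subtype.val_injective (LinearMap.exact_subtype_ker_map g) hg (h r)

/-- A standard smooth algebra of relative dimension `d` raises tor dimension of flat modules by at
most `d`. -/
theorem hasTorDimLE_of_isStandardSmooth (A B : Type u) [CommRing A] [CommRing B] [Algebra A B]
    (d : ℕ) [Algebra.IsStandardSmoothOfRelativeDimension d A B]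
    (N : Type u) [AddCommGroup N] [Module A N] [Module B N] [IsScalarTower A B N] [Module.Flat A N] :
    DRing.HasTorDimLE B d N := by
  obtain ⟨g, hg⟩ := Algebra.IsStandardSmoothOfRelativeDimension.exists_etale_mvPolynomial d A B
  let P := MvPolynomial (Fin d) A
  let _ : Algebra P B := g.toRingHom.toAlgebra
  have : IsScalarTower A P B := IsScalarTower.of_algebraMap_eq' g.comp_algebraMap.symm
  have : Algebra.Etale P B := RingHom.etale_algebraMap.mp hg
  let _ : Module P N := Module.compHom N (algebraMap P B)
  have : IsScalarTower P B N := IsScalarTower.of_algebraMap_smul fun _ _ => rfl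
  have : IsScalarTower A P N := IsScalarTower.of_algebraMap_smul fun a x => by
    change algebraMap P B (algebraMap A P a) • x = a • x
    rw [← IsScalarTower.algebraMap_apply, algebraMap_smul]
  refine hasTorDimLE_of_weaklyEtale P B d N ((Groth.DAlg.hasTorDimLE_iff N d).2 ?_)
  have h := Groth.KoszulLCI.torUp_mvPolynomial d A 0 N
    ((Groth.DAlg.hasTorDimLE_iff N 0).1 (hasTorDimLE_of_flat 0 N))
  rwa [zero_add] at h

/-- Modules flat over `A` have tor dimension at most `n` over a smooth algebra of rank `n`. -/
theorem hasTorDimLE_of_smooth (A B : Type u) [CommRing A] [CommRing B] [Algebra A B]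
    [Algebra.Smooth A B] (n : ℕ) (hn : ∀ p : PrimeSpectrum B, Module.rankAtStalk (Ω[B⁄A]) p = n)
    (m : ℕ) : ∀ (N : Type u) [AddCommGroup N] [Module A N] [Module B N] [IsScalarTower A B N],
      DRing.HasTorDimLE A m N → DRing.HasTorDimLE B (m + n) N := by
  obtain ⟨s, hs, hss⟩ := Algebra.Smooth.exists_span_eq_top_isStandardSmooth A B
  induction m with
  | zero =>
    intro N _ _ _ _ h
    have : Module.Flat A N := flat_of_hasTorDimLE_zero N h
    rw [zero_add]
    refine hasTorDimLE_of_localized_span s hs n N fun r => ?_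
    let Br := Localization.Away r.1
    have : Algebra.IsStandardSmooth A Br := hss r.1 r.2
    rcases subsingleton_or_nontrivial Br with hB | hB
    · have : Subsingleton (LocalizedModule.Away r.1 N) := Module.subsingleton Br _
      have : Module.Free Br (LocalizedModule.Away r.1 N) := inferInstance
      exact hasTorDimLE_of_flat n _
    · have : Module.Flat A (LocalizedModule.Away r.1 N) := Groth.Calg5.RelGCI.flat_localizedModule _
      have : IsScalarTower A Br (LocalizedModule.Away r.1 N) :=
        IsScalarTower.of_algebraMap_smul fun a x => by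
          rw [IsScalarTower.algebraMap_apply A B Br, algebraMap_smul, algebraMap_smul]
      obtain ⟨d, hd⟩ : ∃ d, Algebra.IsStandardSmoothOfRelativeDimension d A Br := by
        obtain ⟨ι, σ, _, _, ⟨P⟩⟩ := (inferInstance : Algebra.IsStandardSmooth A Br).out
        exact ⟨_, ι, σ, _, ‹_›, P, rfl⟩
      obtain rfl : d = n := by
        have hrk := Algebra.IsStandardSmoothOfRelativeDimension.rank_kaehlerDifferential
          (R := A) (S := Br) d
        obtain ⟨p⟩ : Nonempty (PrimeSpectrum Br) := inferInstance
        have h1 : Module.rankAtStalk (Br ⊗[B] Ω[B⁄A]) p = n := by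
          rw [Module.rankAtStalk_baseChange]; exact hn _
        have : Algebra.FormallyEtale B Br :=
          Algebra.FormallyEtale.of_isLocalization (Submonoid.powers r.1)
        rw [Module.rankAtStalk_eq_of_equiv
          (KaehlerDifferential.tensorKaehlerEquivOfFormallyEtale A B Br)] at h1
        rw [← h1, Module.rankAtStalk_eq_finrank_of_free]
        simp [Module.finrank, hrk]
      exact hasTorDimLE_of_isStandardSmooth A Br d _
  | succ m ih =>
    intro N _ _ _ _ h
    let g : (N →₀ B) →ₗ[B] N := Finsupp.linearCombination B id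
    have hg : Function.Surjective g := fun n => ⟨Finsupp.single n 1, by simp [g]⟩
    have : Module.Flat A (N →₀ B) := Module.Flat.trans A B (N →₀ B)
    have hK : DRing.HasTorDimLE A m (LinearMap.ker g) :=
      hasTorDimLE_kernel ((LinearMap.ker g).subtype.restrictScalars A) (g.restrictScalars A)
        Subtype.val_injective (LinearMap.exact_subtype_ker_map g) hg h
    rw [Nat.succ_add]
    exact hasTorDimLE_cokernel (LinearMap.ker g).subtype g Subtype.val_injective
      (LinearMap.exact_subtype_ker_map g) hg (ih _ hK)

section Periodicity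

variable {R : Type u} [CommRing R]

/-- The connecting isomorphism of `Tor` along a short exact sequence with flat middle term. -/
theorem nonempty_tor_dimShift {K F N : Type u} [AddCommGroup K] [Module R K] [AddCommGroup F]
    [Module R F] [AddCommGroup N] [Module R N] [Module.Flat R F] (f : K →ₗ[R] F) (g : F →ₗ[R] N)
    (hf : Function.Injective f) (he : Function.Exact f g) (hg : Function.Surjective g)
    (Y : ModuleCat.{u} R) (i : ℕ) (hi : 1 ≤ i) :
    Nonempty ((((Tor (ModuleCat.{u} R) (i + 1)).obj (ModuleCat.of R N)).obj Y) ≅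
      (((Tor (ModuleCat.{u} R) i).obj (ModuleCat.of R K)).obj Y)) := by
  have hS := shortExact_mk f g hf he hg
  obtain ⟨P⟩ := (inferInstance : HasProjectiveResolution Y).out
  have h := Groth.SGA7.TorSeq.shortExact_tsc hS P
  have hz : ∀ j, 0 < j → IsZero ((Groth.SGA7.TorSeq.tc (ModuleCat.of R F) P).homology j) := fun j hj =>
    (Groth.SGA7.TorSeq.isZero_tor_iff _ Y P j).1
      (Groth.SGA7.TorSeq.isZero_tor_of_flat (ModuleCat.of R F) Y j hj)
  exact ⟨P.isoLeftDerivedObj _ (i + 1) ≪≫ h.δIso (i + 1) i rfl (hz _ (by omega)) (hz _ hi) ≪≫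
    (P.isoLeftDerivedObj _ i).symm⟩

variable {B : Type u} [CommRing B] [Algebra B R]

/-- A module over `B/g` of tor dimension at most one over `B` has two-periodic Tor. -/
theorem nonempty_tor_periodic_one (g : B) (hg : IsSMulRegular B g)
    (hsurj : Function.Surjective (algebraMap B R)) (hker : RingHom.ker (algebraMap B R) = Ideal.span {g})
    {M : Type u} [AddCommGroup M] [Module B M] [Module R M] [IsScalarTower B R M]
    (hM : DRing.HasTorDimLE B 1 M) (Y : ModuleCat.{u} R) (i : ℕ) (hi : 1 ≤ i) :
    Nonempty ((((Tor (ModuleCat.{u} R) (i + 2)).obj (ModuleCat.of R M)).obj Y) ≅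
      (((Tor (ModuleCat.{u} R) i).obj (ModuleCat.of R M)).obj Y)) := by
  let π : (M →₀ B) →ₗ[B] M := Finsupp.linearCombination B id
  have hπ : Function.Surjective π := fun n => ⟨Finsupp.single n 1, by simp [π]⟩
  have : Module.Flat B (LinearMap.ker π) := flat_of_hasTorDimLE_zero (LinearMap.ker π)
    (hasTorDimLE_kernel (K := LinearMap.ker π) (LinearMap.ker π).subtype π Subtype.val_injective
      (LinearMap.exact_subtype_ker_map π) hπ hM)
  have hgR : algebraMap B R g = 0 := by
    rw [← RingHom.mem_ker, hker]; exact Ideal.mem_span_singleton_self g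
  have hgM : ∀ x : M, g • x = 0 := fun x => by rw [← algebraMap_smul R, hgR, zero_smul]
  let ρ : (M →₀ R) →ₗ[R] M := Finsupp.linearCombination R id
  have hρ : Function.Surjective ρ := fun n => ⟨Finsupp.single n 1, by simp [ρ]⟩
  let red : (M →₀ B) →ₗ[B] (M →₀ R) := Finsupp.mapRange.linearMap (Algebra.linearMap B R)
  have hred : ∀ f, ρ (red f) = π f := by
    intro f
    induction f using Finsupp.induction_linear with
    | zero => simp
    | add a b ha hb => simp [ha, hb]
    | single a b => simp [ρ, π, red]
  have hred0 : ∀ f, red f = 0 ↔ ∃ f', f = g • f' := by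
    intro f
    constructor
    · intro h
      have hd : ∀ a, ∃ b, f a = g * b := fun a => by
        have : f a ∈ RingHom.ker (algebraMap B R) := by
          rw [RingHom.mem_ker]; exact congr($h a)
        rw [hker] at this
        exact Ideal.mem_span_singleton.1 this
      choose c hc using hd
      refine ⟨Finsupp.onFinset f.support c fun a ha => Finsupp.mem_support_iff.2 fun e => ha ?_, ?_⟩
      · exact hg (show g • c a = g • 0 by rw [smul_eq_mul, ← hc a, e, smul_zero])
      · ext a; simp [hc a]
    · rintro ⟨f', rfl⟩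
      ext a
      change algebraMap B R ((g • f') a) = 0
      simp [hgR]
  let C := LinearMap.ker ρ
  let toC : LinearMap.ker π →ₗ[B] C :=
    (red.comp (LinearMap.ker π).subtype).codRestrict (C.restrictScalars B) fun k => by
      change ρ (red k.1) = 0
      rw [hred]; exact k.2
  let φ : R ⊗[B] LinearMap.ker π →ₗ[R] C := toC.liftBaseChange R
  have h1 : ∀ z : R ⊗[B] LinearMap.ker π, ∃ k, z = 1 ⊗ₜ k := by
    intro z
    induction z using TensorProduct.induction_on with
    | zero => exact ⟨0, by simp⟩
    | tmul r k =>
      obtain ⟨b, rfl⟩ := hsurj r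
      exact ⟨b • k, by rw [Algebra.algebraMap_eq_smul_one, TensorProduct.smul_tmul]⟩
    | add x y hx hy =>
      obtain ⟨a, rfl⟩ := hx
      obtain ⟨b, rfl⟩ := hy
      exact ⟨a + b, by rw [TensorProduct.tmul_add]⟩
  have hφ : Function.Surjective φ := by
    rintro ⟨c, hc⟩
    obtain ⟨f, rfl⟩ := Finsupp.mapRange_surjective (Algebra.linearMap B R) (map_zero _) hsurj c
    refine ⟨1 ⊗ₜ ⟨f, ?_⟩, ?_⟩
    · exact (hred f).symm.trans hc
    · simp only [φ, LinearMap.liftBaseChange_tmul, one_smul]
      exact Subtype.ext rfl
  have h0 : ∀ k : LinearMap.ker π, (1 : R) ⊗ₜ[B] k = 0 → ∃ k', k = g • k' := by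
    intro k hk
    have hex : Function.Exact (LinearMap.mulLeft B g) (Algebra.linearMap B R) := fun x => by
      change x ∈ RingHom.ker (algebraMap B R) ↔ _
      rw [hker, Ideal.mem_span_singleton]
      exact ⟨fun ⟨c, hc⟩ => ⟨c, hc.symm⟩, fun ⟨c, hc⟩ => ⟨c, hc.symm⟩⟩
    obtain ⟨w, hw⟩ := (rTensor_exact (LinearMap.ker π) hex hsurj (1 ⊗ₜ k)).1 (by simpa using hk)
    refine ⟨TensorProduct.lid B _ w, ?_⟩
    have h2 : ∀ w : B ⊗[B] LinearMap.ker π,
        TensorProduct.lid B _ ((LinearMap.mulLeft B g).rTensor _ w) = g • TensorProduct.lid B _ w := by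
      intro w
      induction w using TensorProduct.induction_on with
      | zero => simp
      | tmul b x => simp [mul_smul]
      | add x y hx hy => simp only [map_add, hx, hy, smul_add]
    rw [← h2, hw, TensorProduct.lid_tmul, one_smul]
  let G : (M →₀ B) →ₗ[B] R ⊗[B] LinearMap.ker π :=
    (TensorProduct.mk B R (LinearMap.ker π) 1).comp
      ((g • LinearMap.id : (M →₀ B) →ₗ[B] (M →₀ B)).codRestrict (LinearMap.ker π) fun f => by
        simp [hgM])
  have hG : ∀ f : LinearMap.ker π, G f.1 = 0 := fun f => by
    have e : G f.1 = (1 : R) ⊗ₜ[B] (g • f) := rfl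
    rw [e, TensorProduct.tmul_smul, TensorProduct.smul_tmul', ← Algebra.algebraMap_eq_smul_one, hgR,
      TensorProduct.zero_tmul]
  have hGπ : ∀ f, G (Finsupp.single (π f) 1) = G f := fun f => by
    have := hG ⟨Finsupp.single (π f) 1 - f, by simp [π]⟩
    rwa [map_sub, sub_eq_zero] at this
  let ψ₀ : M →ₗ[B] R ⊗[B] LinearMap.ker π :=
    { toFun := fun x => G (Finsupp.single x 1)
      map_add' := fun x y => by
        rw [← map_add, show x + y = π (Finsupp.single x 1 + Finsupp.single y 1) by simp [π], hGπ]
      map_smul' := fun b x => by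
        rw [RingHom.id_apply, ← map_smul, show b • x = π (b • Finsupp.single x 1) by simp [π], hGπ] }
  let ψ : M →ₗ[R] R ⊗[B] LinearMap.ker π :=
    { toFun := ψ₀
      map_add' := ψ₀.map_add
      map_smul' := fun r x => by
        obtain ⟨b, rfl⟩ := hsurj r
        rw [RingHom.id_apply, algebraMap_smul, algebraMap_smul, map_smul] }
  have hψπ : ∀ f, ψ (π f) = G f := hGπ
  have hψ : Function.Injective ψ := by
    rw [injective_iff_map_eq_zero]
    intro x hx
    obtain ⟨k', hk'⟩ := h0 _ hx
    have e : g • Finsupp.single x (1 : B) = g • (k' : M →₀ B) := congr(Subtype.val $hk')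
    have e' : Finsupp.single x (1 : B) = (k' : M →₀ B) := Finsupp.ext fun a => hg (congr($e a))
    rw [show x = π (Finsupp.single x 1) by simp [π], e']
    exact k'.2
  have hex : Function.Exact ψ φ := by
    intro z
    constructor
    · intro hz
      obtain ⟨k, rfl⟩ := h1 z
      have : red k.1 = 0 := by
        have h2 : φ ((1 : R) ⊗ₜ[B] k) = toC k := by simp [φ]
        rw [h2] at hz
        exact congrArg Subtype.val hz
      obtain ⟨f, hf⟩ := (hred0 _).1 this
      exact ⟨π f, (hψπ f).trans (congrArg ((1 : R) ⊗ₜ[B] ·) (Subtype.ext hf.symm))⟩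
    · rintro ⟨x, rfl⟩
      refine Subtype.ext ?_
      change ((φ (G (Finsupp.single x 1))) : M →₀ R) = 0
      simp only [φ, G, LinearMap.comp_apply, TensorProduct.mk_apply, LinearMap.liftBaseChange_tmul, one_smul]
      exact (hred0 _).2 ⟨Finsupp.single x 1, rfl⟩
  obtain ⟨e₁⟩ := nonempty_tor_dimShift (K := C) C.subtype ρ Subtype.val_injective
    (LinearMap.exact_subtype_ker_map ρ) hρ Y (i + 1) (by omega)
  obtain ⟨e₂⟩ := nonempty_tor_dimShift (K := M) (F := R ⊗[B] LinearMap.ker π) (N := C) ψ φ hψ hex hφ Y i hi
  exact ⟨e₁ ≪≫ e₂⟩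

/-- Two-periodicity of Tor over a hypersurface for modules of finite tor dimension. -/
theorem nonempty_tor_periodic (g : B) (hg : IsSMulRegular B g)
    (hsurj : Function.Surjective (algebraMap B R)) (hker : RingHom.ker (algebraMap B R) = Ideal.span {g})
    (d : ℕ) : ∀ (M : Type u) [AddCommGroup M] [Module B M] [Module R M] [IsScalarTower B R M],
      DRing.HasTorDimLE B d M → ∀ (Y : ModuleCat.{u} R) (i : ℕ), d ≤ i →
      Nonempty ((((Tor (ModuleCat.{u} R) (i + 2)).obj (ModuleCat.of R M)).obj Y) ≅
        (((Tor (ModuleCat.{u} R) i).obj (ModuleCat.of R M)).obj Y)) := by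
  have hgR : algebraMap B R g = 0 := by
    rw [← RingHom.mem_ker, hker]; exact Ideal.mem_span_singleton_self g
  rcases d with _ | d
  · intro M _ _ _ _ h Y i _
    have : Module.Flat B M := flat_of_hasTorDimLE_zero M h
    have h0 : ∀ x : M, x = 0 := fun x => by
      refine (TensorProduct.lid B M).symm.injective (Module.Flat.rTensor_preserves_injective_linearMap
        (M := M) (LinearMap.mulLeft B g) hg ?_)
      rw [TensorProduct.lid_symm_apply, TensorProduct.lid_symm_apply, LinearMap.rTensor_tmul,
        LinearMap.rTensor_tmul, LinearMap.mulLeft_apply, mul_one, TensorProduct.tmul_zero,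
        show g ⊗ₜ[B] x = (g • (1 : B)) ⊗ₜ[B] x by rw [smul_eq_mul, mul_one], TensorProduct.smul_tmul,
        ← algebraMap_smul R g x, hgR, zero_smul, TensorProduct.tmul_zero]
    have : Subsingleton M := ⟨fun x y => (h0 x).trans (h0 y).symm⟩
    have hz : ∀ j, IsZero (((Tor (ModuleCat.{u} R) j).obj (ModuleCat.of R M)).obj Y) := fun j => by
      obtain ⟨P⟩ := (inferInstance : HasProjectiveResolution Y).out
      refine (Groth.SGA7.TorSeq.isZero_tor_iff _ Y P j).2 ?_
      refine ShortComplex.isZero_homology_of_isZero_X₂ _ ?_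
      exact (ModuleCat.isZero_iff_subsingleton).2 (inferInstanceAs (Subsingleton (M ⊗[R] P.complex.X j)))
    exact ⟨(hz _).iso (hz _)⟩
  · induction d with
    | zero => exact fun M _ _ _ _ h Y i hi => nonempty_tor_periodic_one g hg hsurj hker h Y i hi
    | succ d ih =>
      intro M _ _ _ _ h Y i hi
      obtain ⟨i, rfl⟩ : ∃ j, i = j + 1 := ⟨i - 1, by omega⟩
      let ρ : (M →₀ R) →ₗ[R] M := Finsupp.linearCombination R id
      have hρ : Function.Surjective ρ := fun n => ⟨Finsupp.single n 1, by simp [ρ]⟩
      have hF : DRing.HasTorDimLE B (d + 1) (M →₀ R) := by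
        intro N _ _ p hp
        refine (hasTorDimLE_cokernel (g • LinearMap.id : (M →₀ B) →ₗ[B] (M →₀ B))
          (Finsupp.mapRange.linearMap (Algebra.linearMap B R)) ?_ ?_ ?_
          (hasTorDimLE_of_flat 0 (M →₀ B))) N p (by omega)
        · exact fun x y e => Finsupp.ext fun a => hg (congr($e a))
        · intro f
          constructor
          · intro h
            have hd : ∀ a, ∃ b, f a = g * b := fun a => by
              have : f a ∈ RingHom.ker (algebraMap B R) := by
                rw [RingHom.mem_ker]; exact congr($h a)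
              rw [hker] at this
              exact Ideal.mem_span_singleton.1 this
            choose c hc using hd
            refine ⟨Finsupp.onFinset f.support c fun a ha => Finsupp.mem_support_iff.2 fun e => ha ?_, ?_⟩
            · exact hg (show g • c a = g • 0 by rw [smul_eq_mul, ← hc a, e, smul_zero])
            · ext a; simp [hc a]
          · rintro ⟨f', rfl⟩
            ext a
            change algebraMap B R ((g • f') a) = 0
            simp [hgR]
        · exact Finsupp.mapRange_surjective _ (map_zero _) hsurj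
      have hK : DRing.HasTorDimLE B (d + 1) (LinearMap.ker ρ) := fun N _ _ p hp =>
        ModuleCat.isZero_iff_subsingleton.1 (Groth.SGA7.TorSeq.isZero_tor_X₁
          (shortExact_mk ((LinearMap.ker ρ).subtype.restrictScalars B) (ρ.restrictScalars B)
            Subtype.val_injective (LinearMap.exact_subtype_ker_map ρ) hρ)
          (ModuleCat.of B N) p (ModuleCat.isZero_iff_subsingleton.2 (h N (p + 1) (by omega)))
          (ModuleCat.isZero_iff_subsingleton.2 (hF N p hp)))
      obtain ⟨e⟩ := ih (LinearMap.ker ρ) hK Y i (by omega)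
      obtain ⟨e₁⟩ := nonempty_tor_dimShift (K := LinearMap.ker ρ) (LinearMap.ker ρ).subtype ρ Subtype.val_injective
        (LinearMap.exact_subtype_ker_map ρ) hρ Y (i + 2) (by omega)
      obtain ⟨e₂⟩ := nonempty_tor_dimShift (K := LinearMap.ker ρ) (LinearMap.ker ρ).subtype ρ Subtype.val_injective
        (LinearMap.exact_subtype_ker_map ρ) hρ Y i (by omega)
      exact ⟨e₁ ≪≫ e ≪≫ e₂.symm⟩

end Periodicity

end Groth.HypTor
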