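import Groth.Agent.Misc7.NsmulImage

/-!
Ind-objects of cofinite type over a small abelian category of artinian torsion objects.
-/

namespace Groth.Misc7.IndCofinite

open CategoryTheory CategoryTheory.Limits Preadditive

universe v

variable {C : Type v} [SmallCategory C] [Abelian C]

set_option linter.unusedSectionVars false

/-- Isomorphic to an object of `C`. -/
abbrev Rep (X : Ind C) : Prop := (Ind.yoneda (C := C)).essImage X

/-- The `k`-torsion. -/
noncomputable abbrev tors (k : ℕ) (X : Ind C) : Ind C := kernel (k • 𝟙 X)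

/-- The inclusion of the `k`-torsion. -/
noncomputable abbrev tι (k : ℕ) (X : Ind C) : tors k X ⟶ X := kernel.ι _

lemma nsmul_tι (k : ℕ) (X : Ind C) : k • tι k X = 0 := by
  have := kernel.condition (k • 𝟙 X)
  rwa [comp_nsmul, Category.comp_id] at this

lemma nsmul_tι_of_dvd {k l : ℕ} (h : k ∣ l) (X : Ind C) : l • tι k X = 0 := by
  obtain ⟨c, rfl⟩ := h
  rw [mul_nsmul, nsmul_tι, smul_zero]

/-- Lift into the torsion. -/
noncomputable abbrev tlift {k : ℕ} {T X : Ind C} (x : T ⟶ X) (h : k • x = 0) : T ⟶ tors k X :=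
  kernel.lift _ x (by rw [comp_nsmul, Category.comp_id, h])

/-! ### closure properties -/

lemma rep_of_iso {X Y : Ind C} (e : X ≅ Y) (h : Rep X) : Rep Y := by
  obtain ⟨a, ⟨e'⟩⟩ := h
  exact ⟨a, ⟨e' ≪≫ e⟩⟩

lemma rep_kernel {X Y : Ind C} (f : X ⟶ Y) (hX : Rep X) (hY : Rep Y) : Rep (kernel f) := by
  obtain ⟨a, ⟨ea⟩⟩ := hX
  obtain ⟨b, ⟨eb⟩⟩ := hY
  obtain ⟨g, hg⟩ := (Ind.yoneda (C := C)).map_surjective (ea.hom ≫ f ≫ eb.inv)
  refine ⟨kernel g, ⟨PreservesKernel.iso (Ind.yoneda (C := C)) g ≪≫ kernel.mapIso _ f ea eb ?_⟩⟩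
  rw [hg]
  simp

lemma rep_cokernel {X Y : Ind C} (f : X ⟶ Y) (hX : Rep X) (hY : Rep Y) : Rep (cokernel f) := by
  obtain ⟨a, ⟨ea⟩⟩ := hX
  obtain ⟨b, ⟨eb⟩⟩ := hY
  obtain ⟨g, hg⟩ := (Ind.yoneda (C := C)).map_surjective (ea.hom ≫ f ≫ eb.inv)
  refine ⟨cokernel g, ⟨PreservesCokernel.iso (Ind.yoneda (C := C)) g ≪≫ cokernel.mapIso _ f ea eb ?_⟩⟩
  rw [hg]
  simp

lemma rep_biprod {X Y : Ind C} (hX : Rep X) (hY : Rep Y) : Rep (X ⊞ Y) := by
  obtain ⟨a, ⟨ea⟩⟩ := hX
  obtain ⟨b, ⟨eb⟩⟩ := hY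
  have : (Ind.yoneda (C := C)).Additive := Functor.additive_of_preserves_binary_products _
  have := preservesBinaryBiproducts_of_preservesBiproducts (Ind.yoneda (C := C))
  exact ⟨a ⊞ b, ⟨(Ind.yoneda (C := C)).mapBiprod a b ≪≫ biprod.mapIso ea eb⟩⟩

lemma rep_of_exact {X Y Z : Ind C} (u : X ⟶ Y) (q : Y ⟶ Z) (w : u ≫ q = 0) [Epi q]
    (h : (ShortComplex.mk u q w).Exact) (hX : Rep X) (hY : Rep Y) : Rep Z :=
  rep_of_iso ((cokernelIsCokernel u).coconePointUniqueUpToIso h.gIsCokernel) (rep_cokernel u hX hY)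

lemma rep_imageSubobject {X Y : Ind C} (f : X ⟶ Y) (hX : Rep X) (hY : Rep Y) :
    Rep ((imageSubobject f : Subobject Y) : Ind C) :=
  rep_of_iso ((imageSubobjectIso f) ≪≫ (Abelian.imageIsoImage f).symm).symm
    (rep_kernel _ hY (rep_cokernel f hX hY))

/-- Chains of representable subobjects of a representable object are stationary. -/
lemma chain_stationary (hart : ∀ X : C, IsArtinianObject X) {X : Ind C} (hX : Rep X)
    (S : ℕ → Subobject X) (hS : Antitone S) (hrep : ∀ m, Rep ((S m : Subobject X) : Ind C)) :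
    ∃ N, ∀ m, N ≤ m → S m = S N := by
  obtain ⟨x, ⟨ex⟩⟩ := hX
  choose a ea using fun m => hrep m
  have e : ∀ m, (Ind.yoneda (C := C)).obj (a m) ≅ ((S m : Subobject X) : Ind C) := fun m => (ea m).some
  let g : ∀ m, a m ⟶ x := fun m => (Ind.yoneda (C := C)).preimage ((e m).hom ≫ (S m).arrow ≫ ex.inv)
  have hg : ∀ m, (Ind.yoneda (C := C)).map (g m) = (e m).hom ≫ (S m).arrow ≫ ex.inv :=
    fun m => Functor.map_preimage _ _
  have hmono : ∀ m, Mono (g m) := fun m =>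
    (Ind.yoneda (C := C)).mono_of_mono_map (by rw [hg]; infer_instance)
  let T : ℕ → Subobject x := fun m => Subobject.mk (g m)
  have hT : Antitone T := fun m n hmn => Subobject.mk_le_mk_of_comm
    ((Ind.yoneda (C := C)).preimage ((e n).hom ≫ Subobject.ofLE _ _ (hS hmn) ≫ (e m).inv))
    ((Ind.yoneda (C := C)).map_injective (by simp [hg]))
  have := hart x
  obtain ⟨N, hN⟩ := antitone_chain_condition_of_isArtinianObject (⟨fun m => T m, hT⟩ : ℕ →o (Subobject x)ᵒᵈ)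
  refine ⟨N, fun m hm => le_antisymm (hS hm) ?_⟩
  have e' : T N = T m := hN m hm
  have h : T N ≤ T m := e'.le
  obtain ⟨k, hk⟩ : ∃ k : a N ⟶ a m, k ≫ g m = g N := ⟨_, Subobject.ofMkLEMk_comp h⟩
  refine Subobject.le_of_comm ((e N).inv ≫ (Ind.yoneda (C := C)).map k ≫ (e m).hom) ?_
  have := congrArg (Ind.yoneda (C := C)).map hk
  rw [Functor.map_comp, hg, hg] at this
  rw [← cancel_mono ex.inv, ← cancel_epi (e N).hom]
  simpa using this

/-! ### generation by torsion representables -/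

lemma eq_zero_of_forall_rep {A Z : Ind C} (h : A ⟶ Z)
    (H : ∀ (a : C) (f : (Ind.yoneda (C := C)).obj a ⟶ A), f ≫ h = 0) : h = 0 := by
  apply (Ind.inclusion C).map_injective
  ext X x
  have key : ∀ f : (Ind.yoneda (C := C)).obj X.unop ⟶ A, f ≫ h = f ≫ (0 : A ⟶ Z) := fun f => by
    rw [H X.unop f, comp_zero]
  let p : yoneda.obj X.unop ⟶ (Ind.inclusion C).obj A := yonedaEquiv.symm x
  obtain ⟨f, hf⟩ := (Ind.inclusion C).map_surjective (Ind.yonedaCompInclusion.hom.app X.unop ≫ p)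
  have := congrArg (Ind.inclusion C).map (key f)
  rw [Functor.map_comp, Functor.map_comp, hf, Category.assoc, Category.assoc, cancel_epi] at this
  have h2 := congrArg yonedaEquiv this
  rwa [yonedaEquiv_comp, yonedaEquiv_comp, Equiv.apply_symm_apply] at h2

lemma yoneda_killed {a : C} {n : ℕ} (h : n • 𝟙 a = 0) {T : Ind C}
    (f : (Ind.yoneda (C := C)).obj a ⟶ T) : n • f = 0 := by
  have : (Ind.yoneda (C := C)).Additive := Functor.additive_of_preserves_binary_products _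
  have h2 := congrArg (Ind.yoneda (C := C)).map h
  rw [Functor.map_nsmul, (Ind.yoneda (C := C)).map_id, Functor.map_zero] at h2
  rw [← Category.id_comp f, ← nsmul_comp, h2, zero_comp]

lemma rep_killed (htor : ∀ X : C, ∃ n : ℕ, 0 < n ∧ n • 𝟙 X = 0) {X : Ind C} (hX : Rep X) :
    ∃ n : ℕ, 0 < n ∧ n • 𝟙 X = 0 := by
  obtain ⟨a, ⟨e⟩⟩ := hX
  obtain ⟨n, hn, h⟩ := htor a
  refine ⟨n, hn, ?_⟩
  rw [← cancel_epi e.hom, comp_nsmul, Category.comp_id, comp_zero]
  exact yoneda_killed h e.hom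

lemma rep_tors_of_rep {X : Ind C} (hX : Rep X) (k : ℕ) : Rep (tors k X) := rep_kernel _ hX hX

/-! ### stabilisation at one `k` -/

variable (hart : ∀ X : C, IsArtinianObject X)
include hart

/-- The stabilisation data: `A = A[k^m₀] + kA`, in two forms. -/
lemma exists_generation (htor : ∀ X : C, ∃ n : ℕ, 0 < n ∧ n • 𝟙 X = 0) (A : Ind C) {k : ℕ} (hk : 0 < k)
    (hA : ∀ m : ℕ, Rep (tors (k ^ m) A)) :
    ∃ m₀ : ℕ, ∀ (Z : Ind C) (π : A ⟶ Z), tι (k ^ m₀) A ≫ π = 0 → k • π = 0 → π = 0 := by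
  let g : ∀ m : ℕ, tors (k ^ (m + 1)) A ⟶ tors k A := fun m => tlift ((k ^ m) • tι (k ^ (m + 1)) A) (by
    rw [← mul_nsmul, ← pow_succ, nsmul_tι])
  have hk1 : Rep (tors k A) := by simpa using hA 1
  let J : ℕ → Subobject (tors k A) := fun m => imageSubobject (g m)
  have hJ : Antitone J := antitone_nat_of_succ_le fun m => by
    refine imageSubobject_le (g (m + 1)) (tlift (k := k ^ (m + 1)) (k • tι (k ^ (m + 1 + 1)) A) (by
      rw [← mul_nsmul, ← pow_succ', nsmul_tι]) ≫ factorThruImageSubobject (g m)) ?_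
    rw [Category.assoc, imageSubobject_arrow_comp, ← cancel_mono (tι k A)]
    simp [g, pow_succ, mul_nsmul]
    exact smul_comm _ _ _
  obtain ⟨m₀, hm₀⟩ := chain_stationary hart hk1 J hJ fun m => rep_imageSubobject _ (hA _) hk1
  refine ⟨m₀, fun Z π hι hkπ => ?_⟩
  have main : ∀ (e : ℕ) (T : Ind C) (f : T ⟶ A), (k ^ e) • f = 0 → f ≫ π = 0 := by
    intro e
    induction e using Nat.strong_induction_on with
    | _ e IH =>
      intro T f hf
      rcases le_or_gt e m₀ with he | he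
      · have hf' : (k ^ m₀) • f = 0 := by
          rw [← Nat.add_sub_cancel' he, pow_add, mul_nsmul, hf, smul_zero]
        rw [← kernel.lift_ι (f := (k ^ m₀) • 𝟙 A) f (by rw [comp_nsmul, Category.comp_id, hf']),
          Category.assoc]
        exact (congrArg _ hι).trans comp_zero
      · obtain ⟨m, rfl⟩ : ∃ m, e = m + 1 := ⟨e - 1, by omega⟩
        let a : T ⟶ tors k A := tlift ((k ^ m) • f) (by rw [← mul_nsmul, ← pow_succ, hf])
        let b : T ⟶ tors (k ^ (m + 1)) A := tlift f hf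
        have hab : a = b ≫ g m := by rw [← cancel_mono (tι k A)]; simp [a, b, g]
        have hJm : J m = J (m + 1) := (hm₀ m (by omega)).trans (hm₀ (m + 1) (by omega)).symm
        obtain ⟨T', q, hq, c, hc⟩ := surjective_up_to_refinements_of_epi
          (factorThruImageSubobject (g (m + 1)))
          (b ≫ factorThruImageSubobject (g m) ≫ Subobject.ofLE _ _ hJm.le)
        have hc' : q ≫ a = c ≫ g (m + 1) := by
          rw [← imageSubobject_arrow_comp (g (m + 1)), ← reassoc_of% hc, hab]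
          simp [J]
        have hc'' := congrArg (fun t => t ≫ tι k A) hc'
        simp only [a, g, Category.assoc, kernel.lift_ι, comp_nsmul] at hc''
        have := IH m (by omega) T' (q ≫ f - k • (c ≫ tι _ A)) (by
          rw [smul_sub, hc'', ← mul_nsmul, pow_succ', sub_self])
        rw [sub_comp, nsmul_comp, ← comp_nsmul, hkπ, comp_zero, sub_zero, Category.assoc] at this
        exact (cancel_epi q).1 (this.trans comp_zero.symm)
  refine eq_zero_of_forall_rep π fun a f => ?_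
  obtain ⟨n, hn, hna⟩ := htor a
  have hf := yoneda_killed hna f
  -- split off the part of `n` prime to `k`
  obtain ⟨c, hc⟩ : ∃ c : ℕ, c = n / Nat.gcd n (k ^ n) := ⟨_, rfl⟩
  have hdvd : Nat.gcd n (k ^ n) * c = n := by rw [hc]; exact Nat.mul_div_cancel' (Nat.gcd_dvd_left _ _)
  have hcop : Nat.Coprime c k := by
    by_contra hnc
    obtain ⟨p, hp, hpc, hpk⟩ := Nat.Prime.not_coprime_iff_dvd.1 hnc
    have hp' := Fact.mk hp
    have hv : p ^ (padicValNat p (Nat.gcd n (k ^ n)) + 1) ∣ Nat.gcd n (k ^ n) := by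
      refine Nat.dvd_gcd ?_ ?_
      · conv_rhs => rw [← hdvd]
        rw [pow_succ]
        exact Nat.mul_dvd_mul pow_padicValNat_dvd hpc
      · refine (pow_dvd_pow p ?_).trans (pow_dvd_pow_of_dvd hpk n)
        have h1 : p ^ (padicValNat p (Nat.gcd n (k ^ n)) + 1) ∣ n := by
          conv_rhs => rw [← hdvd]
          rw [pow_succ]
          exact Nat.mul_dvd_mul pow_padicValNat_dvd hpc
        exact ((Nat.lt_pow_self hp.one_lt).trans_le (Nat.le_of_dvd hn h1)).le
    exact pow_succ_padicValNat_not_dvd (Nat.gcd_pos_of_pos_left _ hn).ne' hv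
  have h1 : (c • f) ≫ π = 0 := by
    refine main n _ _ ?_
    obtain ⟨d, hd⟩ := Nat.gcd_dvd_right n (k ^ n)
    rw [← mul_nsmul, hd, show c * (Nat.gcd n (k ^ n) * d) = n * d by rw [← mul_assoc, mul_comm c, hdvd],
      mul_nsmul, hf, smul_zero]
  have hbez := Nat.gcd_eq_gcd_ab c k
  rw [hcop, Nat.cast_one] at hbez
  have h2 : f ≫ π = ((c : ℤ) * c.gcdA k + (k : ℤ) * c.gcdB k) • (f ≫ π) := by rw [← hbez, one_zsmul]
  rw [h2, add_zsmul, mul_comm (c : ℤ), mul_comm (k : ℤ), mul_zsmul, mul_zsmul, natCast_zsmul,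
    natCast_zsmul, ← nsmul_comp, h1, ← comp_nsmul, hkπ]
  simp

variable (htor : ∀ X : C, ∃ n : ℕ, 0 < n ∧ n • 𝟙 X = 0)
include htor

lemma exists_generation_pow (A : Ind C) {k : ℕ} (hk : 0 < k) (hA : ∀ m : ℕ, Rep (tors (k ^ m) A)) :
    ∃ m₀ : ℕ, ∀ (M : ℕ) (Z : Ind C) (π : A ⟶ Z),
      tι (k ^ m₀) A ≫ π = 0 → (k ^ M) • π = 0 → π = 0 := by
  obtain ⟨m₀, h⟩ := exists_generation hart htor A hk hA
  refine ⟨m₀, fun M => ?_⟩
  induction M with
  | zero => intro Z π _ hπ; simpa using hπ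
  | succ M IH =>
    intro Z π hι hπ
    refine IH Z π hι (h Z _ ?_ ?_)
    · rw [comp_nsmul, hι, smul_zero]
    · rw [← mul_nsmul, ← pow_succ, hπ]

/-- `π` killing `k^(m+1)A` kills `k^m A` for large `m`. -/
lemma exists_stable (A : Ind C) {k : ℕ} (hk : 0 < k) (hA : ∀ m : ℕ, Rep (tors (k ^ m) A)) :
    ∃ m₀ : ℕ, ∀ (m : ℕ), m₀ ≤ m → ∀ (Z : Ind C) (π : A ⟶ Z),
      (k ^ (m + 1)) • π = 0 → (k ^ m) • π = 0 := by
  obtain ⟨m₀, h⟩ := exists_generation hart htor A hk hA
  refine ⟨m₀, fun m hm Z π hπ => h Z _ ?_ ?_⟩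
  · rw [comp_nsmul, ← nsmul_comp, nsmul_tι_of_dvd (pow_dvd_pow k hm), zero_comp]
  · rw [← mul_nsmul, ← pow_succ, hπ]

lemma epi_gen (A : Ind C) {k : ℕ} {m₀ : ℕ} (M : ℕ)
    (h : ∀ (M : ℕ) (Z : Ind C) (π : A ⟶ Z), tι (k ^ m₀) A ≫ π = 0 → (k ^ M) • π = 0 → π = 0) :
    Epi (biprod.desc (tι (k ^ m₀) A) ((k ^ M) • 𝟙 A)) := by
  refine epi_of_cancel_zero _ fun {Z} t ht => h M Z t ?_ ?_
  · simpa using congrArg (fun s => biprod.inl ≫ s) ht
  · simpa using congrArg (fun s => biprod.inr ≫ s) ht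

/-- `A/kA` is an object of `C`. -/
lemma rep_cokernel_nsmul (A : Ind C) {k : ℕ} (hk : 0 < k) (hA : ∀ m : ℕ, Rep (tors (k ^ m) A)) :
    Rep (cokernel (k • 𝟙 A)) := by
  obtain ⟨m₀, h⟩ := exists_generation hart htor A hk hA
  set π := cokernel.π (k • 𝟙 A)
  have hπ : k • π = 0 := by
    have := cokernel.condition (k • 𝟙 A)
    rwa [nsmul_comp, Category.id_comp] at this
  have : Epi (tι (k ^ m₀) A ≫ π) := epi_of_cancel_zero _ fun {Z} t ht => by
    rw [← cancel_epi π, comp_zero]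
    exact h Z _ (by rw [← Category.assoc, ht]) (by rw [← nsmul_comp, hπ, zero_comp])
  let g : tors (k ^ (m₀ + 1)) A ⟶ tors (k ^ m₀) A := tlift (k • tι (k ^ (m₀ + 1)) A)
    (by rw [← mul_nsmul, ← pow_succ', nsmul_tι])
  have w : g ≫ tι (k ^ m₀) A ≫ π = 0 := by simp [g, ← comp_nsmul, hπ]
  refine rep_of_exact g (tι (k ^ m₀) A ≫ π) w ?_ (hA _) (hA _)
  rw [ShortComplex.exact_iff_exact_up_to_refinements]
  intro T x hx
  dsimp at x hx ⊢
  obtain ⟨T', q, hq, a, ha⟩ :=
    (ShortComplex.exact_cokernel (k • 𝟙 A)).exact_up_to_refinements (x ≫ tι (k ^ m₀) A)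
      (by simpa [Category.assoc] using hx)
  dsimp at a ha
  rw [comp_nsmul, Category.comp_id] at ha
  have ha' : (k ^ (m₀ + 1)) • a = 0 := by
    rw [pow_succ', mul_nsmul, ← ha]
    simp [← comp_nsmul, nsmul_tι]
  refine ⟨T', q, hq, tlift a ha', ?_⟩
  rw [← cancel_mono (tι (k ^ m₀) A)]
  simp [g, ha]

omit htor hart in
lemma rep_tors_kernel {A B : Ind C} (f : A ⟶ B) (n : ℕ) (hA : Rep (tors n A)) (hB : Rep (tors n B)) :
    Rep (tors n (kernel f)) := by
  let h : tors n A ⟶ tors n B := tlift (tι n A ≫ f) (by rw [← nsmul_comp, nsmul_tι, zero_comp])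
  have hι : kernel.ι h ≫ tι n A ≫ f = 0 := by
    have := kernel.condition h =≫ tι n B
    simp only [h, Category.assoc, kernel.lift_ι, zero_comp] at this
    exact this
  refine rep_of_iso ?_ (rep_kernel h hA hB)
  exact
    { hom := tlift (kernel.lift f (kernel.ι h ≫ tι n A) (by rw [Category.assoc, hι])) (by
        rw [← cancel_mono (kernel.ι f)]; simp [nsmul_comp, ← comp_nsmul, nsmul_tι])
      inv := kernel.lift h (tlift (tι n (kernel f) ≫ kernel.ι f) (by
        rw [← nsmul_comp, nsmul_tι, zero_comp])) (by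
        rw [← cancel_mono (tι n B)]; simp [h])
      hom_inv_id := by rw [← cancel_mono (kernel.ι h), ← cancel_mono (tι n A)]; simp
      inv_hom_id := by rw [← cancel_mono (tι n (kernel f)), ← cancel_mono (kernel.ι f)]; simp }

/-- The `k`-torsion of a cokernel is an object of `C`. -/
lemma rep_tors_cokernel {A B : Ind C} (f : A ⟶ B) {k : ℕ} (hk : 0 < k)
    (hA : ∀ m : ℕ, Rep (tors (k ^ m) A)) (hB : ∀ m : ℕ, Rep (tors (k ^ m) B)) :
    Rep (tors k (cokernel f)) := by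
  have hK : ∀ m : ℕ, Rep (tors (k ^ m) (kernel f)) := fun m => rep_tors_kernel f _ (hA m) (hB m)
  obtain ⟨m₀, hgA⟩ := exists_generation_pow hart htor A hk hA
  obtain ⟨s, hgK⟩ := exists_generation_pow hart htor (kernel f) hk hK
  let φ : tors (k ^ (m₀ + 1)) B ⊞ tors (k ^ m₀) A ⟶ tors (k ^ m₀) B := biprod.desc
    (tlift (k • tι (k ^ (m₀ + 1)) B) (by rw [← mul_nsmul, ← pow_succ', nsmul_tι]))
    (-tlift (tι (k ^ m₀) A ≫ f) (by rw [← nsmul_comp, nsmul_tι, zero_comp]))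
  set pb := kernel.ι φ ≫ biprod.fst ≫ tι (k ^ (m₀ + 1)) B with hpb
  set pa := kernel.ι φ ≫ biprod.snd ≫ tι (k ^ m₀) A with hpa
  have hφ : k • pb = pa ≫ f := by
    have h := kernel.condition φ =≫ tι (k ^ m₀) B
    rw [zero_comp, Category.assoc] at h
    simp only [φ, biprod.desc_eq] at h
    simp only [Category.assoc, add_comp, comp_add, neg_comp, comp_neg, kernel.lift_ι, comp_nsmul] at h
    rw [add_neg_eq_zero] at h
    simpa [hpb, hpa, comp_nsmul] using h
  let q : kernel φ ⟶ tors k (cokernel f) := tlift (pb ≫ cokernel.π f) (by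
    rw [← nsmul_comp, hφ, Category.assoc, cokernel.condition, comp_zero])
  have hq : Epi q := by
    rw [epi_iff_surjective_up_to_refinements]
    intro T x
    obtain ⟨T₁, p₁, _, b, hb⟩ := surjective_up_to_refinements_of_epi (cokernel.π f) (x ≫ tι k _)
    obtain ⟨T₂, p₂, _, a, ha⟩ := (ShortComplex.exact_cokernel f).exact_up_to_refinements (k • b) (by
      dsimp
      rw [nsmul_comp, ← hb]
      simp [← comp_nsmul, nsmul_tι])
    dsimp at a ha
    have := epi_gen hart htor A 1 hgA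
    obtain ⟨T₃, p₃, _, c, hc⟩ := surjective_up_to_refinements_of_epi
      (biprod.desc (tι (k ^ m₀) A) ((k ^ 1) • 𝟙 A)) a
    set a₀ := c ≫ biprod.fst
    set a' := c ≫ biprod.snd
    have hsplit : p₃ ≫ a = a₀ ≫ tι (k ^ m₀) A + k • a' := by
      rw [hc, biprod.desc_eq]; simp [a₀, a', comp_nsmul]
    set b' := p₃ ≫ p₂ ≫ b - a' ≫ f with hb'
    have hkb : k • b' = a₀ ≫ tι (k ^ m₀) A ≫ f := by
      rw [hb', smul_sub, ← comp_nsmul, ← comp_nsmul, ha, ← Category.assoc p₃, hsplit, add_comp,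
        nsmul_comp, Category.assoc, add_sub_cancel_right]
    have hb0 : (k ^ (m₀ + 1)) • b' = 0 := by
      rw [pow_succ', mul_nsmul, hkb, ← comp_nsmul, ← nsmul_comp, nsmul_tι, zero_comp, comp_zero]
    let w : T₃ ⟶ kernel φ := kernel.lift φ (biprod.lift (tlift b' hb0) a₀) (by
      rw [← cancel_mono (tι (k ^ m₀) B)]
      simp [φ, biprod.desc_eq, add_comp, comp_nsmul, hkb])
    refine ⟨T₃, p₃ ≫ p₂ ≫ p₁, inferInstance, w, ?_⟩
    rw [← cancel_mono (tι k (cokernel f))]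
    simp [q, hpb, w, hb', hb, sub_comp]
  let M := m₀ + 1
  let ψ : tors (k ^ (M + s)) A ⊞ kernel φ ⟶ tors (k ^ (M + s)) B := biprod.desc
    (tlift (tι (k ^ (M + s)) A ≫ f) (by rw [← nsmul_comp, nsmul_tι, zero_comp]))
    (-tlift pb (by
      rw [hpb, ← comp_nsmul, ← comp_nsmul, nsmul_tι_of_dvd (pow_dvd_pow k (Nat.le_add_right M s)),
        comp_zero, comp_zero]))
  let u : kernel ψ ⟶ kernel φ := kernel.ι ψ ≫ biprod.snd
  have hu : u ≫ pb = (kernel.ι ψ ≫ biprod.fst ≫ tι (k ^ (M + s)) A) ≫ f := by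
    have h := kernel.condition ψ =≫ tι (k ^ (M + s)) B
    rw [zero_comp, Category.assoc] at h
    simp only [ψ, biprod.desc_eq] at h
    simp only [Category.assoc, add_comp, comp_add, neg_comp, comp_neg, kernel.lift_ι] at h
    rw [add_neg_eq_zero] at h
    simp only [u, Category.assoc]
    exact h.symm
  have w : u ≫ q = 0 := by
    rw [← cancel_mono (tι k (cokernel f))]
    simp only [q, Category.assoc, kernel.lift_ι, zero_comp]
    rw [← Category.assoc, hu, Category.assoc, cokernel.condition, comp_zero]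
  have hW : Rep (kernel φ) := rep_kernel φ (rep_biprod (hB _) (hA _)) (hB _)
  refine rep_of_exact u q w ?_ (rep_kernel ψ (rep_biprod (hA _) hW) (hB _)) hW
  rw [ShortComplex.exact_iff_exact_up_to_refinements]
  intro T x hx
  dsimp at x hx ⊢
  have hx' : (x ≫ pb) ≫ cokernel.π f = 0 := by
    have := hx =≫ tι k (cokernel f)
    simpa [q, Category.assoc] using this
  obtain ⟨T₁, p₁, _, a, ha⟩ := (ShortComplex.exact_cokernel f).exact_up_to_refinements _ hx'
  dsimp at a ha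
  have hpbM : (k ^ M) • pb = 0 := by
    rw [hpb, ← comp_nsmul, ← comp_nsmul, nsmul_tι, comp_zero, comp_zero]
  let z : T₁ ⟶ kernel f := kernel.lift f ((k ^ M) • a) (by
    rw [nsmul_comp, ← ha, ← comp_nsmul, ← comp_nsmul, hpbM, comp_zero, comp_zero])
  have := epi_gen hart htor (kernel f) M hgK
  obtain ⟨T₂, p₂, _, c, hc⟩ := surjective_up_to_refinements_of_epi
    (biprod.desc (tι (k ^ s) (kernel f)) ((k ^ M) • 𝟙 (kernel f))) z
  set a' := p₂ ≫ a - (c ≫ biprod.snd) ≫ kernel.ι f with ha'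
  have hka : (k ^ (M + s)) • a' = 0 := by
    have h1 : p₂ ≫ ((k ^ M) • a) =
        c ≫ biprod.fst ≫ tι (k ^ s) (kernel f) ≫ kernel.ι f +
          (k ^ M) • ((c ≫ biprod.snd) ≫ kernel.ι f) := by
      have := hc =≫ kernel.ι f
      simpa [z, biprod.desc_eq, comp_nsmul, nsmul_comp, add_comp] using this
    rw [pow_add, mul_nsmul, ha', smul_sub, ← comp_nsmul, h1, add_sub_cancel_right, ← comp_nsmul,
      ← comp_nsmul, ← nsmul_comp, nsmul_tι, zero_comp, comp_zero, comp_zero]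
  have hfa : a' ≫ f = (p₂ ≫ p₁ ≫ x) ≫ pb := by
    simp [ha', sub_comp, ha, Category.assoc]
  refine ⟨T₂, p₂ ≫ p₁, inferInstance, kernel.lift ψ (biprod.lift (tlift a' hka) (p₂ ≫ p₁ ≫ x)) ?_, ?_⟩
  · rw [← cancel_mono (tι (k ^ (M + s)) B)]
    simp [ψ, biprod.desc_eq, add_comp, hfa]
  · simp [u]

end Groth.Misc7.IndCofinite
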