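import Groth.Agent.Misc7.IndCofinite

/-!
Divisible parts, Mittag-Leffler and chain conditions for ind-objects of cofinite type.
-/

namespace Groth.Misc7.IndCofinite

open CategoryTheory CategoryTheory.Limits Preadditive

universe v

variable {C : Type v} [SmallCategory C] [Abelian C]

set_option linter.unusedSectionVars false

lemma nat_split (n k : ℕ) (hn : 0 < n) :
    ∃ a b j : ℕ, n = a * b ∧ a ∣ k ^ j ∧ Nat.Coprime b k := by
  refine ⟨Nat.gcd n (k ^ n), n / Nat.gcd n (k ^ n), n,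
    (Nat.mul_div_cancel' (Nat.gcd_dvd_left _ _)).symm, Nat.gcd_dvd_right _ _, ?_⟩
  set c := n / Nat.gcd n (k ^ n)
  have hdvd : Nat.gcd n (k ^ n) * c = n := Nat.mul_div_cancel' (Nat.gcd_dvd_left _ _)
  by_contra hnc
  obtain ⟨p, hp, hpc, hpk⟩ := Nat.Prime.not_coprime_iff_dvd.1 hnc
  have hp' := Fact.mk hp
  have h1 : p ^ (padicValNat p (Nat.gcd n (k ^ n)) + 1) ∣ n := by
    conv_rhs => rw [← hdvd]
    rw [pow_succ]
    exact Nat.mul_dvd_mul pow_padicValNat_dvd hpc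
  exact pow_succ_padicValNat_not_dvd (Nat.gcd_pos_of_pos_left _ hn).ne' (Nat.dvd_gcd h1
    ((pow_dvd_pow p ((Nat.lt_pow_self hp.one_lt).trans_le (Nat.le_of_dvd hn h1)).le).trans
      (pow_dvd_pow_of_dvd hpk n)))

lemma eq_zero_of_coprime {G : Type*} [AddCommGroup G] {x : G} {a b : ℕ} (h : Nat.Coprime a b)
    (ha : a • x = 0) (hb : b • x = 0) : x = 0 := by
  rw [← one_nsmul x, ← h]
  exact addOrderOf_dvd_iff_nsmul_eq_zero.1 (Nat.dvd_gcd (addOrderOf_dvd_iff_nsmul_eq_zero.2 ha)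
    (addOrderOf_dvd_iff_nsmul_eq_zero.2 hb))

lemma epi_nsmul_mul {X : Ind C} {a b : ℕ} (ha : Epi (a • 𝟙 X)) (hb : Epi (b • 𝟙 X)) :
    Epi ((a * b) • 𝟙 X) := by
  have : (a * b) • 𝟙 X = (a • 𝟙 X) ≫ (b • 𝟙 X) := by
    rw [comp_nsmul, Category.comp_id, mul_nsmul]
  rw [this]
  infer_instance

lemma epi_nsmul_one (X : Ind C) : Epi ((1 : ℕ) • 𝟙 X) := by
  rw [one_nsmul]; infer_instance

lemma epi_nsmul_pow {X : Ind C} {p : ℕ} (h : Epi (p • 𝟙 X)) (n : ℕ) : Epi ((p ^ n) • 𝟙 X) := by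
  induction n with
  | zero => rw [pow_zero]; exact epi_nsmul_one X
  | succ n ih => rw [pow_succ]; exact epi_nsmul_mul ih h

lemma epi_nsmul_of_iso {X Y : Ind C} (e : X ≅ Y) {k : ℕ} (h : Epi (k • 𝟙 X)) : Epi (k • 𝟙 Y) := by
  have : k • 𝟙 Y = e.inv ≫ (k • 𝟙 X) ≫ e.hom := by
    rw [nsmul_comp, Category.id_comp, comp_nsmul, e.inv_hom_id]
  rw [this]
  infer_instance

lemma rep_tors_iso {X Y : Ind C} (e : X ≅ Y) {k : ℕ} (h : Rep (tors k X)) : Rep (tors k Y) :=
  rep_of_iso (kernel.mapIso _ _ e e (by simp [nsmul_comp, comp_nsmul])) h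

/-- Comparison of images of multiplications. -/
lemma image_le_image {A : Ind C} {a b : ℕ}
    (h : ∀ (Z : Ind C) (π : A ⟶ Z), b • π = 0 → a • π = 0) :
    imageSubobject (a • 𝟙 A) ≤ imageSubobject (b • 𝟙 A) := by
  set I := imageSubobject (b • 𝟙 A)
  have h1 : b • cokernel.π I.arrow = 0 := by
    have := NsmulImage.comp_coker_image (B := A) (b • 𝟙 A)
    rwa [nsmul_comp, Category.id_comp] at this
  have h2 : (a • 𝟙 A) ≫ cokernel.π I.arrow = 0 := by
    rw [nsmul_comp, Category.id_comp, h _ _ h1]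
  exact imageSubobject_le _ (Abelian.monoLift I.arrow _ h2) (Abelian.monoLift_comp _ _ h2)

lemma image_le_image_of_dvd {A : Ind C} {a b : ℕ} (h : b ∣ a) :
    imageSubobject (a • 𝟙 A) ≤ imageSubobject (b • 𝟙 A) := image_le_image fun Z π hπ => by
  obtain ⟨c, rfl⟩ := h; rw [mul_nsmul, hπ, smul_zero]

variable (hart : ∀ X : C, IsArtinianObject X) (htor : ∀ X : C, ∃ n : ℕ, 0 < n ∧ n • 𝟙 X = 0)
include hart htor

lemma exists_stable' (A : Ind C) {k : ℕ} (hk : 0 < k) (hA : ∀ m : ℕ, Rep (tors (k ^ m) A)) :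
    ∃ m₀ : ℕ, ∀ (m : ℕ), m₀ ≤ m → ∀ (j : ℕ) (Z : Ind C) (π : A ⟶ Z),
      (k ^ (m + j)) • π = 0 → (k ^ m) • π = 0 := by
  obtain ⟨m₀, h⟩ := exists_stable hart htor A hk hA
  refine ⟨m₀, fun m hm j => ?_⟩
  induction j with
  | zero => exact fun Z π h => h
  | succ j ih => exact fun Z π hπ => ih Z π (h (m + j) (by omega) Z π hπ)

lemma exists_image_stabilizes (A : Ind C) {k : ℕ} (hk : 0 < k) (hA : ∀ m : ℕ, Rep (tors (k ^ m) A)) :
    ∃ N : ℕ, ∀ n : ℕ, N ≤ n → imageSubobject ((k ^ n) • 𝟙 A) = imageSubobject ((k ^ N) • 𝟙 A) := by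
  obtain ⟨N, h⟩ := exists_stable' hart htor A hk hA
  refine ⟨N, fun n hn => le_antisymm (image_le_image_of_dvd (pow_dvd_pow k hn))
    (image_le_image fun Z π hπ => h N le_rfl (n - N) Z π (by rwa [Nat.add_sub_cancel' hn]))⟩

lemma rep_tors_image (A : Ind C) {M : ℕ} (hM : 0 < M) (hA : ∀ m : ℕ, Rep (tors (M ^ m) A))
    (n : ℕ) (hn : Rep (tors n A)) :
    Rep (tors n ((imageSubobject (M • 𝟙 A) : Subobject A) : Ind C)) :=
  rep_tors_iso (imageSubobjectIso _ ≪≫ (Abelian.imageIsoImage (M • 𝟙 A)).symm).symm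
    (rep_tors_kernel _ n hn (rep_tors_of_rep (rep_cokernel_nsmul hart htor A hM hA) n))

/-! ### the divisible part in general -/

variable (A : Ind C) (hA : ∀ n : ℕ, 0 < n → Rep (tors n A))
include hA

lemma exists_largest_divisible :
    ∃ D : Subobject A, (∀ k : ℕ, 0 < k → Epi (k • 𝟙 (D : Ind C))) ∧
      (∀ D' : Subobject A, (∀ k : ℕ, 0 < k → Epi (k • 𝟙 (D' : Ind C))) → D' ≤ D) ∧
      (∀ n : ℕ, 0 < n → Rep (tors n (D : Ind C))) := by
  have hst : ∀ k : ℕ, ∃ m₀ : ℕ, 0 < k → ∀ (m : ℕ), m₀ ≤ m → ∀ (j : ℕ) (Z : Ind C) (π : A ⟶ Z),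
      (k ^ (m + j)) • π = 0 → (k ^ m) • π = 0 := fun k => by
    by_cases hk : 0 < k
    · obtain ⟨m₀, h⟩ := exists_stable' hart htor A hk fun m => hA _ (pow_pos hk m)
      exact ⟨m₀, fun _ => h⟩
    · exact ⟨0, fun h => absurd h hk⟩
  choose μ hμ using hst
  let F : ULift.{v} (ℕ × ℕ) → Ind C := fun i => tors ((i.down.1 + 1) ^ i.down.2) A
  let c : ∀ i, F i ⟶ A := fun i => ((i.down.1 + 1) ^ μ (i.down.1 + 1)) • tι _ A
  set D := imageSubobject (Sigma.desc c)
  have he : ∀ i, ∃ e : F i ⟶ (D : Ind C), e ≫ D.arrow = c i := fun i =>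
    ⟨Sigma.ι F i ≫ factorThruImageSubobject _, by
      rw [Category.assoc, imageSubobject_arrow_comp, Sigma.ι_desc]⟩
  choose e he using he
  have hext : ∀ {Z : Ind C} (t : (D : Ind C) ⟶ Z), (∀ i, e i ≫ t = 0) → t = 0 := fun {Z} t ht => by
    rw [← cancel_epi (factorThruImageSubobject (Sigma.desc c)), comp_zero]
    refine Sigma.hom_ext _ _ fun i => ?_
    rw [comp_zero, ← ht i, ← Category.assoc]
    congr 1
    rw [← cancel_mono D.arrow, Category.assoc, imageSubobject_arrow_comp, Sigma.ι_desc, he]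
  have hdiv : ∀ l : ℕ, 0 < l → Epi (l • 𝟙 (D : Ind C)) := by
    intro l hl
    refine epi_of_cancel_zero _ fun {Z} t ht => hext t fun i => ?_
    rw [nsmul_comp, Category.id_comp] at ht
    obtain ⟨⟨k', m⟩⟩ := i
    obtain ⟨a, b, j, hab, haj, hb⟩ := nat_split l (k' + 1) hl
    have hakill : ∀ M : ℕ, ((k' + 1) ^ j) • (e ⟨(k', M)⟩ ≫ t) = 0 := by
      intro M
      have h1 : a • (e ⟨(k', M)⟩ ≫ t) = 0 := by
        refine eq_zero_of_coprime (hb.pow_right M) ?_ ?_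
        · rw [← mul_nsmul, ← hab, ← comp_nsmul, ht, comp_zero]
        · rw [smul_comm, ← nsmul_comp]
          have : ((k' + 1) ^ M) • e ⟨(k', M)⟩ = 0 := by
            rw [← cancel_mono D.arrow, nsmul_comp, he, zero_comp]
            dsimp [c]
            rw [smul_comm, nsmul_tι, smul_zero]
          rw [this, zero_comp, smul_zero]
      obtain ⟨d, hd⟩ := haj
      rw [hd, mul_nsmul, h1, smul_zero]
    -- move the component `j` steps up
    set k := k' + 1
    have hpos : 0 < k := Nat.succ_pos k'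
    have hz : (((k ^ μ k) • tι (k ^ m) A) ≫ cokernel.π ((k ^ (μ k + j)) • 𝟙 A)) = 0 := by
      rw [nsmul_comp, ← comp_nsmul, hμ k hpos (μ k) le_rfl j _ _ (by
        have := cokernel.condition ((k ^ (μ k + j)) • 𝟙 A)
        rwa [nsmul_comp, Category.id_comp] at this), comp_zero]
    obtain ⟨T, q, hq, y, hy⟩ := (ShortComplex.exact_cokernel _).exact_up_to_refinements _ hz
    dsimp at y hy
    rw [comp_nsmul, comp_nsmul, Category.comp_id] at hy
    have hy0 : (k ^ (m + (μ k + j))) • y = 0 := by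
      rw [add_comm, pow_add, mul_nsmul, ← hy, smul_comm, ← comp_nsmul, nsmul_tι, comp_zero, smul_zero]
    have hqe : q ≫ e ⟨(k', m)⟩ = (k ^ j) • (tlift y hy0 ≫ e ⟨(k', m + (μ k + j))⟩) := by
      rw [← cancel_mono D.arrow, nsmul_comp, Category.assoc, Category.assoc, he, he]
      change q ≫ ((k ^ μ k) • tι (k ^ m) A) = (k ^ j) • (tlift y hy0 ≫ ((k ^ μ k) • tι _ A))
      rw [comp_nsmul, comp_nsmul, kernel.lift_ι, hy, pow_add, mul_nsmul]
    rw [← cancel_epi q, comp_zero, ← Category.assoc, hqe, nsmul_comp, Category.assoc, ← comp_nsmul,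
      hakill, comp_zero]
  have hcomp : ∀ {T : Ind C} (k : ℕ) (hk : 0 < k) (m : ℕ) (y : T ⟶ A), (k ^ m) • y = 0 →
      ∃ z : T ⟶ (D : Ind C), z ≫ D.arrow = (k ^ μ k) • y := by
    intro T k hk m y hy
    obtain ⟨k', rfl⟩ : ∃ k', k = k' + 1 := ⟨k - 1, by omega⟩
    refine ⟨tlift y hy ≫ e ⟨(k', m)⟩, ?_⟩
    rw [Category.assoc, he]
    change tlift y hy ≫ (((k' + 1) ^ μ (k' + 1)) • tι _ A) = _
    rw [comp_nsmul, kernel.lift_ι]
  refine ⟨D, hdiv, fun D' hD' => ?_, fun n hn => ?_⟩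
  · have h0 : D'.arrow ≫ cokernel.π D.arrow = 0 := eq_zero_of_forall_rep _ fun a f => by
      obtain ⟨k, hk, hka⟩ := htor a
      have hf := yoneda_killed hka f
      have := hD' (k ^ μ k) (pow_pos hk _)
      obtain ⟨T, q, hq, y, hy⟩ := surjective_up_to_refinements_of_epi ((k ^ μ k) • 𝟙 (D' : Ind C)) f
      rw [comp_nsmul, Category.comp_id] at hy
      obtain ⟨z, hz⟩ := hcomp k hk (μ k + 1) (y ≫ D'.arrow) (by
        rw [pow_succ, mul_nsmul, ← nsmul_comp, ← hy, ← nsmul_comp, ← comp_nsmul, hf]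
        simp)
      rw [← cancel_epi q, comp_zero, ← Category.assoc q, hy, ← Category.assoc, nsmul_comp, ← hz,
        Category.assoc, cokernel.condition, comp_zero]
    exact Subobject.le_of_comm (Abelian.monoLift D.arrow _ h0) (Abelian.monoLift_comp _ _ h0)
  · -- the torsion is an image of a torsion object
    obtain ⟨z, hz⟩ := hcomp n hn (μ n + 1) (tι (n ^ (μ n + 1)) A) (nsmul_tι _ _)
    let G : tors (n ^ (μ n + 1)) A ⟶ tors n (D : Ind C) := tlift z (by
      rw [← cancel_mono D.arrow, nsmul_comp, hz, zero_comp, ← mul_nsmul, ← pow_succ, nsmul_tι])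
    let g : tors (n ^ (μ n + 1)) A ⟶ tors n A := tlift ((n ^ μ n) • tι (n ^ (μ n + 1)) A) (by
      rw [← mul_nsmul, ← pow_succ, nsmul_tι])
    have hG : Epi G := by
      rw [epi_iff_surjective_up_to_refinements]
      intro T x
      have := hdiv (n ^ μ n) (pow_pos hn _)
      obtain ⟨T', q, hq, y, hy⟩ := surjective_up_to_refinements_of_epi ((n ^ μ n) • 𝟙 (D : Ind C))
        (x ≫ tι n _)
      rw [comp_nsmul, Category.comp_id] at hy
      refine ⟨T', q, hq, tlift (y ≫ D.arrow) (by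
        rw [pow_succ, mul_nsmul, ← nsmul_comp, ← hy, ← nsmul_comp, ← comp_nsmul, ← comp_nsmul, nsmul_tι]
        simp), ?_⟩
      rw [← cancel_mono (tι n (D : Ind C)), ← cancel_mono D.arrow]
      simp only [G, Category.assoc, kernel.lift_ι, hz, comp_nsmul]
      rw [reassoc_of% hy, nsmul_comp]
    have w : kernel.ι g ≫ G = 0 := by
      rw [← cancel_mono (tι n (D : Ind C)), ← cancel_mono D.arrow]
      simp only [G, Category.assoc, kernel.lift_ι, hz, zero_comp]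
      have := kernel.condition g =≫ tι n A
      simp only [g, Category.assoc, kernel.lift_ι, zero_comp] at this
      exact this
    refine rep_of_exact (kernel.ι g) G w ?_
      (rep_kernel g (hA _ (pow_pos hn _)) (hA n hn)) (hA _ (pow_pos hn _))
    rw [ShortComplex.exact_iff_exact_up_to_refinements]
    intro T x hx
    dsimp at x hx ⊢
    have hxg : x ≫ g = 0 := by
      rw [← cancel_mono (tι n A)]
      have := hx =≫ (tι n (D : Ind C) ≫ D.arrow)
      simpa [g, G, hz] using this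
    exact ⟨T, 𝟙 _, inferInstance, kernel.lift g x hxg, by simp⟩

lemma stable_of_finite (hfin : {p : ℕ | p.Prime ∧ ¬ Epi (p • 𝟙 A)}.Finite) :
    ∃ M : ℕ, 0 < M ∧ ∀ k : ℕ, 0 < k → ∀ (Z : Ind C) (π : A ⟶ Z), (M * k) • π = 0 → M • π = 0 := by
  have hst : ∀ p : ℕ, ∃ N : ℕ, p.Prime → ∀ (Z : Ind C) (π : A ⟶ Z),
      (p ^ (N + 1)) • π = 0 → (p ^ N) • π = 0 := fun p => by
    by_cases hp : p.Prime
    · obtain ⟨N, h⟩ := exists_stable' hart htor A hp.pos fun m => hA _ (pow_pos hp.pos m)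
      exact ⟨N, fun _ => h N le_rfl 1⟩
    · exact ⟨0, fun h => absurd h hp⟩
  choose N hN using hst
  let M := ∏ p ∈ hfin.toFinset, p ^ N p
  have hM : 0 < M := Finset.prod_pos fun p hp => pow_pos ((hfin.mem_toFinset.1 hp).1.pos) _
  refine ⟨M, hM, fun k hk => ?_⟩
  induction k using Nat.recOnMul with
  | zero => omega
  | one => intro Z π h; rwa [mul_one] at h
  | prime p hp =>
    intro Z π h
    by_cases hS : Epi (p • 𝟙 A)
    · rw [← cancel_epi (p • 𝟙 A), comp_zero, nsmul_comp, Category.id_comp, ← mul_nsmul, h]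
    · have hmem : p ∈ hfin.toFinset := hfin.mem_toFinset.2 ⟨hp, hS⟩
      have hsplit : M = p ^ N p * ∏ q ∈ hfin.toFinset.erase p, q ^ N q :=
        (Finset.mul_prod_erase _ _ hmem).symm
      rw [hsplit, mul_comm (p ^ N p), mul_nsmul]
      refine hN p hp Z _ ?_
      rw [← mul_nsmul, ← h, hsplit]
      congr 1
      ring
  | mul a b ha hb =>
    intro Z π h
    have ha' : 0 < a := Nat.pos_of_mul_pos_right hk
    have hb' : 0 < b := Nat.pos_of_mul_pos_left hk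
    refine ha ha' Z π ?_
    rw [mul_nsmul]
    rw [smul_comm]
    refine hb hb' Z (a • π) ?_
    rw [← mul_nsmul, ← h]
    congr 1
    ring

lemma divisiblyML_iff :
    ((∀ n : ℕ, 0 < n → ∃ m : ℕ, 0 < m ∧ n ∣ m ∧ ∀ m' : ℕ, 0 < m' → m ∣ m' →
        imageSubobject ((m' / n) • 𝟙 A) = imageSubobject ((m / n) • 𝟙 A)) ↔
      ∃ B' : Subobject A, (∀ k : ℕ, 0 < k → Epi (k • 𝟙 (B' : Ind C))) ∧ Rep (cokernel B'.arrow)) ∧
    ((∃ B' : Subobject A, (∀ k : ℕ, 0 < k → Epi (k • 𝟙 (B' : Ind C))) ∧ Rep (cokernel B'.arrow)) ↔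
      {p : ℕ | p.Prime ∧ ¬ Epi (p • 𝟙 A)}.Finite) := by
  have himg : ∀ M : ℕ, 0 < M → Rep (cokernel (imageSubobject (M • 𝟙 A)).arrow) := by
    intro M hM
    refine rep_of_iso ?_ (rep_cokernel_nsmul hart htor A hM fun m => hA _ (pow_pos hM m))
    exact (cokernelEpiComp (factorThruImageSubobject (M • 𝟙 A)) (imageSubobject (M • 𝟙 A)).arrow).symm.trans
      (eqToIso (by simp)) |>.symm
  have h12 : ((∀ n : ℕ, 0 < n → ∃ m : ℕ, 0 < m ∧ n ∣ m ∧ ∀ m' : ℕ, 0 < m' → m ∣ m' →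
        imageSubobject ((m' / n) • 𝟙 A) = imageSubobject ((m / n) • 𝟙 A)) ↔
      ∃ B' : Subobject A, (∀ k : ℕ, 0 < k → Epi (k • 𝟙 (B' : Ind C))) ∧ Rep (cokernel B'.arrow)) := by
    rw [NsmulImage.ml_iff]
    constructor
    · rintro ⟨B', hdiv, M, hM, hkill⟩
      refine ⟨B', hdiv, ?_⟩
      have he : imageSubobject (M • 𝟙 A) = B' :=
        le_antisymm (by simpa using NsmulImage.factors_mul B' hkill 1)
          (NsmulImage.le_image_of_divisible B' M (hdiv M hM))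
      rw [← he]
      exact himg M hM
    · rintro ⟨B', hdiv, hrep⟩
      obtain ⟨M, hM, h⟩ := rep_killed htor hrep
      exact ⟨B', hdiv, M, hM, h⟩
  refine ⟨h12, ?_, fun hfin => ?_⟩
  · rintro ⟨B', hdiv, hrep⟩
    obtain ⟨M, hM, h⟩ := rep_killed htor hrep
    refine (Finset.finite_toSet M.primeFactors).subset fun p ⟨hp, hnepi⟩ => ?_
    by_contra hn
    apply hnepi
    refine epi_of_cancel_zero _ fun {Z} t ht => ?_
    rw [nsmul_comp, Category.id_comp] at ht
    have := hdiv p hp.pos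
    have h1 : B'.arrow ≫ t = 0 := by
      rw [← cancel_epi (p • 𝟙 (B' : Ind C)), comp_zero, nsmul_comp, Category.id_comp, ← comp_nsmul, ht,
        comp_zero]
    have h2 : M • t = 0 := by
      rw [← cokernel.π_desc B'.arrow t h1, ← comp_nsmul, ← Category.id_comp (cokernel.desc B'.arrow t h1),
        ← nsmul_comp, h, zero_comp, comp_zero]
    refine eq_zero_of_coprime ((Nat.Prime.coprime_iff_not_dvd hp).2 fun hd => hn ?_) ht h2
    exact Finset.mem_coe.2 (Nat.mem_primeFactors.2 ⟨hp, hd, hM.ne'⟩)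
  · obtain ⟨M, hM, h⟩ := stable_of_finite hart htor A hA hfin
    exact ⟨_, fun k hk => NsmulImage.epi_on_image M k (image_le_image (h k hk)), himg M hM⟩

end Groth.Misc7.IndCofinite
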