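import Groth.Agent.Misc7.IndCofiniteApps

/-!
Decreasing chains of ind-objects of cofinite type are stationary.
-/

namespace Groth.Misc7.IndCofinite

open CategoryTheory CategoryTheory.Limits Preadditive

universe v

variable {C : Type v} [SmallCategory C] [Abelian C]

set_option linter.unusedSectionVars false

/-- The image of the `k`-torsion of a subobject in the `k`-torsion. -/
noncomputable def torsSub {A : Ind C} (k : ℕ) (X : Subobject A) : Subobject (tors k A) :=
  imageSubobject (tlift (tι k (X : Ind C) ≫ X.arrow) (by rw [← nsmul_comp, nsmul_tι, zero_comp]) :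
    tors k (X : Ind C) ⟶ tors k A)

lemma rep_torsSub {A : Ind C} (k : ℕ) (X : Subobject A) (hX : Rep (tors k (X : Ind C)))
    (hA : Rep (tors k A)) : Rep ((torsSub k X : Subobject (tors k A)) : Ind C) :=
  rep_imageSubobject _ hX hA

lemma torsSub_mono {A : Ind C} (k : ℕ) {X Y : Subobject A} (h : X ≤ Y) : torsSub k X ≤ torsSub k Y := by
  refine imageSubobject_le _ (tlift (tι k (X : Ind C) ≫ Subobject.ofLE X Y h)
    (by rw [← nsmul_comp, nsmul_tι, zero_comp]) ≫ factorThruImageSubobject _) ?_
  unfold torsSub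
  rw [Category.assoc, imageSubobject_arrow_comp, ← cancel_mono (tι k A)]
  simp

lemma mem_of_torsSub {A : Ind C} {k : ℕ} {X Y : Subobject A} (h : torsSub k Y ≤ torsSub k X)
    {T : Ind C} (y : T ⟶ (Y : Ind C)) (hy : k • y = 0) : y ≫ Y.arrow ≫ cokernel.π X.arrow = 0 := by
  have h1 : (torsSub k X).arrow ≫ tι k A ≫ cokernel.π X.arrow = 0 := by
    unfold torsSub
    rw [← cancel_epi (factorThruImageSubobject _), comp_zero, imageSubobject_arrow_comp_assoc]
    simp
  have h2 : (torsSub k Y).arrow ≫ tι k A ≫ cokernel.π X.arrow = 0 := by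
    rw [← Subobject.ofLE_arrow h, Category.assoc, h1, comp_zero]
  have h3 : tι k (Y : Ind C) ≫ Y.arrow ≫ cokernel.π X.arrow = 0 := by
    have := congrArg (fun t => factorThruImageSubobject _ ≫ t) h2
    unfold torsSub at this
    simp only [imageSubobject_arrow_comp_assoc, kernel.lift_ι_assoc, Category.assoc, comp_zero] at this
    exact this
  rw [← kernel.lift_ι (f := k • 𝟙 (Y : Ind C)) y (by rw [comp_nsmul, Category.comp_id, hy]),
    Category.assoc, h3, comp_zero]

variable (hart : ∀ X : C, IsArtinianObject X) (p : ℕ) (hp : p.Prime)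
  (htor : ∀ X : C, ∃ n : ℕ, (p ^ n) • 𝟙 X = 0)
include hart hp htor

lemma subobject_chain_stationary (A : Ind C) (hA : ∀ n : ℕ, Rep (tors (p ^ n) A))
    (S : ℕ → Subobject A) (hS : Antitone S)
    (hcof : ∀ m n : ℕ, Rep (tors (p ^ n) ((S m : Subobject A) : Ind C))) :
    ∃ N : ℕ, ∀ m : ℕ, N ≤ m → S m = S N := by
  have htor' : ∀ X : C, ∃ n : ℕ, 0 < n ∧ n • 𝟙 X = 0 := fun X => by
    obtain ⟨n, h⟩ := htor X
    exact ⟨p ^ n, pow_pos hp.pos n, h⟩
  choose ν hν using fun m => exists_image_stabilizes hart htor' ((S m : Subobject A) : Ind C) hp.pos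
    (hcof m)
  let I : ∀ m, Subobject ((S m : Subobject A) : Ind C) := fun m =>
    imageSubobject ((p ^ ν m) • 𝟙 ((S m : Subobject A) : Ind C))
  let D : ℕ → Subobject A := fun m => Subobject.mk ((I m).arrow ≫ (S m).arrow)
  have hDS : ∀ m, D m ≤ S m := fun m => Subobject.mk_le_of_comm (I m).arrow rfl
  have hdiv : ∀ m, Epi (p • 𝟙 ((D m : Subobject A) : Ind C)) := fun m =>
    epi_nsmul_of_iso (Subobject.underlyingIso _).symm (NsmulImage.epi_on_image (p ^ ν m) p (by
      rw [← pow_succ]; exact (hν m _ (Nat.le_succ _)).ge))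
  have hDrep : ∀ m n, Rep (tors (p ^ n) ((D m : Subobject A) : Ind C)) := fun m n =>
    rep_tors_iso (Subobject.underlyingIso _).symm
      (rep_tors_image hart htor' _ (pow_pos hp.pos _) (fun j => by rw [← pow_mul]; exact hcof m _) _
        (hcof m n))
  have hD : Antitone D := fun m m' hmm => by
    let u := Subobject.ofLE (D m') (S m) ((hDS m').trans (hS hmm))
    have hle : Subobject.mk u ≤ I m := NsmulImage.le_image_of_divisible _ _
      (epi_nsmul_pow (epi_nsmul_of_iso (Subobject.underlyingIso u).symm (hdiv m')) _)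
    exact Subobject.le_mk_of_comm (Subobject.ofMkLE u (I m) hle) (by
      rw [← Category.assoc, Subobject.ofMkLE_arrow, Subobject.ofLE_arrow])
  have hA1 : Rep (tors p A) := by simpa using hA 1
  obtain ⟨M₁, hM₁⟩ := chain_stationary hart hA1 (fun m => torsSub p (D m))
    (fun m m' h => torsSub_mono p (hD h))
    (fun m => rep_torsSub p _ (by simpa using hDrep m 1) hA1)
  have hDconst : ∀ m, M₁ ≤ m → D M₁ ≤ D m := by
    intro m hm
    have main : ∀ (e : ℕ) (T : Ind C) (f : T ⟶ ((D M₁ : Subobject A) : Ind C)), (p ^ e) • f = 0 →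
        f ≫ (D M₁).arrow ≫ cokernel.π (D m).arrow = 0 := by
      intro e
      induction e with
      | zero => intro T f hf; rw [pow_zero, one_nsmul] at hf; rw [hf, zero_comp]
      | succ e ih =>
        intro T f hf
        have hg := mem_of_torsSub (hM₁ m hm).ge ((p ^ e) • f) (by rw [← mul_nsmul, ← pow_succ, hf])
        let g' := Abelian.monoLift (D m).arrow (((p ^ e) • f) ≫ (D M₁).arrow)
          (by rw [Category.assoc, hg])
        have := hdiv m
        have := epi_nsmul_pow (hdiv m) e
        obtain ⟨T', q, hq, d, hd⟩ := surjective_up_to_refinements_of_epi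
          ((p ^ e) • 𝟙 ((D m : Subobject A) : Ind C)) g'
        rw [comp_nsmul, Category.comp_id] at hd
        have h0 : (p ^ e) • (q ≫ f - d ≫ Subobject.ofLE (D m) (D M₁) (hD hm)) = 0 := by
          have key := hd =≫ (D m).arrow
          rw [Category.assoc, Abelian.monoLift_comp] at key
          rw [← cancel_mono (D M₁).arrow, zero_comp, nsmul_comp, sub_comp, smul_sub, sub_eq_zero]
          simpa [nsmul_comp, comp_nsmul] using key
        have := ih T' _ h0
        simp only [sub_comp, Category.assoc, Subobject.ofLE_arrow_assoc, cokernel.condition,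
          comp_zero, sub_zero] at this
        exact (cancel_epi q).1 (this.trans comp_zero.symm)
    have h0 : (D M₁).arrow ≫ cokernel.π (D m).arrow = 0 := eq_zero_of_forall_rep _ fun a f => by
      obtain ⟨n, hn⟩ := htor a
      exact main n _ f (yoneda_killed hn f)
    exact Subobject.le_of_comm (Abelian.monoLift (D m).arrow _ h0) (Abelian.monoLift_comp _ _ h0)
  -- the torsion of exponent `p ^ ν M₁`
  obtain ⟨M₂, hM₂⟩ := chain_stationary hart (hA (ν M₁)) (fun m => torsSub (p ^ ν M₁) (S m))
    (fun m m' h => torsSub_mono _ (hS h))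
    (fun m => rep_torsSub _ _ (hcof m _) (hA _))
  let M := max M₁ M₂
  refine ⟨M, fun m hm => le_antisymm (hS hm) ?_⟩
  have hm₁ : M₁ ≤ m := le_trans (le_max_left _ _) hm
  have htS : torsSub (p ^ ν M₁) (S M) ≤ torsSub (p ^ ν M₁) (S m) :=
    ((hM₂ M (le_max_right _ _)).trans (hM₂ m ((le_max_right _ _).trans hm)).symm).le
  set π := cokernel.π (S m).arrow
  set j := Subobject.ofLE (S M) (S M₁) (hS (le_max_left _ _))
  have hDm : D M₁ ≤ D m := hDconst m hm₁
  let z : ((S M : Subobject A) : Ind C) ⟶ ((D m : Subobject A) : Ind C) :=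
    j ≫ factorThruImageSubobject ((p ^ ν M₁) • 𝟙 _) ≫ (Subobject.underlyingIso _).inv ≫
      Subobject.ofLE (D M₁) (D m) hDm
  have hz : z ≫ (D m).arrow = (p ^ ν M₁) • (S M).arrow := by
    simp only [z, Category.assoc, Subobject.ofLE_arrow, D, Subobject.underlyingIso_arrow, I,
      imageSubobject_arrow_comp_assoc, nsmul_comp, Category.id_comp, comp_nsmul]
    simp [j]
  have := epi_nsmul_pow (hdiv m) (ν M₁)
  obtain ⟨T, q, hq, d, hd⟩ := surjective_up_to_refinements_of_epi
    ((p ^ ν M₁) • 𝟙 ((D m : Subobject A) : Ind C)) z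
  rw [comp_nsmul, Category.comp_id] at hd
  let d' := d ≫ Subobject.ofLE (D m) (S M) ((hDS m).trans (hS hm))
  have h0 : (p ^ ν M₁) • (q - d') = 0 := by
    have key := hd =≫ (D m).arrow
    rw [Category.assoc, hz] at key
    rw [← cancel_mono (S M).arrow, zero_comp, nsmul_comp, sub_comp, smul_sub, sub_eq_zero]
    simpa [d', nsmul_comp, comp_nsmul] using key
  have h1 := mem_of_torsSub htS (q - d') h0
  have h2 : (D m).arrow ≫ π = 0 := by
    rw [← Subobject.ofLE_arrow (hDS m), Category.assoc, cokernel.condition, comp_zero]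
  simp only [d', sub_comp, Category.assoc, Subobject.ofLE_arrow_assoc] at h1
  rw [h2, comp_zero, sub_zero] at h1
  have h3 : (S M).arrow ≫ π = 0 := (cancel_epi q).1 (h1.trans comp_zero.symm)
  exact Subobject.le_of_comm (Abelian.monoLift (S m).arrow _ h3) (Abelian.monoLift_comp _ _ h3)

end Groth.Misc7.IndCofinite
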