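import Mathlib
import Groth.Prelude.Def_W4c1btstackcountsChain

/-!
Chains of matrices are classified by the ranks of their composites.
-/

set_option autoImplicit false

namespace Groth.Misc7.MatrixChain

open Module W4c1btstackcounts

universe u

section Linear

variable {k : Type u} [Field k] {V V' W W' : Type*} [AddCommGroup V] [Module k V]
  [AddCommGroup V'] [Module k V'] [AddCommGroup W] [Module k W] [AddCommGroup W'] [Module k W']
  [FiniteDimensional k V] [FiniteDimensional k V']

lemma extend_one (f : V →ₗ[k] W) (f' : V' →ₗ[k] W') (φ : W →ₗ[k] W') (hφ : Function.Injective φ)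
    (U : Submodule k V) (ψ₀ : V →ₗ[k] V') (hinj : ∀ x ∈ U, ψ₀ x = 0 → x = 0)
    (hcomm : ∀ x ∈ U, f' (ψ₀ x) = φ (f x))
    (him : (LinearMap.range f).map φ = LinearMap.range f') (hdim : finrank k V = finrank k V') :
    ∃ ψ : V →ₗ[k] V', Function.Bijective ψ ∧ (∀ x ∈ U, ψ x = ψ₀ x) ∧ ∀ x, f' (ψ x) = φ (f x) := by
  obtain ⟨C, hC⟩ := Submodule.exists_isCompl U
  have hmem : ∀ x, (φ ∘ₗ f) x ∈ LinearMap.range f' := fun x => by
    rw [← him]; exact ⟨f x, ⟨x, rfl⟩, rfl⟩
  obtain ⟨s, hs⟩ := Module.projective_lifting_property f'.rangeRestrict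
    ((φ ∘ₗ f).codRestrict _ hmem) f'.surjective_rangeRestrict
  have hs' : ∀ x, f' (s x) = φ (f x) := fun x => congrArg Subtype.val (LinearMap.congr_fun hs x)
  let ψ₁ : V →ₗ[k] V' :=
    ψ₀ ∘ₗ U.subtype ∘ₗ Submodule.projectionOnto U C hC +
      s ∘ₗ C.subtype ∘ₗ Submodule.projectionOnto C U hC.symm
  have h₁U : ∀ x ∈ U, ψ₁ x = ψ₀ x := fun x hx => by
    simp [ψ₁, Submodule.projectionOnto_apply_left hC ⟨x, hx⟩,
      Submodule.projectionOnto_apply_right hC.symm ⟨x, hx⟩]
  have h₁C : ∀ x ∈ C, ψ₁ x = s x := fun x hx => by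
    simp [ψ₁, Submodule.projectionOnto_apply_left hC.symm ⟨x, hx⟩,
      Submodule.projectionOnto_apply_right hC ⟨x, hx⟩]
  have hsup : ∀ x, ∃ a ∈ U, ∃ b ∈ C, a + b = x := fun x =>
    Submodule.mem_sup.1 (hC.sup_eq_top ▸ Submodule.mem_top)
  have h₁comm : ∀ x, f' (ψ₁ x) = φ (f x) := fun x => by
    obtain ⟨a, ha, b, hb, rfl⟩ := hsup x
    rw [map_add, map_add, map_add, map_add, h₁U a ha, h₁C b hb, hcomm a ha, hs']
  let N := LinearMap.ker ψ₁
  let R := LinearMap.range ψ₁
  let K' := LinearMap.ker f'
  have hNU : Disjoint N U := by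
    rw [Submodule.disjoint_def]
    intro x hx hxU
    exact hinj x hxU (by rw [← h₁U x hxU]; exact hx)
  obtain ⟨C₂, hUC₂, hC₂'⟩ := hNU.symm.exists_isCompl
  have hC₂ := hC₂'.symm
  have hRK : R ⊔ K' = ⊤ := by
    rw [eq_top_iff]
    intro y _
    have hy : f' y ∈ (LinearMap.range f).map φ := him ▸ ⟨y, rfl⟩
    obtain ⟨w, ⟨x, rfl⟩, hw⟩ := hy
    refine Submodule.mem_sup.2 ⟨ψ₁ x, ⟨x, rfl⟩, y - ψ₁ x, ?_, by abel⟩
    simp [K', h₁comm, hw]
  obtain ⟨D, hD⟩ := Submodule.exists_isCompl (R.comap K'.subtype)
  let D' : Submodule k V' := D.map K'.subtype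
  have hD'K : D' ≤ K' := by rintro _ ⟨d, -, rfl⟩; exact d.2
  have hRD : IsCompl R D' := by
    constructor
    · rw [Submodule.disjoint_def]
      rintro _ hR ⟨d, hd, rfl⟩
      have : d = 0 := (Submodule.disjoint_def.1 hD.disjoint) d hR hd
      simp [this]
    · rw [codisjoint_iff, eq_top_iff, ← hRK]
      refine sup_le le_sup_left fun y hy => ?_
      obtain ⟨a, ha, b, hb, hab⟩ := Submodule.mem_sup.1
        (show (⟨y, hy⟩ : K') ∈ R.comap K'.subtype ⊔ D from hD.sup_eq_top ▸ Submodule.mem_top)
      exact Submodule.mem_sup.2 ⟨a.1, ha, b.1, ⟨b, hb, rfl⟩, congrArg Subtype.val hab⟩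
  have hND : finrank k N = finrank k D' := by
    have h1 := ψ₁.finrank_range_add_finrank_ker
    have h2 := Submodule.finrank_add_eq_of_isCompl hRD
    simp only [N, R] at *
    omega
  obtain ⟨e⟩ : Nonempty (N ≃ₗ[k] D') := FiniteDimensional.nonempty_linearEquiv_of_finrank_eq hND
  let Q : V →ₗ[k] V' := D'.subtype ∘ₗ e.toLinearMap ∘ₗ Submodule.projectionOnto N C₂ hC₂
  refine ⟨ψ₁ + Q, ?_, fun x hx => ?_, fun x => ?_⟩
  · have hinj' : Function.Injective (ψ₁ + Q) := by
      rw [← LinearMap.ker_eq_bot, LinearMap.ker_eq_bot']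
      intro x hx
      have hQ : Q x ∈ R := by
        have : Q x = -ψ₁ x := eq_neg_of_add_eq_zero_right hx
        rw [this]; exact R.neg_mem ⟨x, rfl⟩
      have hQ0 : Q x = 0 := (Submodule.disjoint_def.1 hRD.disjoint) _ hQ (Subtype.prop _)
      have hp : Submodule.projectionOnto N C₂ hC₂ x = 0 := by
        apply e.injective
        apply Subtype.ext
        simpa [Q] using hQ0
      have hxN : x ∈ N := by
        change ψ₁ x = 0
        simpa [hQ0] using hx
      have := Submodule.projectionOnto_apply_left hC₂ ⟨x, hxN⟩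
      rw [hp] at this
      exact congrArg Subtype.val this.symm
    exact ⟨hinj', ((LinearMap.injective_iff_surjective_of_finrank_eq_finrank hdim).1 hinj')⟩
  · rw [LinearMap.add_apply, h₁U x hx]
    simp [Q, Submodule.projectionOnto_apply_right hC₂ ⟨x, hUC₂ hx⟩]
  · have hQ : f' (Q x) = 0 := hD'K (Subtype.prop _)
    simp [h₁comm, hQ]

/-- Extend compatible isomorphisms along a filtration. -/
lemma extend_chain (f : V →ₗ[k] W) (f' : V' →ₗ[k] W') (φ : W →ₗ[k] W') (hφ : Function.Injective φ)
    (n : ℕ) (F : ℕ → Submodule k V) (F' : ℕ → Submodule k V') (h0 : F 0 = ⊥) (h0' : F' 0 = ⊥)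
    (hmono : ∀ i < n, F i ≤ F (i + 1)) (hmono' : ∀ i < n, F' i ≤ F' (i + 1))
    (hdim : ∀ i ≤ n, finrank k (F i) = finrank k (F' i))
    (him : ∀ i ≤ n, ((F i).map f).map φ = (F' i).map f') :
    ∃ ψ : V →ₗ[k] V', (∀ i ≤ n, (F i).map ψ = F' i) ∧ ∀ x ∈ F n, f' (ψ x) = φ (f x) := by
  induction n with
  | zero =>
    refine ⟨0, fun i hi => ?_, fun x hx => ?_⟩
    · rw [Nat.le_zero.1 hi, h0, h0', Submodule.map_bot]
    · rw [h0, Submodule.mem_bot] at hx; simp [hx]
  | succ n ih =>
    obtain ⟨ψ₀, hψ, hcomm⟩ := ih (fun i hi => hmono i (by omega)) (fun i hi => hmono' i (by omega))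
      (fun i hi => hdim i (by omega)) (fun i hi => him i (by omega))
    have hle := hmono n (Nat.lt_succ_self n)
    have hle' := hmono' n (Nat.lt_succ_self n)
    have hmem : ∀ x ∈ F n, ψ₀ x ∈ F' n := fun x hx => hψ n le_rfl ▸ ⟨x, hx, rfl⟩
    have hker : ∀ x ∈ F n, ψ₀ x = 0 → x = 0 := by
      have h1 : Function.Injective (ψ₀.restrict hmem) := by
        rw [LinearMap.injective_iff_surjective_of_finrank_eq_finrank (hdim n (by omega))]
        rintro ⟨y, hy⟩
        rw [← hψ n le_rfl] at hy
        obtain ⟨x, hx, rfl⟩ := hy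
        exact ⟨⟨x, hx⟩, rfl⟩
      intro x hx h
      exact congrArg Subtype.val (@h1 ⟨x, hx⟩ 0 (Subtype.ext (by simpa using h)))
    obtain ⟨C, hC⟩ := Submodule.exists_isCompl (F (n + 1))
    let ψT : F (n + 1) →ₗ[k] F' (n + 1) :=
      (Submodule.projectionOnto (F' (n + 1)) _ (Submodule.exists_isCompl (F' (n + 1))).choose_spec) ∘ₗ
        ψ₀ ∘ₗ (F (n + 1)).subtype
    have hval : ∀ (x : F (n + 1)) (hx : (x : V) ∈ F n), ψT x = ⟨ψ₀ x, hle' (hmem x hx)⟩ := fun x hx =>
      Submodule.projectionOnto_apply_left _ ⟨ψ₀ x, hle' (hmem x hx)⟩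
    obtain ⟨ψ, hbij, hU, hc⟩ := extend_one (f ∘ₗ (F (n + 1)).subtype) (f' ∘ₗ (F' (n + 1)).subtype) φ hφ
      ((F n).comap (F (n + 1)).subtype) ψT
      (fun x hx h => Subtype.ext (hker x hx (congrArg Subtype.val ((hval x hx).symm.trans h))))
      (fun x hx => by
        simp only [LinearMap.coe_comp, Function.comp_apply, hval x hx]
        exact hcomm x hx) (by
        rw [LinearMap.range_comp, LinearMap.range_comp, Submodule.range_subtype, Submodule.range_subtype]
        exact him (n + 1) le_rfl) (hdim (n + 1) le_rfl)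
    · refine ⟨(F' (n + 1)).subtype ∘ₗ ψ ∘ₗ Submodule.projectionOnto (F (n + 1)) C hC,
        fun i hi => ?_, fun x hx => ?_⟩
      · have hsub : ∀ x ∈ F n, ((F' (n + 1)).subtype ∘ₗ ψ ∘ₗ
            Submodule.projectionOnto (F (n + 1)) C hC) x = ψ₀ x := fun x hx => by
          simp only [LinearMap.coe_comp, Function.comp_apply]
          rw [Submodule.projectionOnto_apply_left hC ⟨x, hle hx⟩, hU ⟨x, hle hx⟩ hx]
          exact congrArg Subtype.val (Submodule.projectionOnto_apply_left _ ⟨ψ₀ x, hle' (hmem x hx)⟩)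
        rcases Nat.le_or_eq_of_le_succ hi with hi' | rfl
        · have hiF : F i ≤ F n :=
            Nat.le_induction (m := i) (P := fun j _ => j ≤ n → F i ≤ F j)
              (fun _ => le_rfl) (fun j _ hj hj' => (hj (by omega)).trans (hmono j (by omega))) n hi' le_rfl
          rw [← hψ i hi']
          ext y
          constructor <;> rintro ⟨x, hx, rfl⟩
          · exact ⟨x, hx, (hsub x (hiF hx)).symm⟩
          · exact ⟨x, hx, hsub x (hiF hx)⟩
        · rw [Submodule.map_comp, Submodule.map_comp]
          have : (F (n + 1)).map (Submodule.projectionOnto (F (n + 1)) C hC) = ⊤ := by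
            rw [eq_top_iff]
            rintro x -
            exact ⟨x.1, x.2, Submodule.projectionOnto_apply_left hC x⟩
          rw [this, Submodule.map_top, LinearMap.range_eq_top.2 hbij.2, Submodule.map_top,
            Submodule.range_subtype]
      · have := hc ⟨x, hx⟩
        simp only [LinearMap.coe_comp, Function.comp_apply] at this ⊢
        rw [Submodule.projectionOnto_apply_left hC ⟨x, hx⟩]
        exact this

lemma exists_equiv_chain (f : V →ₗ[k] W) (f' : V' →ₗ[k] W') (φ : W →ₗ[k] W') (hφ : Function.Injective φ)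
    (n : ℕ) (F : ℕ → Submodule k V) (F' : ℕ → Submodule k V') (h0 : F 0 = ⊥) (h0' : F' 0 = ⊥)
    (hmono : ∀ i < n, F i ≤ F (i + 1)) (hmono' : ∀ i < n, F' i ≤ F' (i + 1))
    (hdim : ∀ i ≤ n, finrank k (F i) = finrank k (F' i))
    (him : ∀ i ≤ n, ((F i).map f).map φ = (F' i).map f') (htop : F n = ⊤) (htop' : F' n = ⊤) :
    ∃ ψ : V ≃ₗ[k] V', (∀ i ≤ n, (F i).map ψ.toLinearMap = F' i) ∧ ∀ x, f' (ψ x) = φ (f x) := by
  obtain ⟨ψ, h1, h2⟩ := extend_chain f f' φ hφ n F F' h0 h0' hmono hmono' hdim him
  have hs : Function.Surjective ψ := by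
    rw [← LinearMap.range_eq_top, ← Submodule.map_top, ← htop, h1 n le_rfl, htop']
  have hd : finrank k V = finrank k V' := by
    have := hdim n le_rfl
    rwa [htop, htop', finrank_top, finrank_top] at this
  exact ⟨LinearEquiv.ofBijective ψ
    ⟨(LinearMap.injective_iff_surjective_of_finrank_eq_finrank hd).2 hs, hs⟩, h1,
    fun x => h2 x (htop ▸ Submodule.mem_top)⟩

end Linear

variable {k : Type u} [Field k] {d : ℕ → ℕ}

/-- The image of `V_i` in `V_j`. -/
def J (f : (i : ℕ) → Matrix (Fin (d (i + 1))) (Fin (d i)) k) :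
    (j : ℕ) → ℕ → Submodule k (Fin (d j) → k)
  | 0, _ => ⊤
  | j + 1, i => if i ≤ j then (J f j i).map (Matrix.toLin' (f j)) else ⊤

variable (f : (i : ℕ) → Matrix (Fin (d (i + 1))) (Fin (d i)) k)

lemma J_succ {i j : ℕ} (h : i ≤ j) : J f (j + 1) i = (J f j i).map (Matrix.toLin' (f j)) := if_pos h

lemma J_self : ∀ {i j : ℕ}, j ≤ i → J f j i = ⊤
  | _, 0, _ => rfl
  | i, j + 1, h => if_neg (by omega)

lemma iterImage_eq (i n : ℕ) : iterImage f i n = J f (i + n) i := by
  induction n with
  | zero => exact (J_self f le_rfl).symm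
  | succ n ih =>
    change (iterImage f i n).map _ = _
    rw [ih]
    exact (J_succ f (Nat.le_add_right i n)).symm

lemma rankArray_eq {i j : ℕ} (h : i ≤ j) : rankArray f i j = finrank k (J f j i) := by
  obtain ⟨n, rfl⟩ := Nat.exists_eq_add_of_le h
  rw [rankArray, if_pos h, Nat.add_sub_cancel_left, iterImage_eq]

lemma J_mono : ∀ (j i : ℕ), J f j i ≤ J f j (i + 1)
  | 0, _ => le_rfl
  | j + 1, i => by
    rcases le_or_gt (i + 1) j with h | h
    · rw [J_succ f h, J_succ f (by omega)]
      exact Submodule.map_mono (J_mono j i)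
    · rw [J_self f (show j + 1 ≤ i + 1 by omega)]
      exact le_top

lemma isRankArray (r : ℕ) : IsRankArray d r (rankArray f) := by
  refine ⟨fun j _ _ => ?_, fun i j _ h _ => ?_, fun i j _ h _ => ?_, fun i j hi h _ => ?_⟩
  · rw [rankArray_eq f le_rfl, J_self f le_rfl, finrank_top, finrank_fin_fun]
  · rw [rankArray_eq f h.le, rankArray_eq f (show i + 1 ≤ j by omega)]
    exact Submodule.finrank_mono (J_mono f j i)
  · rw [rankArray_eq f h, rankArray_eq f (show i ≤ j + 1 by omega), J_succ f h]
    exact Submodule.finrank_map_le _ _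
  · obtain ⟨i, rfl⟩ : ∃ i', i = i' + 1 := ⟨i - 1, by omega⟩
    simp only [Nat.add_sub_cancel]
    rw [rankArray_eq f h, rankArray_eq f (show i + 1 ≤ j + 1 by omega),
      rankArray_eq f (show i ≤ j by omega), rankArray_eq f (show i ≤ j + 1 by omega), J_succ f h,
      J_succ f (show i ≤ j by omega)]
    have key : ∀ S : Submodule k (Fin (d j) → k), finrank k (S.map (Matrix.toLin' (f j))) +
        finrank k (S ⊓ LinearMap.ker (Matrix.toLin' (f j)) : Submodule k (Fin (d j) → k)) = finrank k S := by
      intro S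
      have h1 := ((Matrix.toLin' (f j)).domRestrict S).finrank_range_add_finrank_ker
      rw [LinearMap.range_domRestrict, LinearMap.ker_domRestrict] at h1
      rw [← Submodule.map_comap_subtype, ← h1]
      congr 1
      exact ((Submodule.equivMapOfInjective _ S.injective_subtype _).finrank_eq).symm
    have := key (J f j (i + 1))
    have := key (J f j i)
    have := Submodule.finrank_mono (inf_le_inf_right (LinearMap.ker (Matrix.toLin' (f j))) (J_mono f j i))
    omega

lemma rankArray_conj (g : (j : ℕ) → Matrix.GeneralLinearGroup (Fin (d j)) k) {i j : ℕ} (h : i ≤ j) :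
    rankArray (conj g f) i j = rankArray f i j := by
  have key : ∀ j, J (conj g f) j i = (J f j i).map (Matrix.toLin' (g j : Matrix (Fin (d j)) (Fin (d j)) k)) := by
    intro j
    have hsurj : LinearMap.range (Matrix.toLin' (g j : Matrix (Fin (d j)) (Fin (d j)) k)) = ⊤ := by
      refine LinearMap.range_eq_top.2 fun v => ⟨((g j)⁻¹ : Matrix.GeneralLinearGroup (Fin (d j)) k).1.mulVec v, ?_⟩
      rw [Matrix.toLin'_apply, Matrix.mulVec_mulVec, Units.mul_inv, Matrix.one_mulVec]
    induction j with
    | zero => rw [show J f 0 i = ⊤ from rfl, Submodule.map_top, hsurj]; rfl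
    | succ j ih =>
      rcases le_or_gt i j with h | h
      · have hsurj' : LinearMap.range (Matrix.toLin' (g j : Matrix (Fin (d j)) (Fin (d j)) k)) = ⊤ := by
          refine LinearMap.range_eq_top.2 fun v => ⟨((g j)⁻¹ : Matrix.GeneralLinearGroup (Fin (d j)) k).1.mulVec v, ?_⟩
          rw [Matrix.toLin'_apply, Matrix.mulVec_mulVec, Units.mul_inv, Matrix.one_mulVec]
        rw [J_succ _ h, J_succ _ h, ih hsurj', ← Submodule.map_comp, ← Submodule.map_comp,
          ← Matrix.toLin'_mul, ← Matrix.toLin'_mul]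
        congr 2
        simp [conj, Matrix.mul_assoc]
      · rw [J_self _ (show j + 1 ≤ i by omega), J_self _ (show j + 1 ≤ i by omega), Submodule.map_top,
          hsurj]
  rw [rankArray_eq _ h, rankArray_eq _ h, key]
  refine ((Submodule.equivMapOfInjective _ ?_ _).finrank_eq).symm
  intro v w hvw
  have := congrArg ((((g j)⁻¹ : Matrix.GeneralLinearGroup (Fin (d j)) k).1).mulVec) hvw
  simpa [Matrix.mulVec_mulVec] using this

variable (f' : (i : ℕ) → Matrix (Fin (d (i + 1))) (Fin (d i)) k)

lemma exists_conj_aux : ∀ (j : ℕ),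
    (∀ i l, 1 ≤ i → i ≤ l → l ≤ j → finrank k (J f l i) = finrank k (J f' l i)) →
    ∀ φ : (Fin (d j) → k) ≃ₗ[k] (Fin (d j) → k),
      (∀ i, 1 ≤ i → i ≤ j → (J f j i).map φ.toLinearMap = J f' j i) →
      ∃ g : (l : ℕ) → (Fin (d l) → k) ≃ₗ[k] (Fin (d l) → k), g j = φ ∧
        ∀ i, 1 ≤ i → i + 1 ≤ j → ∀ x,
          Matrix.toLin' (f' i) (g i x) = g (i + 1) (Matrix.toLin' (f i) x)
  | 0, _, φ, _ => ⟨Function.update (fun _ => LinearEquiv.refl k _) 0 φ, by simp, by omega⟩
  | j + 1, hrk, φ, hφ => by
    rcases Nat.eq_zero_or_pos j with rfl | hj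
    · exact ⟨Function.update (fun _ => LinearEquiv.refl k _) 1 φ, by simp, by omega⟩
    let F : ℕ → Submodule k (Fin (d j) → k) := fun i => if i = 0 then ⊥ else J f j i
    let F' : ℕ → Submodule k (Fin (d j) → k) := fun i => if i = 0 then ⊥ else J f' j i
    obtain ⟨ψ, hψ, hc⟩ := exists_equiv_chain (Matrix.toLin' (f j)) (Matrix.toLin' (f' j)) φ.toLinearMap
      φ.injective j F F' (if_pos rfl) (if_pos rfl)
      (fun i _ => by
        by_cases h : i = 0
        · simp [F, h]
        · simpa [F, h] using J_mono f j i)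
      (fun i _ => by
        by_cases h : i = 0
        · simp [F', h]
        · simpa [F', h] using J_mono f' j i)
      (fun i hi => by
        by_cases h : i = 0
        · rw [show F i = ⊥ from if_pos h, show F' i = ⊥ from if_pos h]
        · rw [show F i = J f j i from if_neg h, show F' i = J f' j i from if_neg h]
          exact hrk i j (by omega) hi (by omega))
      (fun i hi => by
        by_cases h : i = 0
        · simp [F, F', h]
        · simp only [F, F', h, ↓reduceIte]
          rw [← J_succ f hi, ← J_succ f' hi]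
          exact hφ i (by omega) (by omega))
      (by simp [F, hj.ne', J_self f le_rfl]) (by simp [F', hj.ne', J_self f' le_rfl])
    obtain ⟨g, hg, hgc⟩ := exists_conj_aux j (fun i l h1 h2 h3 => hrk i l h1 h2 (by omega)) ψ
      (fun i hi hi' => by
        have := hψ i hi'
        simpa [F, F', show i ≠ 0 by omega] using this)
    refine ⟨Function.update g (j + 1) φ, by simp, fun i hi hi' x => ?_⟩
    rw [Function.update_of_ne (by omega)]
    rcases Nat.lt_or_ge i j with h | h
    · rw [Function.update_of_ne (by omega)]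
      exact hgc i hi (by omega) x
    · obtain rfl : i = j := by omega
      rw [Function.update_self, hg]
      exact hc x

lemma exists_conj (r : ℕ)
    (h : ∀ i j : ℕ, 1 ≤ i → i ≤ j → j ≤ r → rankArray f i j = rankArray f' i j) :
    ∃ g : (j : ℕ) → Matrix.GeneralLinearGroup (Fin (d j)) k,
      ∀ i : ℕ, 1 ≤ i → i + 1 ≤ r → conj g f i = f' i := by
  rcases Nat.eq_zero_or_pos r with rfl | hr
  · exact ⟨fun _ => 1, fun i _ hi => by omega⟩
  have hrk : ∀ i l, 1 ≤ i → i ≤ l → l ≤ r → finrank k (J f l i) = finrank k (J f' l i) :=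
    fun i l h1 h2 h3 => by rw [← rankArray_eq f h2, ← rankArray_eq f' h2]; exact h i l h1 h2 h3
  let F : ℕ → Submodule k (Fin (d r) → k) := fun i => if i = 0 then ⊥ else J f r i
  let F' : ℕ → Submodule k (Fin (d r) → k) := fun i => if i = 0 then ⊥ else J f' r i
  obtain ⟨φ, hφ, -⟩ := exists_equiv_chain (0 : (Fin (d r) → k) →ₗ[k] (Fin 0 → k))
    (0 : (Fin (d r) → k) →ₗ[k] (Fin 0 → k)) LinearMap.id Function.injective_id r F F'
    (if_pos rfl) (if_pos rfl)
    (fun i _ => by
      by_cases h : i = 0
      · simp [F, h]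
      · simpa [F, h] using J_mono f r i)
    (fun i _ => by
      by_cases h : i = 0
      · simp [F', h]
      · simpa [F', h] using J_mono f' r i)
    (fun i hi => by
      by_cases h : i = 0
      · rw [show F i = ⊥ from if_pos h, show F' i = ⊥ from if_pos h]
      · rw [show F i = J f r i from if_neg h, show F' i = J f' r i from if_neg h]
        exact hrk i r (by omega) hi le_rfl)
    (fun i _ => Subsingleton.elim _ _)
    (by simp [F, hr.ne', J_self f le_rfl]) (by simp [F', hr.ne', J_self f' le_rfl])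
  obtain ⟨g, -, hg⟩ := exists_conj_aux f f' r hrk φ (fun i hi hi' => by
    simpa [F, F', show i ≠ 0 by omega] using hφ i hi')
  refine ⟨fun j => ⟨LinearMap.toMatrix' (g j).toLinearMap, LinearMap.toMatrix' (g j).symm.toLinearMap,
    by rw [← LinearMap.toMatrix'_comp]; simp, by rw [← LinearMap.toMatrix'_comp]; simp⟩, fun i hi hi' => ?_⟩
  apply Matrix.toLin'.injective
  refine LinearMap.ext fun x => ?_
  simp only [conj, Matrix.toLin'_mul, Matrix.toLin'_toMatrix', LinearMap.coe_comp, Function.comp_apply,
    LinearEquiv.coe_coe]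
  have := hg i hi hi' ((g i).symm x)
  rw [LinearEquiv.apply_symm_apply] at this
  simp only [Units.inv_mk, Matrix.toLin'_toMatrix', LinearEquiv.coe_coe]
  exact this.symm

/-! ### existence -/

/-- The vectors supported on the first `c` coordinates. -/
def firstCoords (k : Type u) [Field k] (n c : ℕ) : Submodule k (Fin n → k) where
  carrier := {v | ∀ x : Fin n, c ≤ x → v x = 0}
  add_mem' := fun {v w} hv hw x hx => by simp [hv x hx, hw x hx]
  zero_mem' := fun x _ => rfl
  smul_mem' := fun r v hv x hx => by simp [hv x hx]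

lemma finrank_firstCoords {n c : ℕ} (h : c ≤ n) : finrank k (firstCoords k n c) = c := by
  let e : Fin (n - c) → Fin n := fun x => ⟨c + x, by have := x.2; omega⟩
  have he : Function.Injective e := fun x y hxy => by simpa [e, Fin.ext_iff] using hxy
  have hker : LinearMap.ker (LinearMap.funLeft k k e) = firstCoords k n c := by
    ext v
    simp only [LinearMap.mem_ker]
    constructor
    · intro hv x hx
      have := congrFun hv ⟨x - c, by have := x.2; omega⟩
      simpa [LinearMap.funLeft, e, Nat.add_sub_cancel' hx] using this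
    · intro hv
      funext x
      exact hv _ (Nat.le_add_right c x)
  have := (LinearMap.funLeft k k e).finrank_range_add_finrank_ker
  rw [LinearMap.range_eq_top.2 (LinearMap.funLeft_surjective_of_injective k k e he), finrank_top,
    finrank_fin_fun, finrank_fin_fun, hker] at this
  omega

lemma exists_chain (r : ℕ) (a : ℕ → ℕ → ℕ) (ha : IsRankArray d r a) :
    ∃ f : (i : ℕ) → Matrix (Fin (d (i + 1))) (Fin (d i)) k,
      ∀ i j : ℕ, 1 ≤ i → i ≤ j → j ≤ r → rankArray f i j = a i j := by
  obtain ⟨hdd, hmono, hdec, hsub⟩ := ha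
  let S : ℕ → ℕ → ℕ := fun j y =>
    ((Finset.Icc 1 j).filter fun i => a i (j + 1) ≤ y).sup fun i => a i j - a i (j + 1)
  let f : (i : ℕ) → Matrix (Fin (d (i + 1))) (Fin (d i)) k := fun j => Matrix.of fun y x =>
    if (y : ℕ) < a j (j + 1) ∧ (x : ℕ) = y + S j y then 1 else 0
  have hmono' : ∀ i i' j, 1 ≤ i → i ≤ i' → i' ≤ j → j ≤ r → a i j ≤ a i' j := by
    intro i i' j h1 h2 h3 h4
    induction i', h2 using Nat.le_induction with
    | base => rfl
    | succ n hn ih => exact (ih (by omega)).trans (hmono n j (by omega) (by omega) h4)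
  have hs : ∀ i i' j, 1 ≤ i → i ≤ i' → i' ≤ j → j < r → a i j - a i (j + 1) ≤ a i' j - a i' (j + 1) := by
    intro i i' j h1 h2 h3 h4
    induction i', h2 using Nat.le_induction with
    | base => rfl
    | succ n hn ih =>
      refine (ih (by omega)).trans ?_
      have := hsub (n + 1) j (by omega) h3 h4
      have := hdec (n + 1) j (by omega) h3 h4
      have := hdec n j (by omega) (by omega) h4
      simp only [Nat.add_sub_cancel] at *
      omega
  have hlt : ∀ i j y, 1 ≤ i → i ≤ j → j < r → y < a i (j + 1) → y + S j y < a i j := by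
    intro i j y h1 h2 h3 hy
    have hS : S j y ≤ a i j - a i (j + 1) := Finset.sup_le fun i' hi' => by
      simp only [Finset.mem_filter, Finset.mem_Icc] at hi'
      refine hs i' i j hi'.1.1 ?_ h2 h3
      by_contra! hc
      have := hmono' i i' (j + 1) h1 hc.le (by omega) (by omega)
      omega
    have := hdec i j h1 h2 h3
    omega
  have hge : ∀ i j y, 1 ≤ i → i ≤ j → j < r → a i (j + 1) ≤ y → a i j ≤ y + S j y := by
    intro i j y h1 h2 h3 hy
    have : a i j - a i (j + 1) ≤ S j y :=
      Finset.le_sup (f := fun i => a i j - a i (j + 1)) (Finset.mem_filter.2 ⟨Finset.mem_Icc.2 ⟨h1, h2⟩, hy⟩)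
    omega
  have hτ : ∀ j y y', y < y' → y + S j y < y' + S j y' := by
    intro j y y' h
    have : S j y ≤ S j y' := Finset.sup_mono fun i hi => by
      simp only [Finset.mem_filter] at hi ⊢; exact ⟨hi.1, by omega⟩
    omega
  refine ⟨f, fun i j h1 h2 h3 => ?_⟩
  have key : ∀ j, i ≤ j → j ≤ r → J f j i = firstCoords k (d j) (a i j) := by
    intro j hij
    induction j, hij using Nat.le_induction with
    | base =>
      intro hir
      rw [J_self f le_rfl, hdd i h1 hir, eq_comm, eq_top_iff]
      intro v _ x hx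
      exact absurd x.2 (by omega)
    | succ j hj ih =>
      intro hjr
      rw [J_succ f hj, ih (by omega)]
      have happ : ∀ (v : Fin (d j) → k) (y : Fin (d (j + 1))) (hy : (y : ℕ) < a j (j + 1)),
          Matrix.toLin' (f j) v y = v ⟨y + S j y, by
            have := hlt j j y (by omega) le_rfl (by omega) hy
            have := hdd j (by omega) (by omega)
            omega⟩ := by
        intro v y hy
        simp only [Matrix.toLin'_apply, Matrix.mulVec, dotProduct, f, Matrix.of_apply]
        rw [Finset.sum_eq_single ⟨y + S j y, by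
            have := hlt j j y (by omega) le_rfl (by omega) hy
            have := hdd j (by omega) (by omega)
            omega⟩]
        · simp [hy]
        · intro x _ hx
          rw [if_neg fun hc => hx (Fin.ext hc.2), zero_mul]
        · simp
      have happ0 : ∀ (v : Fin (d j) → k) (y : Fin (d (j + 1))), ¬ (y : ℕ) < a j (j + 1) →
          Matrix.toLin' (f j) v y = 0 := by
        intro v y hy
        simp [Matrix.toLin'_apply, Matrix.mulVec, dotProduct, f, hy]
      apply le_antisymm
      · rintro _ ⟨v, hv, rfl⟩ y hy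
        by_cases hy' : (y : ℕ) < a j (j + 1)
        · rw [happ v y hy']
          exact hv _ (hge i j y h1 hj (by omega) hy)
        · exact happ0 v y hy'
      · intro w hw
        refine ⟨fun x => ∑ y : Fin (d (j + 1)),
          if (y : ℕ) < a j (j + 1) ∧ (x : ℕ) = y + S j y then w y else 0, fun x hx => ?_, funext fun y => ?_⟩
        · refine Finset.sum_eq_zero fun y _ => ?_
          split_ifs with hc
          · refine hw y ?_
            by_contra! hlt'
            have := hlt i j y h1 hj (by omega) hlt'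
            omega
          · rfl
        · by_cases hy' : (y : ℕ) < a j (j + 1)
          · rw [happ _ y hy', Finset.sum_eq_single y]
            · simp [hy']
            · intro y' _ hne
              rw [if_neg fun hc => ?_]
              rcases lt_or_gt_of_ne (fun e : (y : ℕ) = y' => hne (Fin.ext e.symm)) with h | h
              · have := hτ j y y' h
                have := hc.2
                simp only at this
                omega
              · have := hτ j y' y h
                have := hc.2
                simp only at this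
                omega
            · simp
          · rw [happ0 _ y hy']
            have := hmono' i j (j + 1) h1 hj (by omega) (by omega)
            exact (hw y (by omega)).symm
  rw [rankArray_eq f h2, key j h2 h3, finrank_firstCoords]
  rw [← hdd j (by omega) h3]
  exact hmono' i j j h1 h2 le_rfl h3

end Groth.Misc7.MatrixChain
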