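import Mathlib

namespace Groth.Misc7.NsmulImage

open CategoryTheory CategoryTheory.Limits

universe v u
variable {V : Type u} [Category.{v} V] [Abelian V] {B : V}

lemma nsmul_id_comp {X Y : V} (f : X ⟶ Y) (k : ℕ) : f ≫ (k • 𝟙 Y) = (k • 𝟙 X) ≫ f := by
  rw [Preadditive.comp_nsmul, Preadditive.nsmul_comp, Category.comp_id, Category.id_comp]

lemma factors_mul (B' : Subobject B) {M : ℕ} (h : M • 𝟙 (cokernel B'.arrow) = 0) (j : ℕ) :
    imageSubobject ((M * j) • 𝟙 B) ≤ B' := by
  have hz : ((M * j) • 𝟙 B) ≫ cokernel.π B'.arrow = 0 := by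
    rw [← nsmul_id_comp, mul_comm, mul_nsmul', h, smul_zero, comp_zero]
  exact imageSubobject_le _ (Abelian.monoLift B'.arrow _ hz) (Abelian.monoLift_comp _ _ hz)

lemma comp_coker_image {X : V} (f : X ⟶ B) : f ≫ cokernel.π (imageSubobject f).arrow = 0 := by
  calc f ≫ cokernel.π (imageSubobject f).arrow
      = factorThruImageSubobject f ≫ (imageSubobject f).arrow ≫ cokernel.π (imageSubobject f).arrow := by
        rw [← Category.assoc, imageSubobject_arrow_comp]
    _ = 0 := by rw [cokernel.condition, comp_zero]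

lemma le_image_of_divisible (D : Subobject B) (k : ℕ) (h : Epi (k • 𝟙 (D : V))) :
    D ≤ imageSubobject (k • 𝟙 B) := by
  set I := imageSubobject (k • 𝟙 B)
  have h1 : D.arrow ≫ cokernel.π I.arrow = 0 := by
    rw [← cancel_epi (k • 𝟙 (D : V)), comp_zero, ← Category.assoc, ← nsmul_id_comp, Category.assoc,
      comp_coker_image, comp_zero]
  exact Subobject.le_of_comm (Abelian.monoLift I.arrow _ h1) (Abelian.monoLift_comp _ _ h1)

lemma le_of_divisible_of_killed (D B' : Subobject B) {M : ℕ} (h : M • 𝟙 (cokernel B'.arrow) = 0)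
    (hD : Epi (M • 𝟙 (D : V))) : D ≤ B' :=
  (le_image_of_divisible D M hD).trans (by simpa using factors_mul B' h 1)

lemma killed_cokernel_image (m : ℕ) :
    m • 𝟙 (cokernel (imageSubobject (m • 𝟙 B)).arrow) = 0 := by
  rw [← cancel_epi (cokernel.π (imageSubobject (m • 𝟙 B)).arrow), comp_zero, nsmul_id_comp,
    comp_coker_image]

lemma epi_on_image (m k : ℕ) (h : imageSubobject (m • 𝟙 B) ≤ imageSubobject ((m * k) • 𝟙 B)) :
    Epi (k • 𝟙 ((imageSubobject (m • 𝟙 B) : Subobject B) : V)) := by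
  set I := imageSubobject (m • 𝟙 B)
  set J := imageSubobject ((m * k) • 𝟙 B)
  refine Preadditive.epi_of_cancel_zero _ fun {Z} t ht => ?_
  let p := factorThruImageSubobject (m • 𝟙 B)
  have hJI : J ≤ I := imageSubobject_le _ (p ≫ (k • 𝟙 _)) (by
    rw [Category.assoc, ← nsmul_id_comp, ← Category.assoc, imageSubobject_arrow_comp,
      Preadditive.nsmul_comp, Category.id_comp, ← mul_nsmul, mul_comm])
  have hp : factorThruImageSubobject ((m * k) • 𝟙 B) ≫ Subobject.ofLE J I hJI = p ≫ (k • 𝟙 _) := by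
    rw [← cancel_mono I.arrow, Category.assoc, Subobject.ofLE_arrow, imageSubobject_arrow_comp,
      Category.assoc, ← nsmul_id_comp, ← Category.assoc, imageSubobject_arrow_comp,
      Preadditive.nsmul_comp, Category.id_comp, ← mul_nsmul, mul_comm]
  have : IsIso (Subobject.ofLE J I hJI) := ⟨Subobject.ofLE I J h, by simp, by simp⟩
  have h0 : factorThruImageSubobject ((m * k) • 𝟙 B) ≫ Subobject.ofLE J I hJI ≫ t = 0 := by
    rw [← Category.assoc, hp, Category.assoc, ht, comp_zero]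
  have h1 := (cancel_epi (factorThruImageSubobject ((m * k) • 𝟙 B))).1 (h0.trans comp_zero.symm)
  exact (cancel_epi (Subobject.ofLE J I hJI)).1 (h1.trans comp_zero.symm)

theorem ml_iff :
    ((∀ n : ℕ, 0 < n → ∃ m : ℕ, 0 < m ∧ n ∣ m ∧ ∀ m' : ℕ, 0 < m' → m ∣ m' →
        imageSubobject ((m' / n) • 𝟙 B) = imageSubobject ((m / n) • 𝟙 B)) ↔
      ∃ B' : Subobject B, (∀ k : ℕ, 0 < k → Epi (k • 𝟙 (B' : V))) ∧
        ∃ M : ℕ, 0 < M ∧ M • 𝟙 (cokernel B'.arrow) = 0) := by
  constructor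
  · intro h
    obtain ⟨m, hm, -, heq⟩ := h 1 one_pos
    refine ⟨imageSubobject (m • 𝟙 B), fun k hk => epi_on_image m k ?_, m, hm, killed_cokernel_image m⟩
    have := heq (m * k) (Nat.mul_pos hm hk) (dvd_mul_right m k)
    rw [Nat.div_one, Nat.div_one] at this
    exact this.ge
  · rintro ⟨B', hdiv, M, hM, hkill⟩ n hn
    have key : ∀ j : ℕ, 0 < j → imageSubobject ((M * j) • 𝟙 B) = B' := fun j hj =>
      le_antisymm (factors_mul B' hkill j) (le_image_of_divisible B' _ (hdiv _ (Nat.mul_pos hM hj)))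
    refine ⟨n * M, Nat.mul_pos hn hM, dvd_mul_right n M, fun m' hm' hd => ?_⟩
    obtain ⟨j, rfl⟩ := hd
    have hj : 0 < j := pos_of_mul_pos_right hm' (Nat.zero_le _)
    rw [mul_assoc, Nat.mul_div_cancel_left _ hn, Nat.mul_div_cancel_left _ hn, key j hj]
    simpa using (key 1 one_pos).symm

end Groth.Misc7.NsmulImage
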