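import Groth.Prelude.Def_Omega3
import Mathlib

/-!
# Existence of universal derivations for arbitrary morphisms of schemes
-/

set_option autoImplicit false

universe u

open CategoryTheory Limits AlgebraicGeometry TopologicalSpace Opposite

namespace Groth.Misc7.OmegaExists

variable {X Y : Scheme.{u}} (f : X ⟶ Y)

/-- The subring of `Γ(X, U)` generated by the functions coming from the base. -/
def baseSubring (U : X.Opens) : Subring Γ(X, U) :=
  Subring.closure {x | ∃ (V : Y.Opens) (e : U ≤ f ⁻¹ᵁ V) (s : Γ(Y, V)), f.appLE V U e s = x}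

lemma baseSubring_le {U U' : X.Opensᵒᵖ} (i : U ⟶ U') :
    baseSubring f U.unop ≤ (baseSubring f U'.unop).comap (X.presheaf.map i).hom := by
  refine (Subring.closure_le).mpr ?_
  rintro _ ⟨V, e, s, rfl⟩
  refine Subring.subset_closure ⟨V, (leOfHom i.unop).trans e, s, ?_⟩
  exact (congr($(f.appLE_map e i) s)).symm

/-- The presheaf of these subrings. -/
def basePresheaf : X.Opensᵒᵖ ⥤ CommRingCat.{u} where
  obj U := CommRingCat.of (baseSubring f U.unop)
  map {U U'} i := CommRingCat.ofHom
    (((X.presheaf.map i).hom.comp (baseSubring f U.unop).subtype).codRestrict _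
      fun x => baseSubring_le f i x.2)
  map_id U := by
    refine CommRingCat.hom_ext (RingHom.ext fun x => Subtype.ext ?_)
    change (X.presheaf.map (𝟙 U)).hom (x : Γ(X, U.unop)) = _
    rw [X.presheaf.map_id]; rfl
  map_comp {U U' U''} i j := by
    refine CommRingCat.hom_ext (RingHom.ext fun x => Subtype.ext ?_)
    change (X.presheaf.map (i ≫ j)).hom (x : Γ(X, U.unop)) = _
    rw [X.presheaf.map_comp]; rfl

def baseInclusion : basePresheaf f ⟶ X.presheaf where
  app U := CommRingCat.ofHom (baseSubring f U.unop).subtype
  naturality _ _ _ := rfl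

open PresheafOfModules

/-- The presheaf of differentials. -/
noncomputable abbrev preOmega : PresheafOfModules.{u} (X.presheaf ⋙ forget₂ _ _) :=
  DifferentialsConstruction.relativeDifferentials' (baseInclusion f)

theorem exists_isUniversal :
    ∃ (Ω : X.Modules) (d : OmegaSh.Der f Ω), OmegaSh.IsUniversal d := by
  let P := preOmega f
  let Ω : X.Modules := (PresheafOfModules.sheafification (𝟙 X.ringCatSheaf.obj)).obj P
  let adj := PresheafOfModules.sheafificationAdjunction (𝟙 X.ringCatSheaf.obj)
  let η : P ⟶ Ω.val := adj.unit.app P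
  let d' : Ω.val.Derivation' (baseInclusion f) :=
    (DifferentialsConstruction.derivation' (baseInclusion f)).postcomp η
  let d : OmegaSh.Der f Ω :=
    { d := d'.d
      d_mul := d'.d_mul
      d_map := d'.d_map
      d_app := fun {V} a => by
        refine PresheafOfModules.Derivation'.d_app d' (X := op (f ⁻¹ᵁ V.unop))
          (⟨_, Subring.subset_closure ⟨V.unop, le_rfl, a, ?_⟩⟩ :
            baseSubring f (f ⁻¹ᵁ V.unop))
        rw [Scheme.Hom.appLE_eq_app]; rfl }
  refine ⟨Ω, d, fun F D => ?_⟩
  have hD : ∀ (U : X.Opensᵒᵖ) (a : baseSubring f U.unop),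
      D.d (X := U) (a : Γ(X, U.unop)) = 0 := by
    rintro U ⟨a, ha⟩
    change D.d (X := U) (a : Γ(X, U.unop)) = 0
    induction ha using Subring.closure_induction with
    | mem x hx =>
      obtain ⟨V, e, s, rfl⟩ := hx
      have h := D.d_map (X := op (f ⁻¹ᵁ V)) (Y := U) (homOfLE e).op (f.app V s)
      have h0 : D.d (X := op (f ⁻¹ᵁ V)) (f.app V s) = 0 := D.d_app (X := op V) s
      rw [h0] at h
      exact h.trans (map_zero _)
    | zero => exact map_zero _
    | one => exact D.d_one U
    | add x y _ _ hx hy => rw [map_add, hx, hy, add_zero]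
    | neg x _ hx => rw [map_neg, hx, neg_zero]
    | mul x y _ _ hx hy => rw [D.d_mul, hx, hy, smul_zero, smul_zero, add_zero]
  let D' : F.val.Derivation' (baseInclusion f) :=
    { d := D.d
      d_mul := D.d_mul
      d_map := D.d_map
      d_app := fun {U} a => hD U a }
  let u := DifferentialsConstruction.isUniversal' (baseInclusion f)
  let β : P ⟶ F.val := u.desc D'
  let α : Ω ⟶ F := (adj.homEquiv P F).symm β
  have hα : η ≫ α.val = β := (adj.homEquiv P F).apply_symm_apply β
  have hfac := u.fac D'
  refine ⟨α, ?_, fun γ hγ => ?_⟩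
  · ext U s
    have h1 := congr_fun (congrArg (fun (e : P ⟶ F.val) => fun z => (e.app U).hom z) hα)
      ((DifferentialsConstruction.derivation' (baseInclusion f)).d s)
    exact h1.trans (congr(($hfac).d (X := U) s))
  · refine (adj.homEquiv P F).injective (u.postcomp_injective _ _ ?_)
    refine Eq.trans ?_ ((congrArg
      ((DifferentialsConstruction.derivation' (baseInclusion f)).postcomp)
      (show (adj.homEquiv P F) α = β from (adj.homEquiv P F).apply_symm_apply β)).trans hfac).symm
    ext U s
    exact congr(($hγ).d (X := U) s)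

end Groth.Misc7.OmegaExists
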