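import Mathlib
import Groth.Agent.Misc7.Perfection.Basic
import Groth.Agent.Limits.RelApproxCor
import Groth.Agent.Limits.Existence
import Groth.Agent.GitQuot.GrpdImage

/-!
# Finite type models of compact perfect schemes

A quasi-compact quasi-separated perfect scheme of characteristic `p` is a limit of perfections of
schemes of finite type over `𝔽_p`; if it is compact in the category of perfect schemes, it is a
retract of one of them, hence the perfection of a locally closed subscheme of a finite type stage.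
-/

set_option autoImplicit false

universe u

open CategoryTheory CategoryTheory.Limits AlgebraicGeometry FrobSch Opposite

namespace Groth.Misc7.PerfectModel

variable {p : ℕ} [Fact p.Prime]

theorem isReduced_of_isPerfect (X : Scheme.{u}) [IsCharP X p] [FrobSch.IsPerfect X p] :
    AlgebraicGeometry.IsReduced X := by
  refine ⟨fun U => ⟨fun s ⟨n, hn⟩ => ?_⟩⟩
  apply (Perfection.bijective_pow_pow (p := p) U n).1
  change s ^ p ^ n = 0 ^ p ^ n
  rw [zero_pow (pow_ne_zero _ (Fact.out : p.Prime).ne_zero)]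
  exact pow_eq_zero_of_le (Nat.lt_pow_self (Fact.out : p.Prime).one_lt).le hn

section Tower

variable (X : Scheme.{u}) [IsCharP X p]

theorem inv_frob_comp {Y Z : Scheme.{u}} [IsCharP Y p] [IsCharP Z p] [FrobSch.IsPerfect Y p]
    (f : Y ⟶ Z) : inv (frob Y p) ≫ f ≫ frob Z p = f := by
  rw [← frob_comp (p := p) f, IsIso.inv_hom_id_assoc]

/-- A perfection, with the extra information that it is affine and that maps into it are determined
by the compositions with the `p^n`-th roots. -/
theorem exists_perfection :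
    ∃ (P : Scheme.{u}) (π : P ⟶ X) (_ : IsCharP P p) (_ : FrobSch.IsPerfect P p),
      IsAffineHom π ∧ IsPerfection π p ∧ ∀ (T : Scheme.{u}) (a b : T ⟶ P),
        (∀ ρ : P ⟶ P, (∃ n : ℕ, ρ = (fun r => inv (frob P p) ≫ r)^[n] (𝟙 P)) →
          a ≫ ρ ≫ π = b ≫ ρ ≫ π) → a = b := by
  have hfrobAff : IsAffineHom (frob X p) :=
    ⟨fun U hU => by rw [frob_preimage]; exact hU⟩
  let D₀ : ℕᵒᵖ ⥤ Scheme.{u} :=
    Functor.ofOpSequence (X := fun _ => X) (fun _ => frob X p)
  let e : ULift.{u} ℕ ⥤ ℕ := (Monotone.functor (f := ULift.down) fun _ _ h => h)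
  let D : (ULift.{u} ℕ)ᵒᵖ ⥤ Scheme.{u} := e.op ⋙ D₀
  have : IsDirected (ULift.{u} ℕ) (fun a b => a ≤ b) :=
    ⟨fun a b => ⟨⟨max a.down b.down⟩, le_max_left a.down b.down, le_max_right a.down b.down⟩⟩
  have hD₀ : ∀ (i j : ℕᵒᵖ) (f : i ⟶ j), IsAffineHom (D₀.map f) := by
    have key : ∀ (k m : ℕ) (h : m ≤ m + k), IsAffineHom (D₀.map (homOfLE h).op) := by
      intro k m
      induction k with
      | zero =>
        intro h
        rw [show (homOfLE h).op = 𝟙 (op m) from rfl]
        erw [D₀.map_id]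
        infer_instance
      | succ k ih =>
        intro h
        rw [show (homOfLE h).op = (homOfLE (Nat.le_succ (m + k))).op ≫
          (homOfLE (Nat.le_add_right m k)).op from Subsingleton.elim _ _, D₀.map_comp]
        have := ih (Nat.le_add_right m k)
        have : IsAffineHom (D₀.map (homOfLE (Nat.le_succ (m + k))).op) := by
          rw [Functor.ofOpSequence_map_homOfLE_succ]; exact hfrobAff
        infer_instance
    intro i j f
    obtain ⟨k, hk⟩ := Nat.exists_eq_add_of_le (leOfHom f.unop)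
    obtain ⟨i⟩ := i; obtain ⟨j⟩ := j
    change i = j + k at hk
    subst hk
    exact key k j (leOfHom f.unop)
  have hD : ∀ (i j : (ULift.{u} ℕ)ᵒᵖ) (f : i ⟶ j), IsAffineHom (D.map f) :=
    fun i j f => hD₀ _ _ _
  obtain ⟨c, hc, hca⟩ := Groth.Limits.exists_limit_of_isAffineHom D
  let P := c.pt
  let pr : ℕ → (P ⟶ X) := fun n => c.π.app (op ⟨n⟩)
  have hpr : ∀ n, pr (n + 1) ≫ frob X p = pr n := fun n => by
    have h : c.π.app (op ⟨n + 1⟩) ≫ D₀.map (homOfLE (Nat.le_succ n)).op = c.π.app (op ⟨n⟩) :=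
      c.w (j := op (⟨n + 1⟩ : ULift.{u} ℕ)) (j' := op ⟨n⟩)
        (homOfLE (show (⟨n⟩ : ULift.{u} ℕ) ≤ ⟨n + 1⟩ from Nat.le_succ n)).op
    rw [Functor.ofOpSequence_map_homOfLE_succ] at h
    exact h
  haveI hP : IsCharP P p := IsCharP.of_hom (pr 0) p
  have ext : ∀ {T : Scheme.{u}} (a b : T ⟶ P), (∀ n, a ≫ pr n = b ≫ pr n) → a = b :=
    fun a b h => hc.hom_ext fun n => h n.unop.down
  have lift : ∀ {T : Scheme.{u}} (g : ℕ → (T ⟶ X)), (∀ n, g (n + 1) ≫ frob X p = g n) →
      ∃ l : T ⟶ P, ∀ n, l ≫ pr n = g n := fun {T} g hg => by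
    let t : Cone D₀ :=
      { pt := T
        π := NatTrans.ofOpSequence (fun n => g n) (fun n => by
          rw [Functor.ofOpSequence_map_homOfLE_succ]
          exact (Category.id_comp _).trans (hg n).symm) }
    exact ⟨hc.lift (t.whisker e.op), fun n => hc.fac (t.whisker e.op) (op ⟨n⟩)⟩
  obtain ⟨φ, hφ⟩ := lift (fun n => pr (n + 1)) fun n => hpr (n + 1)
  haveI hperf : FrobSch.IsPerfect P p := by
    refine ⟨φ, ?_, ?_⟩ <;> refine ext _ _ fun n => ?_
    · rw [Category.assoc, hφ, Category.id_comp, frob_comp, hpr]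
    · rw [Category.assoc, frob_comp, reassoc_of% hφ, Category.id_comp, hpr]
  have hinv : inv (frob P p) = φ := by
    refine IsIso.inv_eq_of_hom_inv_id (ext _ _ fun n => ?_)
    rw [Category.assoc, hφ, Category.id_comp, frob_comp, hpr]
  refine ⟨P, pr 0, hP, hperf, hca (op ⟨0⟩), ⟨hperf, fun Y _ hY => ⟨fun a b hab => ?_, fun g => ?_⟩⟩,
    fun T a b h => ext a b fun n => ?_⟩
  · haveI := hY
    refine ext a b fun n => ?_
    induction n with
    | zero => exact hab
    | succ n ih =>
      rw [← inv_frob_comp (p := p) (a ≫ pr (n + 1)), ← inv_frob_comp (p := p) (b ≫ pr (n + 1)),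
        Category.assoc a, Category.assoc b, hpr, ih]
  · haveI := hY
    let gs : ℕ → (Y ⟶ X) := fun n => Nat.rec g (fun _ r => inv (frob Y p) ≫ r) n
    obtain ⟨l, hl⟩ := lift gs fun n => by
      change (inv (frob Y p) ≫ gs n) ≫ frob X p = gs n
      rw [Category.assoc, inv_frob_comp]
    exact ⟨l, hl 0⟩
  · have key : ∀ n, (fun r => inv (frob P p) ≫ r)^[n] (𝟙 P) ≫ pr 0 = pr n := by
      intro n
      induction n with
      | zero => exact Category.id_comp _
      | succ n ih =>
        rw [Function.iterate_succ_apply', Category.assoc, ih, hinv, hφ]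
    have := h _ ⟨n, rfl⟩
    rwa [key] at this

end Tower

theorem exists_factor_of_range_subset {T Z Y : Scheme.{u}} [IsReduced T] (z : Z ⟶ Y) [IsImmersion z]
    (φ : T ⟶ Y) (h : Set.range φ ⊆ Set.range z) : ∃ ψ : T ⟶ Z, ψ ≫ z = φ := by
  have hU : Set.range φ ⊆ Set.range z.coborderRange.ι := by
    rintro _ ⟨t, rfl⟩
    obtain ⟨w, hw⟩ := h ⟨t, rfl⟩
    exact ⟨z.liftCoborder w, by rw [← Scheme.Hom.comp_apply, z.liftCoborder_ι, hw]⟩
  let φ' := IsOpenImmersion.lift z.coborderRange.ι φ hU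
  have hφ' : φ' ≫ z.coborderRange.ι = φ := IsOpenImmersion.lift_fac _ _ _
  obtain ⟨ψ, hψ⟩ := Groth.GrpdImage.exists_factor_of_range_subset z.liftCoborder φ' (by
    rintro _ ⟨t, rfl⟩
    obtain ⟨w, hw⟩ := h ⟨t, rfl⟩
    refine ⟨w, z.coborderRange.ι.injective ?_⟩
    rw [← Scheme.Hom.comp_apply, ← Scheme.Hom.comp_apply, z.liftCoborder_ι, hφ', hw])
  exact ⟨ψ, by rw [← z.liftCoborder_ι, reassoc_of% hψ, hφ']⟩

end Groth.Misc7.PerfectModel
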