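import Groth.Agent.Misc7.PerfectModel

/-!
# A compact perfect scheme has a model of finite presentation over `𝔽_p`
-/

set_option autoImplicit false

universe u

open CategoryTheory CategoryTheory.Limits AlgebraicGeometry FrobSch Opposite TopologicalSpace

namespace Groth.Misc7.PerfectModel

variable {p : ℕ} [Fact p.Prime]

theorem exists_toPrime (X : Scheme.{u}) [IsCharP X p] :
    Nonempty (X ⟶ Spec (CommRingCat.of (ULift.{u} (ZMod p)))) := by
  have χ : Nonempty (ZMod p →+* Γ(X, ⊤)) := by
    rcases subsingleton_or_nontrivial Γ(X, ⊤) with h | h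
    · exact ⟨{ toFun := fun _ => 0, map_one' := Subsingleton.elim _ _,
               map_mul' := fun _ _ => Subsingleton.elim _ _, map_zero' := rfl,
               map_add' := fun _ _ => Subsingleton.elim _ _ }⟩
    · have : CharP Γ(X, ⊤) p :=
        (CharP.charP_iff_prime_eq_zero Fact.out).2 IsCharP.natCast_eq_zero
      exact ⟨ZMod.castHom dvd_rfl _⟩
  obtain ⟨χ⟩ := χ
  exact ⟨X.toSpecΓ ≫ Spec.map (CommRingCat.ofHom (χ.comp ULift.ringEquiv.toRingHom))⟩

theorem exists_locallyClosed_model {X₁ : Scheme.{u}} {E : Set X₁} (hE : IsLocallyClosed E)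
    [IsNoetherian X₁] :
    ∃ (Z : Scheme.{u}) (i : Z ⟶ X₁), IsImmersion i ∧ CompactSpace Z ∧ QuasiSeparatedSpace Z ∧
      Set.range i = E := by
  obtain ⟨U, C, hU, hC, rfl⟩ := hE
  let V : X₁.Opens := ⟨U, hU⟩
  let I : (V : Scheme.{u}).IdealSheafData :=
    Scheme.IdealSheafData.vanishingIdeal ⟨V.ι ⁻¹' C, hC.preimage V.ι.continuous⟩
  have hr : Set.range (I.subschemeι ≫ V.ι) = U ∩ C := by
    rw [Scheme.Hom.comp_base, TopCat.coe_comp, Set.range_comp, Scheme.IdealSheafData.range_subschemeι,
      Scheme.IdealSheafData.coe_support_vanishingIdeal]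
    change V.ι '' (V.ι ⁻¹' C) = _
    rw [Set.image_preimage_eq_inter_range, Scheme.Opens.range_ι, Set.inter_comm]
    rfl
  have : IsLocallyNoetherian I.subscheme := LocallyOfFiniteType.isLocallyNoetherian (I.subschemeι ≫ V.ι)
  refine ⟨_, I.subschemeι ≫ V.ι, inferInstance, ⟨?_⟩, inferInstance, hr⟩
  rw [(I.subschemeι ≫ V.ι).isEmbedding.isInducing.isCompact_iff, Set.image_univ]
  exact NoetherianSpace.isCompact _

/-- A perfect scheme which is a limit is also the limit of the perfections. -/
theorem exists_perfection_limit {I : Type u} [SmallCategory I] (D : I ⥤ Scheme.{u})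
    [∀ i, IsCharP (D.obj i) p] (X : Scheme.{u}) [IsCharP X p] [FrobSch.IsPerfect X p]
    (pX : (Functor.const I).obj X ⟶ D) (hl : IsLimit (Cone.mk X pX)) :
    ∃ (F : I ⥤ Scheme.{u}) (π : ∀ i, F.obj i ⟶ D.obj i) (a : (Functor.const I).obj X ⟶ F)
      (_ : ∀ i, IsCharP (F.obj i) p),
      Nonempty (IsLimit (Cone.mk X a)) ∧ (∀ i, IsAffineHom (π i)) ∧
      (∀ i, FrobSch.IsPerfect (F.obj i) p ∧ IsPerfection (π i) p) ∧
      (∀ (i j : I) (e : i ⟶ j), F.map e ≫ π j = π i ≫ D.map e) ∧
      ∀ i, a.app i ≫ π i = pX.app i := by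
  have hpX : ∀ {i j : I} (e : i ⟶ j), pX.app i ≫ D.map e = pX.app j := fun e =>
    Cone.w (Cone.mk X pX) e
  choose P π hP hperf haff huniv hext using fun i => exists_perfection (p := p) (D.obj i)
  have hex : ∀ {i : I} {T : Scheme.{u}} [IsCharP T p] [FrobSch.IsPerfect T p]
      (g : T ⟶ D.obj i), ∃ l : T ⟶ P i, l ≫ π i = g :=
    fun {i T} _ hT g => ((huniv i).2 T hT).2 g
  have hinj : ∀ {i : I} {T : Scheme.{u}} [IsCharP T p] [FrobSch.IsPerfect T p]
      {l l' : T ⟶ P i}, l ≫ π i = l' ≫ π i → l = l' :=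
    fun {i T} _ hT _ _ h => ((huniv i).2 T hT).1 h
  choose m hm using fun (i j : I) (a : i ⟶ j) => hex (π i ≫ D.map a)
  let F : I ⥤ Scheme.{u} :=
    { obj := P
      map := fun {i j} a => m i j a
      map_id := fun i => hinj (by rw [hm, Category.id_comp, D.map_id, Category.comp_id])
      map_comp := fun {i j k} a b => hinj (by
        rw [hm, Category.assoc, hm, reassoc_of% (hm i j a), D.map_comp]) }
  have hFπ : ∀ {i j : I} (a : i ⟶ j), F.map a ≫ π j = π i ≫ D.map a :=
    fun {i j} a => hm i j a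
  choose a ha using fun i => hex (T := X) (pX.app i)
  let c : Cone F :=
    { pt := X
      π :=
        { app := a
          naturality := fun i j e => by
            refine (Category.id_comp _).trans (hinj ?_)
            rw [Category.assoc, hFπ, reassoc_of% (ha i), ha, hpX] } }
  -- a cone over the perfections gives one over the stages
  let down : Cone F → Cone D := fun s =>
    { pt := s.pt
      π :=
        { app := fun i => s.π.app i ≫ π i
          naturality := fun i j e => by
            change 𝟙 s.pt ≫ s.π.app j ≫ π j = (s.π.app i ≫ π i) ≫ D.map e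
            rw [Category.id_comp, Category.assoc, ← hFπ, s.w_assoc] } }
  have hlfac : ∀ (s : Cone F) (i), hl.lift (down s) ≫ a i ≫ π i = s.π.app i ≫ π i := fun s i => by
    rw [ha]; exact hl.fac (down s) i
  have key : ∀ (n : ℕ) (s : Cone F) (i),
      hl.lift (down s) ≫ a i ≫ (fun r => inv (frob (P i) p) ≫ r)^[n] (𝟙 (P i)) ≫ π i =
        s.π.app i ≫ (fun r => inv (frob (P i) p) ≫ r)^[n] (𝟙 (P i)) ≫ π i := by
    intro n
    induction n with
    | zero =>
      intro s i
      simp only [Function.iterate_zero_apply, Category.id_comp]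
      exact hlfac s i
    | succ n ih =>
      intro s i
      let s' : Cone F :=
        { pt := s.pt
          π :=
            { app := fun j => s.π.app j ≫ inv (frob (P j) p)
              naturality := fun j k e => by
                change 𝟙 s.pt ≫ s.π.app k ≫ inv (frob (P k) p) =
                  (s.π.app j ≫ inv (frob (P j) p)) ≫ F.map e
                rw [Category.id_comp, Category.assoc, IsIso.eq_inv_comp (frob (P j) p) |>.2
                  (show frob (P j) p ≫ (F.map e ≫ inv (frob (P k) p)) = F.map e by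
                    rw [frob_comp_assoc, IsIso.hom_inv_id, Category.comp_id]) |>.symm,
                  s.w_assoc] } }
      have hg : hl.lift (down s') = hl.lift (down s) ≫ inv (frob X p) := by
        rw [IsIso.eq_comp_inv]
        refine hl.hom_ext fun j => ?_
        rw [Category.assoc, frob_comp, ← ha j, ← Category.assoc, hlfac s' j, hlfac s j]
        change ((s.π.app j ≫ inv (frob (P j) p)) ≫ π j) ≫ frob (D.obj j) p = _
        rw [Category.assoc, Category.assoc, inv_frob_comp]
      have h := ih s' i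
      rw [hg] at h
      have hnat : inv (frob X p) ≫ a i = a i ≫ inv (frob (P i) p) := by
        rw [IsIso.inv_comp_eq, frob_comp_assoc, IsIso.hom_inv_id, Category.comp_id]
      simp only [Category.assoc, reassoc_of% hnat, s'] at h
      simp only [Function.iterate_succ_apply', Category.assoc]
      exact h
  have hlim : IsLimit c :=
    { lift := fun s => hl.lift (down s)
      fac := fun s i => hext i _ _ _ fun ρ ⟨n, hn⟩ => by
        rw [hn, Category.assoc]
        exact key n s i
      uniq := fun s g hg => hl.hom_ext fun i => by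
        rw [← ha i, hlfac s i, ← hg i, Category.assoc]
      }
  exact ⟨F, π, c.π, hP, ⟨hlim⟩, haff, fun i => ⟨hperf i, huniv i⟩, fun _ _ e => hFπ e, ha⟩

theorem exists_model (X : Scheme.{u}) [IsCharP X p] [CompactSpace X] [QuasiSeparatedSpace X]
    [FrobSch.IsPerfect X p]
    (hc : ∀ (J : Type u) [SmallCategory J] [IsCofiltered J] (F : J ⥤ Scheme.{u})
      [∀ j, FrobSch.IsCharP (F.obj j) p] (c : Cone F) [FrobSch.IsCharP c.pt p], IsLimit c →
      (∀ ⦃i j : J⦄ (a : i ⟶ j), IsAffineHom (F.map a)) →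
      (∀ j, FrobSch.IsPerfect (F.obj j) p ∧ CompactSpace (F.obj j) ∧
        QuasiSeparatedSpace (F.obj j)) →
      FrobSch.IsPerfect c.pt p → CompactSpace c.pt → QuasiSeparatedSpace c.pt →
      (∀ g : c.pt ⟶ X, ∃ (j : J) (gj : F.obj j ⟶ X), c.π.app j ≫ gj = g)) :
    ∃ (X0 : Scheme.{u}) (s : X0 ⟶ Spec (CommRingCat.of (ULift.{u} (ZMod p))))
      (_ : LocallyOfFinitePresentation s) (_ : CompactSpace X0) (_ : QuasiSeparatedSpace X0)
      (π : X ⟶ X0), FrobSch.IsPerfection π p := by
  obtain ⟨f⟩ := exists_toPrime (p := p) X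
  obtain ⟨R⟩ := Groth.Limits.exists_relSystem f
  haveI : CharP (ULift.{u} (ZMod p)) p := inferInstance
  haveI hch : ∀ i, IsCharP (R.left.obj i) p := fun i => IsCharP.of_hom (R.D.obj i).hom p
  let str : ∀ i, R.left.obj i ⟶ Spec (CommRingCat.of (ULift.{u} (ZMod p))) := fun i => (R.D.obj i).hom
  obtain ⟨F, π, pa, hP, ⟨hlim⟩, haff, hpp, hFπ, ha⟩ :=
    exists_perfection_limit (p := p) R.left X R.leftCone.π R.isLimitLeftCone
  let a : ∀ i, X ⟶ F.obj i := fun i => pa.app i
  let c : Cone F := Cone.mk X pa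
  have hperf := fun i => (hpp i).1
  have huniv := fun i => (hpp i).2
  have hex : ∀ {i : R.Iᵒᵖ} {T : Scheme.{u}} [IsCharP T p] [FrobSch.IsPerfect T p]
      (g : T ⟶ R.left.obj i), ∃ l : T ⟶ F.obj i, l ≫ π i = g :=
    fun {i T} _ hT g => ((huniv i).2 T hT).2 g
  have hinj : ∀ {i : R.Iᵒᵖ} {T : Scheme.{u}} [IsCharP T p] [FrobSch.IsPerfect T p]
      {l l' : T ⟶ F.obj i}, l ≫ π i = l' ≫ π i → l = l' :=
    fun {i T} _ hT _ _ h => ((huniv i).2 T hT).1 h
  haveI : ∀ i, IsCharP (F.obj i) p := hP
  haveI : ∀ i, IsAffineHom (π i) := haff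
  have hFaff : ∀ ⦃i j : R.Iᵒᵖ⦄ (e : i ⟶ j), IsAffineHom (F.map e) := fun i j e => by
    have := R.isAffineHom_left_map e
    have : IsAffineHom (F.map e ≫ π j) := by rw [hFπ]; infer_instance
    exact IsAffineHom.of_comp _ (π j)
  have hF3 : ∀ j, FrobSch.IsPerfect (F.obj j) p ∧ CompactSpace (F.obj j) ∧
      QuasiSeparatedSpace (F.obj j) := fun j => by
    haveI : CompactSpace (R.left.obj j) := R.compact j
    haveI : QuasiSeparated (str j) := R.quasiSeparated j
    haveI : QuasiSeparatedSpace (R.left.obj j) :=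
      quasiSeparatedSpace_of_quasiSeparated (str j)
    exact ⟨hperf j, QuasiCompact.compactSpace_of_compactSpace (π j),
      quasiSeparatedSpace_of_quasiSeparated (π j)⟩
  obtain ⟨j, r, hr⟩ := hc R.Iᵒᵖ F c hlim hFaff hF3 inferInstance inferInstance inferInstance (𝟙 X)
  replace hr : a j ≫ r = 𝟙 X := hr
  haveI : IsImmersion (a j) := by
    have : IsImmersion (a j ≫ r) := by rw [hr]; infer_instance
    exact IsImmersion.of_comp (a j) r
  haveI : IsReduced X := isReduced_of_isPerfect (p := p) X
  haveI : LocallyOfFinitePresentation (str j) := R.locallyOfFinitePresentation j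
  haveI : CompactSpace (R.left.obj j) := R.compact j
  haveI : IsLocallyNoetherian (R.left.obj j) :=
    LocallyOfFiniteType.isLocallyNoetherian (str j)
  haveI : IsNoetherian (R.left.obj j) := {}
  have hh := Perfection.isHomeomorph (huniv j)
  have hbr : IsLocallyClosed (π j '' Set.range (a j)) :=
    (a j).isLocallyClosed_range.image hh.isInducing (by
      rw [hh.surjective.range_eq]; exact isOpen_univ.isLocallyClosed)
  obtain ⟨Z, i, hi, hZc, hZq, hZr⟩ := exists_locallyClosed_model hbr
  obtain ⟨b, hb⟩ := exists_factor_of_range_subset i (a j ≫ π j) (by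
    rw [hZr, Scheme.Hom.comp_base, TopCat.coe_comp, Set.range_comp])
  haveI : LocallyOfFiniteType (i ≫ (str j)) := inferInstance
  refine ⟨Z, i ≫ (str j), ?_, hZc, hZq, b, inferInstance, fun Y _ hY => ⟨fun t t' h => ?_, fun g => ?_⟩⟩
  · rw [HasRingHomProperty.iff_appLE (P := @LocallyOfFinitePresentation)]
    intro U V e
    have := IsLocallyNoetherian.component_noetherian U
    exact RingHom.FinitePresentation.of_finiteType.1
      ((i ≫ (str j)).finiteType_appLE U.2 V.2 e)
  · haveI := hY
    rw [← cancel_mono (a j)]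
    refine hinj ?_
    rw [Category.assoc, Category.assoc, ← hb, reassoc_of% (h : t ≫ b = t' ≫ b)]
  · haveI := hY
    haveI : IsReduced Y := isReduced_of_isPerfect (p := p) Y
    obtain ⟨G, hG⟩ := hex (g ≫ i)
    obtain ⟨t, ht⟩ := exists_factor_of_range_subset (a j) G (by
      rintro _ ⟨y, rfl⟩
      obtain ⟨q, hq, hq'⟩ : π j (G y) ∈ π j '' Set.range (a j) := by
        rw [← hZr]
        exact ⟨g y, by rw [← Scheme.Hom.comp_apply, ← Scheme.Hom.comp_apply, hG]⟩
      rwa [hh.injective hq'] at hq)
    refine ⟨t, ?_⟩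
    change t ≫ b = g
    rw [← cancel_mono i, Category.assoc, hb, reassoc_of% ht, hG]

end Groth.Misc7.PerfectModel
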