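import Mathlib
import Groth.Agent.Misc7.Perfection.Sections
import Groth.Agent.PicAux.Tensor
import Groth.Agent.PicAux.Pullback
import Groth.Agent.PicAux.GenLocusAffine
import Groth.Agent.PicAux.Cocycle
import Groth.Prelude.Def_Pic

/-!
# The Picard group of a perfection

Invertible modules on a perfection descend, and die, up to powers of `p`.
-/

set_option autoImplicit false

universe u

open CategoryTheory AlgebraicGeometry FrobSch TopologicalSpace Groth.PicAux
open Groth.Misc7.Perfection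

namespace Groth.Misc7.PerfectPic

variable {p : ℕ} [Fact p.Prime]

theorem cl_eq_cl_iff {Y : Scheme.{u}} {L L' : Y.Modules} :
    PicF.cl L = PicF.cl L' ↔ Nonempty (L ≅ L') := by
  refine ⟨fun h => ?_, fun h => Quot.sound h⟩
  exact (Equivalence.eqvGen_iff (r := fun A B : Y.Modules => Nonempty (A ≅ B))
    ⟨fun A => ⟨Iso.refl A⟩, fun ⟨e⟩ => ⟨e.symm⟩, fun ⟨e⟩ ⟨e'⟩ => ⟨e ≪≫ e'⟩⟩).1 (Quot.eqvGen_exact h)

/-- Pullback commutes with tensor powers of an invertible module. -/
theorem pullback_tensorPow_iso {X Y : Scheme.{u}} (f : X ⟶ Y) {L : Y.Modules}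
    (hL : PicF.IsInvertible L) (q : ℕ) :
    Nonempty ((Scheme.Modules.pullback f).obj (CohB1.tensorPow L q) ≅
      CohB1.tensorPow ((Scheme.Modules.pullback f).obj L) q) := by
  obtain ⟨U, e, hcov, hxU, he⟩ := exists_gen_cover hL
  have hV : iSup (fun i => f ⁻¹ᵁ U i) = ⊤ :=
    eq_top_iff.2 fun z _ => Opens.mem_iSup.2 ⟨f z, hxU (f z)⟩
  obtain ⟨φ, -⟩ := exists_iso_of_gen hV (fun i => pullSec f _ (powSec (e i) q))
    (fun i => ((he i).pow q).pull f) (fun i => powSec (pullSec f L (e i)) q)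
    (fun i => ((he i).pull f).pow q) fun i j r hr => by
      obtain ⟨r₀, hr₀⟩ := (he j).exists_coeff (inf_le_right : U i ⊓ U j ≤ U j)
        (res L inf_le_left (e i))
      have h1 : r = f.app (U i ⊓ U j) (r₀ ^ q) := by
        refine (((he j).pow q).pull f).smul_inj (f.preimage_mono inf_le_right) (hr.symm.trans ?_)
        erw [res_pullSec f _ inf_le_left (powSec (e i) q)]
        erw [res_pullSec f _ inf_le_right (powSec (e j) q)]
        rw [res_powSec, res_powSec, hr₀, powSec_smul]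
        exact pullSec_smul f _ _ _
      subst h1
      rw [res_powSec, res_powSec, map_pow]
      erw [res_pullSec f L inf_le_left (e i), res_pullSec f L inf_le_right (e j)]
      rw [hr₀, pullSec_smul]
      exact powSec_smul _ _ _
  exact ⟨φ⟩

/-- On a perfect scheme an invertible module with trivial `p`-power is trivial. -/
theorem trivial_of_tensorPow_trivial {Y : Scheme.{u}} [IsCharP Y p] [FrobSch.IsPerfect Y p]
    {M : Y.Modules} (hM : PicF.IsInvertible M) (n : ℕ)
    (h : Nonempty (CohB1.tensorPow M (p ^ n) ≅ Coh.structureModule Y)) :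
    Nonempty (M ≅ Coh.structureModule Y) := by
  obtain ⟨t, ht⟩ := nonempty_iso_structure_iff.1 h
  obtain ⟨U, e, hcov, -, he⟩ := exists_gen_cover hM
  choose a ha using fun i => (ht.res (le_top : U i ≤ ⊤)).exists_unit ((he i).pow (p ^ n))
  choose v hv using fun i => (bijective_pow_pow (p := p) (U i) n).2 (a i : Γ(Y, U i))
  have hvu : ∀ i, IsUnit (v i) := fun i =>
    (isUnit_pow_iff (pow_ne_zero n (Fact.out : p.Prime).ne_zero)).1
      (show IsUnit (v i ^ p ^ n) by rw [show v i ^ p ^ n = _ from hv i]; exact Units.isUnit _)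
  obtain ⟨φ, -⟩ := exists_iso_of_gen hcov e he (fun i => v i • oneSec Y (U i))
    (fun i => (gen_oneSec (U i)).smul_unit (hvu i)) fun i j r hr => by
      rw [res_smul, res_smul, res_oneSec, res_oneSec, smul_smul]
      congr 1
      apply (bijective_pow_pow (p := p) (U i ⊓ U j) n).1
      change resX Y inf_le_left (v i) ^ p ^ n = (r * resX Y inf_le_right (v j)) ^ p ^ n
      rw [mul_pow, ← map_pow, ← map_pow, show v i ^ p ^ n = _ from hv i,
        show v j ^ p ^ n = _ from hv j]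
      refine ht.smul_inj le_top ?_
      have h1 : res _ (inf_le_left : U i ⊓ U j ≤ U i) (powSec (e i) (p ^ n)) =
          r ^ p ^ n • res _ (inf_le_right : U i ⊓ U j ≤ U j) (powSec (e j) (p ^ n)) := by
        rw [res_powSec, res_powSec, hr, powSec_smul]
      rw [ha i, ha j, res_smul, res_smul, res_res, res_res, smul_smul] at h1
      exact h1
  exact ⟨φ⟩

variable {X XP : Scheme.{u}} [IsCharP X p] [IsCharP XP p] {π : XP ⟶ X}

theorem isUnit_of_app (h : IsPerfection π p) {U : X.Opens} (a : Γ(X, U))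
    (ha : IsUnit (π.app U a)) : IsUnit a := by
  refine RingedSpace.isUnit_of_isUnit_germ X.toRingedSpace U a fun y hy => ?_
  obtain ⟨z, rfl⟩ := (surjective h).surj y
  have h1 := ha.map (XP.presheaf.germ (π ⁻¹ᵁ U) z hy).hom
  have h2 : IsUnit ((π.stalkMap z) (X.presheaf.germ U (π z) hy a)) := by
    erw [Scheme.Hom.germ_stalkMap_apply]
    exact h1
  exact (isUnit_map_iff (π.stalkMap z).hom _).1 h2

/-- Sections with equal images have equal `p`-power. -/
theorem exists_pow_eq_of_app_eq (h : IsPerfection π p) {U : X.Opens} (hU : IsCompact (U : Set X))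
    {a b : Γ(X, U)} (hab : π.app U a = π.app U b) : ∃ n : ℕ, a ^ p ^ n = b ^ p ^ n := by
  obtain ⟨n, hn⟩ := nilpotent_of_app_eq_zero h hU (a - b) (by rw [map_sub, hab, sub_self])
  refine ⟨n, ?_⟩
  have h1 := add_pow_char_pow' (natCast_eq_zero_app X p U) (a - b) b n
  rwa [sub_add_cancel, hn, zero_add] at h1

/-- A finite family of exponents can be made uniform. -/
theorem exists_uniform {κ : Type*} [Finite κ] {P : κ → ℕ → Prop}
    (hP : ∀ k m n, m ≤ n → P k m → P k n) (h : ∀ k, ∃ n, P k n) : ∃ N, ∀ k, P k N := by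
  cases nonempty_fintype κ
  choose n hn using h
  exact ⟨Finset.univ.sup n, fun k => hP k _ _ (Finset.le_sup (Finset.mem_univ k)) (hn k)⟩

theorem pow_eq_of_le {A : Type u} [CommRing A] {a b : A} {m n : ℕ} (h : a ^ p ^ m = b ^ p ^ m)
    (hmn : m ≤ n) : a ^ p ^ n = b ^ p ^ n := by
  obtain ⟨k, rfl⟩ := Nat.exists_eq_add_of_le hmn
  rw [pow_add, pow_mul, pow_mul, h]

theorem exists_app_eq_pow_of_le {U : X.Opens} {s : Γ(XP, π ⁻¹ᵁ U)} {m n : ℕ} (hmn : m ≤ n)
    (h : ∃ a : Γ(X, U), π.app U a = s ^ p ^ m) : ∃ a : Γ(X, U), π.app U a = s ^ p ^ n := by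
  obtain ⟨k, rfl⟩ := Nat.exists_eq_add_of_le hmn
  obtain ⟨a, ha⟩ := h
  exact ⟨a ^ p ^ k, by rw [map_pow, ha, ← pow_mul, ← pow_add]⟩

variable [CompactSpace X] [QuasiSeparatedSpace X]

theorem isCompact_inf {U V : X.Opens} (hU : IsCompact (U : Set X)) (hV : IsCompact (V : Set X)) :
    IsCompact ((U ⊓ V : X.Opens) : Set X) :=
  QuasiSeparatedSpace.inter_isCompact _ _ U.2 hU V.2 hV

theorem exists_pow_trivial (h : IsPerfection π p) {L : X.Modules} (hL : PicF.IsInvertible L)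
    (ht : Nonempty ((Scheme.Modules.pullback π).obj L ≅ Coh.structureModule XP)) :
    ∃ n : ℕ, Nonempty (CohB1.tensorPow L (p ^ n) ≅ Coh.structureModule X) := by
  obtain ⟨t, ht⟩ := nonempty_iso_structure_iff.1 ht
  choose U₀ e₀ hU₀ hxU₀ he₀ using exists_affine_gen_mem hL
  obtain ⟨s, hs⟩ := isCompact_univ.elim_finite_subcover (fun x => (U₀ x : Set X))
    (fun x => (U₀ x).2) fun x _ => Set.mem_iUnion.2 ⟨x, hxU₀ x⟩
  let U : s → X.Opens := fun i => U₀ i
  let e : ∀ i : s, Γ(L, U i) := fun i => e₀ i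
  have he : ∀ i, Gen L (U i) (e i) := fun i => he₀ i
  have hUc : ∀ i, IsCompact (U i : Set X) := fun i => (hU₀ i).isCompact
  have hcov : iSup U = ⊤ := eq_top_iff.2 fun x _ => by
    obtain ⟨i, hi, hxi⟩ := Set.mem_iUnion₂.1 (hs (Set.mem_univ x))
    exact Opens.mem_iSup.2 ⟨⟨i, hi⟩, hxi⟩
  choose c hc using fun i => (ht.res (le_top : π ⁻¹ᵁ U i ≤ ⊤)).exists_unit ((he i).pull π)
  obtain ⟨N, hN⟩ := exists_uniform (P := fun i n => ∃ a, π.app (U i) a = (c i : Γ(XP, _)) ^ p ^ n)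
    (fun i m n hmn => exists_app_eq_pow_of_le hmn) fun i => exists_app_eq_pow h (hUc i) _
  choose a ha using hN
  choose r hr using fun i j => (he j).exists_coeff (inf_le_right : U i ⊓ U j ≤ U j)
    (res L inf_le_left (e i))
  obtain ⟨M, hM⟩ := exists_uniform (κ := s × s)
    (P := fun k n => resX X (inf_le_left : U k.1 ⊓ U k.2 ≤ U k.1) (a k.1) ^ p ^ n =
      (r k.1 k.2 ^ p ^ N * resX X inf_le_right (a k.2)) ^ p ^ n)
    (fun k m n hmn h => pow_eq_of_le h hmn) fun ⟨i, j⟩ => by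
      refine exists_pow_eq_of_app_eq h (isCompact_inf (hUc i) (hUc j)) ?_
      have h1 := congrArg (pullSec π L) (hr i j)
      rw [pullSec_smul, ← res_pullSec, ← res_pullSec, hc i, hc j, res_smul, res_smul, res_res,
        res_res, smul_smul] at h1
      have h2 := ht.smul_inj le_top h1
      have hn : ∀ k (hk : U i ⊓ U j ≤ U k) (z : Γ(X, U k)),
          π.app (U i ⊓ U j) (resX X hk z) = resX XP (π.preimage_mono hk) (π.app (U k) z) :=
        fun k hk z => congr($((π.naturality (homOfLE hk).op)) z)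
      rw [map_mul, map_pow, hn i inf_le_left, hn j inf_le_right, ha, ha, map_pow, map_pow, h2,
        mul_pow]
  refine ⟨N + M, ?_⟩
  have hau : ∀ i, IsUnit (a i ^ p ^ M) := fun i =>
    (isUnit_of_app h _ (by rw [ha]; exact (Units.isUnit (c i)).pow _)).pow _
  obtain ⟨φ, -⟩ := exists_iso_of_gen hcov (fun i => powSec (e i) (p ^ (N + M)))
    (fun i => (he i).pow _) (fun i => (a i ^ p ^ M) • oneSec X (U i))
    (fun i => (gen_oneSec (U i)).smul_unit (hau i)) fun i j r' hr' => by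
      have h1 : r' = r i j ^ p ^ (N + M) := by
        refine ((he j).pow _).smul_inj inf_le_right (hr'.symm.trans ?_)
        rw [res_powSec, res_powSec, hr i j, powSec_smul]
      rw [res_smul, res_smul, res_oneSec, res_oneSec, smul_smul]
      congr 1
      rw [map_pow, map_pow, h1, pow_add, pow_mul, ← mul_pow]
      exact hM (i, j)
  exact ⟨φ⟩

theorem exists_descend (h : IsPerfection π p) {M : XP.Modules} (hM : PicF.IsInvertible M) :
    ∃ (n : ℕ) (L : X.Modules), PicF.IsInvertible L ∧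
      Nonempty (CohB1.tensorPow M (p ^ n) ≅ (Scheme.Modules.pullback π).obj L) := by
  have hh := isHomeomorph h
  obtain ⟨W, eW, -, hxW, heW⟩ := exists_gen_cover hM
  choose z hz using (surjective h).surj
  have hnb : ∀ y : X, ∃ U : X.Opens, IsAffineOpen U ∧ y ∈ U ∧ π ⁻¹ᵁ U ≤ W (z y) := by
    intro y
    obtain ⟨_, ⟨U, hU, rfl⟩, hyU, hUW⟩ := X.isBasis_affineOpens.exists_subset_of_mem_open
      (show y ∈ π '' (W (z y) : Set XP) from ⟨z y, hxW _, hz y⟩) (hh.isOpenMap _ (W (z y)).2)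
    refine ⟨U, hU, hyU, fun x hx => ?_⟩
    obtain ⟨x', hx', hxx⟩ := hUW hx
    rwa [hh.injective hxx] at hx'
  choose U₀ hU₀ hxU₀ hUW using hnb
  obtain ⟨s, hs⟩ := isCompact_univ.elim_finite_subcover (fun x => (U₀ x : Set X))
    (fun x => (U₀ x).2) fun x _ => Set.mem_iUnion.2 ⟨x, hxU₀ x⟩
  let U : s → X.Opens := fun i => U₀ i
  have hUc : ∀ i, IsCompact (U i : Set X) := fun i => (hU₀ i).isCompact
  have hcov : iSup U = ⊤ := eq_top_iff.2 fun x _ => by
    obtain ⟨i, hi, hxi⟩ := Set.mem_iUnion₂.1 (hs (Set.mem_univ x))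
    exact Opens.mem_iSup.2 ⟨⟨i, hi⟩, hxi⟩
  have hcov' : iSup (fun i => π ⁻¹ᵁ U i) = ⊤ := eq_top_iff.2 fun x _ => by
    obtain ⟨i, hi⟩ := Opens.mem_iSup.1 (hcov.symm ▸ trivial : π x ∈ iSup U)
    exact Opens.mem_iSup.2 ⟨i, hi⟩
  obtain ⟨e, he⟩ : ∃ e : ∀ i : s, Γ(M, π ⁻¹ᵁ U i), ∀ i, Gen M (π ⁻¹ᵁ U i) (e i) :=
    ⟨fun i => res M (hUW i) (eW (z i)), fun i => (heW _).res (hUW i)⟩
  choose c hc using fun i j =>
    ((he j).res (π.preimage_mono (inf_le_right : U i ⊓ U j ≤ U j))).exists_unit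
      ((he i).res (π.preimage_mono (inf_le_left : U i ⊓ U j ≤ U i)))
  obtain ⟨N, hN⟩ := exists_uniform (κ := s × s)
    (P := fun k n => ∃ a, π.app (U k.1 ⊓ U k.2) a = (c k.1 k.2 : Γ(XP, _)) ^ p ^ n)
    (fun k m n hmn => exists_app_eq_pow_of_le hmn)
    fun k => exists_app_eq_pow h (isCompact_inf (hUc _) (hUc _)) _
  choose a ha using hN
  let T : ∀ i j k, U i ⊓ U j ⊓ U k ≤ U i ⊓ U j := fun i j k => inf_le_left
  obtain ⟨E, hE⟩ := exists_uniform (κ := s × s × s)
    (P := fun x n =>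
      resX X (inf_le_inf_right _ inf_le_left : U x.1 ⊓ U x.2.1 ⊓ U x.2.2 ≤ U x.1 ⊓ U x.2.2)
          (a (x.1, x.2.2)) ^ p ^ n =
        (resX X (inf_le_left : U x.1 ⊓ U x.2.1 ⊓ U x.2.2 ≤ U x.1 ⊓ U x.2.1) (a (x.1, x.2.1)) *
          resX X (inf_le_inf_right _ inf_le_right :
            U x.1 ⊓ U x.2.1 ⊓ U x.2.2 ≤ U x.2.1 ⊓ U x.2.2) (a (x.2.1, x.2.2))) ^ p ^ n)
    (fun k m n hmn h => pow_eq_of_le h hmn) fun ⟨i, j, k⟩ => by
      refine exists_pow_eq_of_app_eq h (isCompact_inf (isCompact_inf (hUc i) (hUc j)) (hUc k)) ?_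
      have hn : ∀ (A B : X.Opens) (hAB : A ≤ B) (z : Γ(X, B)),
          π.app A (resX X hAB z) = resX XP (π.preimage_mono hAB) (π.app B z) :=
        fun A B hAB z => congr($((π.naturality (homOfLE hAB).op)) z)
      dsimp only
      rw [map_mul, hn, hn, hn, ha (i, k), ha (i, j), ha (j, k), map_pow, map_pow, map_pow, ← mul_pow]
      congr 1
      refine (he k).smul_inj (π.preimage_mono inf_le_right) ?_
      have h1 := congrArg (res M (π.preimage_mono (inf_le_inf_right (U k) inf_le_left :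
        U i ⊓ U j ⊓ U k ≤ U i ⊓ U k))) (hc i k)
      have h2 := congrArg (res M (π.preimage_mono (inf_le_left :
        U i ⊓ U j ⊓ U k ≤ U i ⊓ U j))) (hc i j)
      have h3 := congrArg (res M (π.preimage_mono (inf_le_inf_right (U k) inf_le_right :
        U i ⊓ U j ⊓ U k ≤ U j ⊓ U k))) (hc j k)
      rw [res_smul, res_res, res_res] at h1 h2 h3
      rw [← h1, mul_smul, ← h3, ← h2]
  obtain ⟨L, t, htg, hL, hrel⟩ := exists_module_of_cocycle U (fun i j => a (i, j) ^ p ^ E) hcov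
    (fun i j => (isUnit_of_app h _ (by rw [ha]; exact (Units.isUnit (c i j)).pow _)).pow _)
    fun i j k => by
      rw [map_pow, map_pow, map_pow, ← mul_pow]
      exact hE (i, j, k)
  refine ⟨N + E, L, hL, ?_⟩
  obtain ⟨φ, -⟩ := exists_iso_of_gen hcov' (fun i => powSec (e i) (p ^ (N + E)))
    (fun i => (he i).pow _) (fun i => pullSec π L (t i)) (fun i => (htg i).pull π) fun i j r hr => by
      have h1 : r = (show Γ(XP, π ⁻¹ᵁ U i ⊓ π ⁻¹ᵁ U j) from
          (c i j : Γ(XP, π ⁻¹ᵁ (U i ⊓ U j))) ^ p ^ (N + E)) := by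
        refine ((he j).pow _).smul_inj (π.preimage_mono inf_le_right) (hr.symm.trans ?_)
        rw [res_powSec, res_powSec]
        erw [hc i j]
        exact powSec_smul _ _ _
      have h2 := congrArg (pullSec π L) (hrel i j)
      rw [pullSec_smul, ← res_pullSec, ← res_pullSec] at h2
      have key : π.app (U i ⊓ U j) (a (i, j) ^ p ^ E) =
          (c i j : Γ(XP, π ⁻¹ᵁ (U i ⊓ U j))) ^ p ^ (N + E) := by
        rw [map_pow, ha (i, j), ← pow_mul, ← pow_add]
      rw [key] at h2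
      subst h1
      exact h2
  exact ⟨φ⟩

end Groth.Misc7.PerfectPic
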