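import Mathlib

namespace Groth.Misc7.PtDeg2

universe u v

variable {A : Type u} {G : Type v} [AddCommGroup A] [AddCommGroup G]
  {f : A → G}

lemma map_zero' (hf : ∀ x y z : A, f (x + y + z) + f x + f y + f z = f (x + y) + f (x + z) + f (y + z)) :
    f 0 = 0 := by
  have h := hf 0 0 0
  simp only [add_zero] at h
  simpa using h

lemma map_zsmul_succ (hf : ∀ x y z : A, f (x + y + z) + f x + f y + f z = f (x + y) + f (x + z) + f (y + z))
    (n : ℤ) (x : A) :
    f ((n + 1) • x) + f ((n - 1) • x) = f (n • x) + f (n • x) + f x + f (-x) := by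
  have h := hf (n • x) x (-x)
  rw [show n • x + x + -x = n • x by abel, add_neg_cancel, map_zero' hf, add_zero] at h
  rw [h, show (n+1) • x = n • x + x by rw [add_smul, one_smul],
    show (n-1) • x = n • x + -x by rw [sub_smul, one_smul, sub_eq_add_neg]]

lemma two_dvd_mul_succ (n : ℤ) : (2:ℤ) ∣ n * (n + 1) := (Int.even_mul_succ_self n).two_dvd
lemma two_dvd_mul_pred (n : ℤ) : (2:ℤ) ∣ n * (n - 1) := (Int.even_mul_pred_self n).two_dvd

lemma map_zsmul_eq (hf : ∀ x y z : A, f (x + y + z) + f x + f y + f z = f (x + y) + f (x + z) + f (y + z))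
    (n : ℤ) (x : A) :
    f (n • x) = (n * (n + 1) / 2) • f x + (n * (n - 1) / 2) • f (-x) := by
  suffices H : ∀ n : ℤ, f (n • x) = (n * (n + 1) / 2) • f x + (n * (n - 1) / 2) • f (-x) ∧
      f ((n+1) • x) = ((n+1) * (n + 1 + 1) / 2) • f x + ((n+1) * (n + 1 - 1) / 2) • f (-x) from (H n).1
  intro n
  induction n using Int.induction_on with
  | zero => simp [map_zero' hf]
  | succ i ih =>
    refine ⟨ih.2, ?_⟩
    have h := map_zsmul_succ hf ((i:ℤ)+1) x
    rw [add_sub_cancel_right, ih.1, ih.2] at h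
    rw [← eq_sub_iff_add_eq] at h
    rw [h]
    obtain ⟨a, ha⟩ := two_dvd_mul_succ (i:ℤ)
    obtain ⟨b, hb⟩ := two_dvd_mul_pred (i:ℤ)
    have ha' : ((i:ℤ)+1) * (i + 1 + 1) = 2 * (a + i + 1) := by linarith
    have hb' : ((i:ℤ)+1) * (i + 1 - 1) = 2 * a := by linarith
    have ha'' : ((i:ℤ)+1+1) * (i + 1 + 1 + 1) = 2 * (a + 2*i + 3) := by linarith
    have hb'' : ((i:ℤ)+1+1) * (i + 1 + 1 - 1) = 2 * (a + i + 1) := by linarith
    have hab : b = a - i := by linarith
    subst hab
    rw [ha, hb, ha', hb', ha'', hb'']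
    simp only [Int.mul_ediv_cancel_left _ (two_ne_zero : (2:ℤ) ≠ 0)]
    module
  | pred i ih =>
    refine ⟨?_, by simpa [sub_add_cancel] using ih.1⟩
    have h := map_zsmul_succ hf (-(i:ℤ)) x
    rw [ih.1, ih.2, add_comm, ← eq_sub_iff_add_eq] at h
    rw [h]
    obtain ⟨a, ha⟩ := two_dvd_mul_succ (-(i:ℤ))
    obtain ⟨b, hb⟩ := two_dvd_mul_pred (-(i:ℤ))
    have hab : b = a + i := by linarith
    subst hab
    have ha' : (-(i:ℤ)-1) * (-i - 1 + 1) = 2 * (a + i) := by linarith
    have hb' : (-(i:ℤ)-1) * (-i - 1 - 1) = 2 * (a + 2*i + 1) := by linarith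
    have ha'' : (-(i:ℤ)+1) * (-i + 1 + 1) = 2 * (a - i + 1) := by linarith
    have hb'' : (-(i:ℤ)+1) * (-i + 1 - 1) = 2 * a := by linarith
    rw [ha, hb, ha', hb', ha'', hb'']
    simp only [Int.mul_ediv_cancel_left _ (two_ne_zero : (2:ℤ) ≠ 0)]
    module

end Groth.Misc7.PtDeg2

namespace Groth.Misc7.PtDeg2
universe u v
variable {A : Type u} {G : Type v} [AddCommGroup A] [AddCommGroup G]

lemma biadd (f : A → G) (hf : ∀ x y z : A, f (x + y + z) + f x + f y + f z = f (x + y) + f (x + z) + f (y + z))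
    (n : ℤ) (x y : A) : f (n • x + y) - f (n • x) - f y = n • (f (x + y) - f x - f y) := by
  let B : A →+ G := AddMonoidHom.mk' (fun a => f (a + y) - f a - f y) (fun a b => by
    have h := hf a b y
    calc f (a + b + y) - f (a + b) - f y
        = (f (a + b + y) + f a + f b + f y) - f (a+b) - f y - f a - f b - f y := by abel
      _ = _ := by rw [h]; abel)
  exact map_zsmul B n x

lemma zsmul_add_neg_eq_zero (f : A → G) (hf : ∀ x y z : A, f (x + y + z) + f x + f y + f z = f (x + y) + f (x + z) + f (y + z))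
    (n : ℤ) (x : A) (hn : n • x = 0) : n • (f x + f (-x)) = 0 := by
  have h := biadd f hf n x (-x)
  rw [hn, zero_add, map_zero' hf, add_neg_cancel, map_zero' hf, sub_zero, sub_self] at h
  rw [zero_sub, sub_eq_add_neg, ← neg_add, smul_neg, eq_comm, neg_eq_zero] at h
  exact h

end Groth.Misc7.PtDeg2
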