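import Mathlib
import Groth.Agent.Misc14.SmoothLiftRing
import Groth.Agent.VarietyBC.SmoothChart

/-!
# Residue fields of ramified points of curves
-/

set_option linter.style.haveILetI false

universe u

open IsLocalRing

namespace Groth.RamifiedSep

section Core

variable {k A B : Type u} [Field k] [CommRing A] [CommRing B] [IsLocalRing A] [IsLocalRing B]
  [Algebra k A] [Algebra k B] [Algebra A B] [IsScalarTower k A B] [IsLocalHom (algebraMap A B)]

/-- If `B` has cyclic differentials over `k`, is ramified over `A` and its residue field is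
separable over that of `A`, then this residue field is separable over `k`. -/
theorem isSeparable_of_ramified [Module.Finite k (ResidueField B)]
    (hsep : Algebra.IsSeparable (ResidueField A) (ResidueField B))
    (hram : (maximalIdeal A).map (algebraMap A B) ≤ maximalIdeal B ^ 2)
    {t : B} (ht : t ∈ maximalIdeal B) (ht2 : t ∉ maximalIdeal B ^ 2)
    {ω : Ω[B⁄k]} (hω : ∀ η : Ω[B⁄k], ∃ b : B, b • ω = η) :
    Algebra.IsSeparable k (ResidueField B) := by
  by_contra hns
  let C := B ⧸ maximalIdeal B ^ 2
  let ι : ResidueField A →+* C := Ideal.Quotient.lift (maximalIdeal A)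
    ((Ideal.Quotient.mk (maximalIdeal B ^ 2)).comp (algebraMap A B))
    fun a ha => Ideal.Quotient.eq_zero_iff_mem.mpr (hram (Ideal.mem_map_of_mem _ ha))
  letI : Algebra (ResidueField A) C := ι.toAlgebra
  let q : C →ₐ[ResidueField A] ResidueField B :=
    { Ideal.Quotient.lift (maximalIdeal B ^ 2) (residue B) fun b hb =>
        (residue_eq_zero_iff b).mpr (Ideal.pow_le_self two_ne_zero hb) with
      commutes' := fun c => by
        obtain ⟨a, rfl⟩ := residue_surjective c
        rfl }
  have hq : Function.Surjective q := fun c => by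
    obtain ⟨b, rfl⟩ := residue_surjective c
    exact ⟨Ideal.Quotient.mk _ b, rfl⟩
  have hmem : ∀ c : C, q c = 0 → c ∈ (maximalIdeal B).map (Ideal.Quotient.mk (maximalIdeal B ^ 2)) := by
    intro c hc
    obtain ⟨b, rfl⟩ := Ideal.Quotient.mk_surjective c
    exact Ideal.mem_map_of_mem _ ((residue_eq_zero_iff b).mp hc)
  have hnil : IsNilpotent (RingHom.ker (q : C →+* ResidueField B)) := by
    refine ⟨2, le_bot_iff.mp ((Ideal.pow_right_mono (fun c hc => hmem c hc) 2).trans ?_)⟩
    rw [← Ideal.map_pow, Ideal.map_quotient_self]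
  have : Algebra.FormallyEtale (ResidueField A) (ResidueField B) :=
    Algebra.FormallyEtale.of_isSeparable _ _
  let s := Algebra.FormallySmooth.liftOfSurjective (AlgHom.id (ResidueField A) (ResidueField B)) q hq hnil
  have hqs : ∀ c, q (s c) = c := fun c =>
    Algebra.FormallySmooth.liftOfSurjective_apply (AlgHom.id _ _) q hq hnil c
  let D₀ : B →+ C :=
    (Ideal.Quotient.mk (maximalIdeal B ^ 2)).toAddMonoidHom - (s.toRingHom.comp (residue B)).toAddMonoidHom
  have hD₀ : ∀ b, D₀ b = Ideal.Quotient.mk _ b - s (residue B b) := fun b => rfl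
  have hq0 : ∀ b, q (D₀ b) = 0 := fun b => by
    rw [hD₀, map_sub, hqs]
    exact sub_self _
  have hsq : ∀ x y : C, q x = 0 → q y = 0 → x * y = 0 := fun x y hx hy => by
    have h := Ideal.mul_mem_mul (hmem x hx) (hmem y hy)
    rwa [← Ideal.map_mul, ← sq, Ideal.map_quotient_self, Ideal.mem_bot] at h
  have hk : ∀ c : k, D₀ (algebraMap k B c) = 0 := fun c => by
    rw [hD₀, sub_eq_zero, IsScalarTower.algebraMap_apply k A B c]
    exact (s.commutes (residue A (algebraMap k A c))).symm
  have hleib : ∀ a b : B, D₀ (a * b) = a • D₀ b + b • D₀ a := fun a b => by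
    have h0 := hsq _ _ (hq0 a) (hq0 b)
    rw [hD₀, hD₀] at h0
    rw [Algebra.smul_def, Algebra.smul_def, hD₀, hD₀, hD₀, map_mul, map_mul, map_mul]
    show Ideal.Quotient.mk _ a * Ideal.Quotient.mk _ b - s (residue B a) * s (residue B b) =
      Ideal.Quotient.mk _ a * (Ideal.Quotient.mk _ b - s (residue B b)) +
        Ideal.Quotient.mk _ b * (Ideal.Quotient.mk _ a - s (residue B a))
    linear_combination -h0
  let Dl : B →ₗ[k] C :=
    { toFun := D₀
      map_add' := map_add D₀
      map_smul' := fun c b => by
        rw [Algebra.smul_def c b, hleib, hk, smul_zero, add_zero, RingHom.id_apply,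
          algebraMap_smul] }
  let D : Derivation k B C := Derivation.mk' Dl hleib
  let L := D.liftKaehlerDifferential
  have hL : ∀ η, q (L η) = 0 := by
    intro η
    have hη : η ∈ Submodule.span B (Set.range (KaehlerDifferential.D k B)) := by
      rw [KaehlerDifferential.span_range_derivation]; trivial
    induction hη using Submodule.span_induction with
    | mem x hx =>
      obtain ⟨b, rfl⟩ := hx
      rw [Derivation.liftKaehlerDifferential_comp_D]
      exact hq0 b
    | zero => rw [map_zero, map_zero]
    | add x y _ _ hx hy => rw [map_add, map_add, hx, hy, add_zero]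
    | smul b x _ hx =>
      rw [map_smul, Algebra.smul_def, map_mul, hx, mul_zero]
  -- the differential of the residue field
  have : Nontrivial Ω[ResidueField B⁄k] := by
    by_contra hn
    rw [not_nontrivial_iff_subsingleton] at hn
    have : Algebra.FormallyUnramified k (ResidueField B) := ⟨hn⟩
    exact hns ((Algebra.FormallyUnramified.iff_isSeparable k (ResidueField B)).mp this)
  let P := KaehlerDifferential.map k k B (ResidueField B)
  have hP : Function.Surjective P :=
    KaehlerDifferential.map_surjective_of_surjective k k B (ResidueField B) residue_surjective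
  have hPω : P ω ≠ 0 := fun h0 => by
    refine not_subsingleton Ω[ResidueField B⁄k] (subsingleton_of_forall_eq 0 fun η => ?_)
    obtain ⟨η, rfl⟩ := hP η
    obtain ⟨b, rfl⟩ := hω η
    rw [map_smul, h0, smul_zero]
  obtain ⟨b, hb⟩ := hω (KaehlerDifferential.D k B t)
  have hbm : b ∈ maximalIdeal B := by
    by_contra hbu
    rw [mem_maximalIdeal, mem_nonunits_iff, not_not] at hbu
    have h1 : P (KaehlerDifferential.D k B t) = 0 := by
      rw [KaehlerDifferential.map_D]
      show KaehlerDifferential.D k (ResidueField B) (residue B t) = 0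
      rw [(residue_eq_zero_iff t).mpr ht, map_zero]
    rw [← hb, map_smul] at h1
    obtain ⟨v, rfl⟩ := hbu
    refine hPω ?_
    have h2 := congrArg (fun z => ((v⁻¹ : Bˣ) : B) • z) h1
    simpa [smul_smul] using h2
  refine ht2 ?_
  have h3 : D t = 0 := by
    rw [← Derivation.liftKaehlerDifferential_comp_D D t, ← hb, map_smul, Algebra.smul_def]
    exact hsq _ _ ((residue_eq_zero_iff b).mpr hbm) (hL ω)
  have h4 : D₀ t = 0 := h3
  rw [hD₀, (residue_eq_zero_iff t).mpr ht, map_zero, sub_zero, Ideal.Quotient.eq_zero_iff_mem] at h4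
  exact h4

end Core

section Chart

/-- At a closed point of a smooth algebra of relative dimension one over a field, the maximal ideal
of the local ring is nonzero and the differentials are cyclic. -/
theorem exists_of_isStandardSmooth {k R : Type u} [Field k] [CommRing R] [Algebra k R]
    (p : Ideal R) [p.IsMaximal] (t : R) (ht : t ∉ p)
    (hst : Algebra.IsStandardSmoothOfRelativeDimension 1 k (Localization.Away t)) :
    (∃ ω : Ω[Localization.AtPrime p⁄k], ∀ η, ∃ b : Localization.AtPrime p, b • ω = η) ∧
      maximalIdeal (Localization.AtPrime p) ≠ ⊥ := by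
  refine ⟨?_, ?_⟩
  · obtain ⟨bs⟩ := Groth.SmoothLift.nonempty_basis_of_isStandardSmooth p 1 t ht hst
    exact ⟨bs 0, fun η => ⟨bs.repr η 0, by simpa using bs.sum_repr η⟩⟩
  · intro hbot
    set Rt := Localization.Away t
    obtain ⟨g, hg⟩ := hst.exists_etale_mvPolynomial (n := 1) (R := k) (S := Rt)
    have hdis : Disjoint (Submonoid.powers t : Set R) p :=
      (Ideal.disjoint_powers_iff_notMem t (Ideal.IsPrime.isRadical ‹p.IsMaximal›.isPrime)).mpr ht
    set q := p.map (algebraMap R Rt)
    have hq : q.IsPrime := IsLocalization.isPrime_of_isPrime_disjoint (.powers t) Rt p inferInstance hdis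
    have hqp : q.comap (algebraMap R Rt) = p :=
      IsLocalization.comap_map_of_isPrime_disjoint (.powers t) Rt inferInstance hdis
    haveI : Algebra.IsStandardSmooth k Rt := hst.isStandardSmooth
    haveI : Algebra.FiniteType k Rt := inferInstance
    have hqmax : q.IsMaximal := by
      refine ⟨⟨hq.ne_top, fun J hJ => ?_⟩⟩
      by_contra hJt
      obtain ⟨M, hM, hJM⟩ := Ideal.exists_le_maximal J hJt
      have : p ≤ M.comap (algebraMap R Rt) := hqp ▸ Ideal.comap_mono (hJ.le.trans hJM)
      have heq : M.comap (algebraMap R Rt) = p :=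
        (‹p.IsMaximal›.eq_of_le (Ideal.comap_ne_top _ hM.ne_top) this).symm
      have hMq : M = q := by
        rw [← IsLocalization.map_comap (.powers t) Rt M]
        exact congrArg (Ideal.map (algebraMap R Rt)) heq
      exact hJ.not_ge (hJM.trans hMq.le)
    letI : Field (Rt ⧸ q) := Ideal.Quotient.field q
    have : Algebra.IsAlgebraic k (Rt ⧸ q) := by
      have : Module.Finite k (Rt ⧸ q) := finite_of_finite_type_of_isJacobsonRing k (Rt ⧸ q)
      infer_instance
    let a : Rt ⧸ q := Ideal.Quotient.mkₐ k q (g (MvPolynomial.X 0))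
    obtain ⟨f, hf0, hfa⟩ := (Algebra.IsAlgebraic.isAlgebraic (R := k) a)
    let P : MvPolynomial (Fin 1) k := Polynomial.aeval (MvPolynomial.X 0) f
    have hP0 : P ≠ 0 := fun h =>
      hf0 ((transcendental_iff_injective.mp (MvPolynomial.transcendental_X k 0)) (h.trans (map_zero _).symm))
    have hgq : g P ∈ q := by
      rw [← Ideal.Quotient.eq_zero_iff_mem]
      show Ideal.Quotient.mkₐ k q (g (Polynomial.aeval (MvPolynomial.X 0) f)) = 0
      rw [← Polynomial.aeval_algHom_apply, ← Polynomial.aeval_algHom_apply]
      exact hfa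
    algebraize [g.toRingHom]
    haveI : Algebra.Etale (MvPolynomial (Fin 1) k) Rt := hg
    haveI : Module.Flat (MvPolynomial (Fin 1) k) Rt := inferInstance
    have hreg : ∀ z : Rt, g P * z = 0 → z = 0 := fun z hz => by
      have h1 : IsSMulRegular (MvPolynomial (Fin 1) k) P := fun x y h => mul_left_cancel₀ hP0 h
      refine (h1.of_flat (S := Rt)) ?_
      show algebraMap (MvPolynomial (Fin 1) k) Rt P * z = algebraMap (MvPolynomial (Fin 1) k) Rt P * 0
      rw [mul_zero]
      exact hz
    obtain ⟨r, n, hr⟩ : ∃ (r : R) (n : ℕ), g P * algebraMap R Rt (t ^ n) = algebraMap R Rt r := by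
      obtain ⟨⟨r, ⟨_, n, rfl⟩⟩, h⟩ := IsLocalization.surj (Submonoid.powers t) (g P)
      exact ⟨r, n, h⟩
    have hrp : r ∈ p := by
      rw [← hqp, Ideal.mem_comap, ← hr]
      exact q.mul_mem_right _ hgq
    have hr0 : algebraMap R (Localization.AtPrime p) r ∈ maximalIdeal (Localization.AtPrime p) :=
      (IsLocalization.AtPrime.to_map_mem_maximal_iff (Localization.AtPrime p) p r).mpr hrp
    rw [hbot, Ideal.mem_bot, IsLocalization.map_eq_zero_iff p.primeCompl] at hr0
    obtain ⟨⟨u, hu⟩, hur⟩ := hr0
    have h5 := hreg (algebraMap R Rt (t ^ n * u)) (by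
      rw [map_mul, ← mul_assoc, hr, ← map_mul, mul_comm r u]
      simp only at hur
      rw [hur, map_zero])
    refine hu ?_
    have h6 : algebraMap R Rt (t ^ n * u) ∈ q := by rw [h5]; exact zero_mem _
    rw [← Ideal.mem_comap, hqp] at h6
    exact ((‹p.IsMaximal›.isPrime.mem_or_mem h6).resolve_left fun h =>
      ht (‹p.IsMaximal›.isPrime.mem_of_pow_mem n h))

end Chart

end Groth.RamifiedSep
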