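import Groth.Agent.Misc7.OmegaExists
import Groth.Agent.OmegaSheaf.Conormal
import Groth.Agent.OmegaSheaf.ConormalDiff
import Groth.Agent.OmegaSheaf.ConormalSmooth
import Groth.Agent.OmegaSheaf.ConormalTriangle
import Groth.Agent.OmegaSheaf.Pull
import Groth.Agent.OmegaSheaf.Smooth
import Groth.Agent.KoszulLCI.ConormalFree
import Groth.Agent.KoszulLCI.Kinds
import Groth.Agent.KoszulLCI.SchemeBaseChange
import Groth.Agent.LocFree.Basic
import Groth.Agent.LocFree.SES
import Groth.Agent.KTheory.Basic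
import Groth.Agent.S8656
import Groth.Prelude.Def_KRR
import Mathlib

/-!
# The virtual cotangent class does not depend on the factorisation
-/

set_option autoImplicit false

universe u

open CategoryTheory Limits AlgebraicGeometry TopologicalSpace Opposite ZeroObject

namespace Groth.Misc7.VirtualCotangent

open Groth.OmegaSheaf

/-- The differentials of a smooth morphism are finite locally free, for any receptacle. -/
theorem isFinLocFree_of_isUniversal {X Y : Scheme.{u}} (g : X ⟶ Y) [Smooth g] {Ω : X.Modules}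
    {d : OmegaSh.Der g Ω} (hd : OmegaSh.IsUniversal d) : FlatMod.IsFinLocFree Ω := by
  have := isQCoh_of_isUniversal hd
  rw [Groth.KTheory.LocFree.isFinLocFree_iff]
  intro x
  obtain ⟨U, hU, V, hV, hxV, e, h⟩ := Smooth.exists_isStandardSmooth g x
  let _ := chartAlg g e
  have hs : Algebra.IsStandardSmooth Γ(Y, U) Γ(X, V) := h
  have := nontrivial_sections hxV
  have : Module.Finite Γ(X, V) Ω[Γ(X, V)⁄Γ(Y, U)] := inferInstance
  let b := (Module.finBasis Γ(X, V) Ω[Γ(X, V)⁄Γ(Y, U)]).map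
    (universalChartEquiv hd ⟨V, U, hV, hU, e⟩)
  exact ⟨V, _, b, hxV, Groth.KTheory.LocFree.basis'_of_affine hV b
    ((funext fun r ↦ b.equivFun_symm_apply r) ▸ b.equivFun.symm.bijective)⟩

theorem finrank_stalk_iso {X : Scheme.{u}} {A B : X.Modules} (e : A ≅ B) (x : X) :
    Module.finrank (X.presheaf.stalk x) (A.presheaf.stalk x) =
      Module.finrank (X.presheaf.stalk x) (B.presheaf.stalk x) :=
  (LinearEquiv.ofBijective (Groth.KTheory.LocFree.stalkₗ e.hom x)
    (ConcreteCategory.bijective_of_isIso ((Groth.QCohMod.stalk x).map e.hom))).finrank_eq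

open Groth.PicAux Groth.KTheory.LocFree in
/-- The rank on an open neighbourhood computes the rank of the stalk. -/
theorem finrank_stalk_of_rank_restrict {X : Scheme.{u}} {M : X.Modules}
    (hM : FlatMod.IsFinLocFree M) {U : X.Opens} {x : X} (hx : x ∈ U) {a : ℕ}
    (ha : FlatMod.IsFinLocFreeOfRank a ((Scheme.Modules.restrictFunctor U.ι).obj M)) :
    Module.finrank (X.presheaf.stalk x) (M.presheaf.stalk x) = a := by
  obtain ⟨W₀, n, s₀, hxW₀, hs₀⟩ := exists_basis_of_isFinLocFree hM x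
  have := Groth.KTheory.LocFree.isQCoh hM
  rw [Groth.LocFree.finrank_stalk_of_basis hs₀ hxW₀]
  obtain ⟨W, hW, hxW⟩ : ∃ W : X.Opens, W ≤ W₀ ⊓ U ∧ x ∈ W := ⟨_, le_rfl, hxW₀, hx⟩
  have hs := hs₀.res' (hW.trans inf_le_left)
  generalize (fun i => res M (hW.trans inf_le_left) (s₀ i)) = s at hs
  let MU := (Scheme.Modules.restrictFunctor U.ι).obj M
  have : MU.IsQuasicoherent :=
    Groth.KTheory.LocFree.isQCoh (Groth.LocFree.isFinLocFree_of_rank ha)
  let t : Fin n → Γ(MU, U.ι ⁻¹ᵁ W) := fun i =>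
    (res M (U.ι.image_preimage_le W) (s i) : Γ(M, U.ι ''ᵁ (U.ι ⁻¹ᵁ W)))
  have ht : Basis' MU (U.ι ⁻¹ᵁ W) t := by
    intro V hV
    have hV' : U.ι ''ᵁ V ≤ W := (U.ι.image_mono hV).trans (U.ι.image_preimage_le W)
    refine (Eq.mpr (congrArg Function.Bijective (funext fun r => ?_)) (hs _ hV'))
    refine Finset.sum_congr rfl fun i _ => ?_
    have e : res MU hV (t i) = res M hV' (s i) :=
      res_res (M := M) (U.ι.image_preimage_le W) (U.ι.image_mono hV) (s i)
    rw [e]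
    exact restrict_smul U V _ _
  have hxU : (⟨x, hx⟩ : U.toScheme) ∈ U.ι ⁻¹ᵁ W := hxW
  exact (Groth.LocFree.finrank_stalk_of_basis ht hxU).symm.trans
    (Groth.LocFree.finrank_stalk ha _)

/-- The conormal sheaf of a closed immersion into a smooth scheme of an lci morphism is finite
locally free. -/
theorem isFinLocFree_conormal {X Y V : Scheme.{u}} (f : X ⟶ Y)
    (hf : ∀ x : X, Synt.IsKoszulAt f x) (g : V ⟶ Y) [Smooth g] (i : X ⟶ V) [IsClosedImmersion i]
    (hi : i ≫ g = f) : FlatMod.IsFinLocFree (Omega.conormal i) := by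
  obtain ⟨-, h⟩ := Groth.Agent.S8656.result f hf g i hi
  refine Groth.KoszulLCI.isFinLocFree_conormal i fun z => ?_
  obtain ⟨U, hz, hci, rs, hrs, hker⟩ := h z
  exact ⟨U, hz, hci, rs, Groth.KoszulLCI.seq_h1_of_koszul hrs, hker⟩

/-- For a smooth `p` and closed immersions `j`, `j ≫ p`, the sequence
`0 → N_{j ≫ p} → N_j → j^*Ω_p → 0`. -/
theorem exists_shortExact {X W V : Scheme.{u}} (p : W ⟶ V) [Smooth p] (j : X ⟶ W)
    [IsClosedImmersion j] (i : X ⟶ V) [IsClosedImmersion i] (hji : j ≫ p = i)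
    {Ω : W.Modules} {d : OmegaSh.Der p Ω} (hd : OmegaSh.IsUniversal d) :
    ∃ S : ShortComplex X.Modules, S.ShortExact ∧ Nonempty (S.X₁ ≅ Omega.conormal i) ∧
      S.X₂ = Omega.conormal j ∧ S.X₃ = (Scheme.Modules.pullback j).obj Ω := by
  subst hji
  obtain ⟨ψ, hψ, -⟩ :=
    existsUnique_isConormalMap j (j ≫ p) p (𝟙 X) (Category.id_comp _)
  obtain ⟨φ, hφ, -⟩ := existsUnique_isConormalDiff (i := j) (d := d)
  have w := conormalMap_comp_conormalDiff hψ hφ
  have : Mono ψ := conormalMap_mono hψ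
  have : Epi φ := conormalDiff_epi hd hφ
  exact ⟨.mk ψ φ w, ⟨conormalMap_exact hd hψ hφ w⟩,
    ⟨(Scheme.Modules.pullbackId X).app _⟩, rfl, rfl⟩

/-- The same, with the differentials of `p` replaced by a pullback of the differentials of a
morphism of which `p` is an open part of a base change. -/
theorem exists_shortExact_baseChange {X Y V V' P : Scheme.{u}} {g : V ⟶ Y} {g' : V' ⟶ Y}
    {q : P ⟶ V} {q' : P ⟶ V'} (sq : IsPullback q' q g' g) [Smooth g'] (W : P.Opens)
    (j : X ⟶ W.toScheme) [IsClosedImmersion j] (i : X ⟶ V) [IsClosedImmersion i]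
    (hji : j ≫ W.ι ≫ q = i) (i' : X ⟶ V') (hji' : j ≫ W.ι ≫ q' = i')
    {Ω' : V'.Modules} {d' : OmegaSh.Der g' Ω'} (hd' : OmegaSh.IsUniversal d') :
    ∃ S : ShortComplex X.Modules, S.ShortExact ∧ Nonempty (S.X₁ ≅ Omega.conormal i) ∧
      S.X₂ = Omega.conormal j ∧ Nonempty (S.X₃ ≅ (Scheme.Modules.pullback i').obj Ω') := by
  have : Smooth q := MorphismProperty.of_isPullback sq inferInstance
  obtain ⟨Ωq, dq, hdq⟩ := Groth.Misc7.OmegaExists.exists_isUniversal q
  obtain ⟨e⟩ := nonempty_pullback_iso sq hd' hdq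
  obtain ⟨S, hS, h₁, h₂, h₃⟩ := exists_shortExact (W.ι ≫ q) j i hji
    (isUniversal_restrictDer hdq W)
  refine ⟨S, hS, h₁, h₂, ⟨eqToIso h₃ ≪≫ (Scheme.Modules.pullback j).mapIso
    ((Scheme.Modules.restrictFunctorIsoPullback W.ι).app Ωq ≪≫
      (Scheme.Modules.pullback W.ι).mapIso e.symm ≪≫
      (Scheme.Modules.pullbackComp W.ι q').app Ω') ≪≫
    (Scheme.Modules.pullbackComp j (W.ι ≫ q')).app Ω' ≪≫
    (Scheme.Modules.pullbackCongr hji').app Ω'⟩⟩

section Main

variable {X Y V V' : Scheme.{u}} (f : X ⟶ Y) (g : V ⟶ Y) [Smooth g] (i : X ⟶ V)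
  [IsClosedImmersion i] (hi : i ≫ g = f) (g' : V' ⟶ Y) [Smooth g'] (i' : X ⟶ V')
  [IsClosedImmersion i'] (hi' : i' ≫ g' = f)
  {Ω : V.Modules} {d : OmegaSh.Der g Ω} (hd : OmegaSh.IsUniversal d)
  {Ω' : V'.Modules} {d' : OmegaSh.Der g' Ω'} (hd' : OmegaSh.IsUniversal d')

include hi hi' hd hd'

/-- Comparison of two factorisations through a common refinement. -/
theorem exists_two_shortExact :
    ∃ (N : X.Modules) (S S' : ShortComplex X.Modules), S.ShortExact ∧ S'.ShortExact ∧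
      S.X₂ = N ∧ S'.X₂ = N ∧
      Nonempty (S.X₁ ≅ Omega.conormal i) ∧
      Nonempty (S.X₃ ≅ (Scheme.Modules.pullback i').obj Ω') ∧
      Nonempty (S'.X₁ ≅ Omega.conormal i') ∧
      Nonempty (S'.X₃ ≅ (Scheme.Modules.pullback i).obj Ω) := by
  let k : X ⟶ pullback g g' := pullback.lift i i' (hi.trans hi'.symm)
  have hk : k ≫ pullback.fst g g' = i := pullback.lift_fst _ _ _
  have hk' : k ≫ pullback.snd g g' = i' := pullback.lift_snd _ _ _
  have : IsImmersion (k ≫ pullback.fst g g') := by rw [hk]; infer_instance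
  have : IsImmersion k := IsImmersion.of_comp k (pullback.fst g g')
  let W := k.coborderRange
  have h1 : k.liftCoborder ≫ W.ι ≫ pullback.fst g g' = i := by
    rw [← Category.assoc, Scheme.Hom.liftCoborder_ι, hk]
  have h2 : k.liftCoborder ≫ W.ι ≫ pullback.snd g g' = i' := by
    rw [← Category.assoc, Scheme.Hom.liftCoborder_ι, hk']
  obtain ⟨S, hS, a₁, a₂, a₃⟩ := exists_shortExact_baseChange
    (IsPullback.of_hasPullback g g').flip W k.liftCoborder i h1 i' h2 hd'
  obtain ⟨S', hS', b₁, b₂, b₃⟩ := exists_shortExact_baseChange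
    (IsPullback.of_hasPullback g g') W k.liftCoborder i' h2 i h1 hd
  exact ⟨_, S, S', hS, hS', a₂, b₂, a₁, a₃, b₁, b₃⟩

theorem cl_add_cl_eq (hf : ∀ x : X, Synt.IsKoszulAt f x) :
    KRR.cl X ((Scheme.Modules.pullback i').obj Ω') + KRR.cl X (Omega.conormal i) =
      KRR.cl X ((Scheme.Modules.pullback i).obj Ω) + KRR.cl X (Omega.conormal i') := by
  obtain ⟨N, S, S', hS, hS', hN, hN', ⟨a₁⟩, ⟨a₃⟩, ⟨b₁⟩, ⟨b₃⟩⟩ :=
    exists_two_shortExact f g i hi g' i' hi' hd hd'
  have h₁ := isFinLocFree_conormal f hf g i hi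
  have h₁' := isFinLocFree_conormal f hf g' i' hi'
  have hΩ := Groth.LocFree.isFinLocFree_pullback i (isFinLocFree_of_isUniversal g hd)
  have hΩ' := Groth.LocFree.isFinLocFree_pullback i' (isFinLocFree_of_isUniversal g' hd')
  have p₁ := Groth.KTheory.LocFree.isFinLocFree_of_iso a₁.symm h₁
  have p₃ := Groth.KTheory.LocFree.isFinLocFree_of_iso a₃.symm hΩ'
  have q₁ := Groth.KTheory.LocFree.isFinLocFree_of_iso b₁.symm h₁'
  have q₃ := Groth.KTheory.LocFree.isFinLocFree_of_iso b₃.symm hΩ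
  have p₂ := Groth.KTheory.LocFree.isFinLocFree_of_shortExact hS p₁ p₃
  have q₂ := Groth.KTheory.LocFree.isFinLocFree_of_shortExact hS' q₁ q₃
  have e₁ := Groth.KTheory.clSub_rel (P := KRR.vbP X) S hS p₁ p₂ p₃
  have e₂ := Groth.KTheory.clSub_rel (P := KRR.vbP X) S' hS' q₁ q₂ q₃
  have hz : IsZero (0 : X.Modules) := isZero_zero _
  have hPz : KRR.vbP X (0 : X.Modules) := Groth.KTheory.LocFree.isFinLocFree_zero hz
  have iso : ∀ {A B : X.Modules} (e : A ≅ B), FlatMod.IsFinLocFree A → FlatMod.IsFinLocFree B →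
      KRR.cl X A = KRR.cl X B := fun e hA hB =>
    Groth.KTheory.clSub_iso (P := KRR.vbP X) e hA hB hz hPz
  rw [← iso a₃ p₃ hΩ', ← iso a₁ p₁ h₁, ← iso b₃ q₃ hΩ, ← iso b₁ q₁ h₁']
  rw [hN] at e₁
  rw [hN'] at e₂
  rw [add_comm, ← e₁, add_comm, ← e₂]

theorem finrank_stalk_add_eq (hf : ∀ x : X, Synt.IsKoszulAt f x) (x : X) :
    Module.finrank (X.presheaf.stalk x) ((Omega.conormal i).presheaf.stalk x) +
      Module.finrank (X.presheaf.stalk x) (((Scheme.Modules.pullback i').obj Ω').presheaf.stalk x) =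
    Module.finrank (X.presheaf.stalk x) ((Omega.conormal i').presheaf.stalk x) +
      Module.finrank (X.presheaf.stalk x) (((Scheme.Modules.pullback i).obj Ω).presheaf.stalk x) := by
  obtain ⟨N, S, S', hS, hS', hN, hN', ⟨a₁⟩, ⟨a₃⟩, ⟨b₁⟩, ⟨b₃⟩⟩ :=
    exists_two_shortExact f g i hi g' i' hi' hd hd'
  have h₁ := isFinLocFree_conormal f hf g i hi
  have h₁' := isFinLocFree_conormal f hf g' i' hi'
  have hΩ := Groth.LocFree.isFinLocFree_pullback i (isFinLocFree_of_isUniversal g hd)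
  have hΩ' := Groth.LocFree.isFinLocFree_pullback i' (isFinLocFree_of_isUniversal g' hd')
  have e₁ := Groth.LocFree.finrank_stalk_add hS
    (Groth.KTheory.LocFree.isFinLocFree_of_iso a₁.symm h₁)
    (Groth.KTheory.LocFree.isFinLocFree_of_iso a₃.symm hΩ') x
  have e₂ := Groth.LocFree.finrank_stalk_add hS'
    (Groth.KTheory.LocFree.isFinLocFree_of_iso b₁.symm h₁')
    (Groth.KTheory.LocFree.isFinLocFree_of_iso b₃.symm hΩ) x
  rw [hN] at e₁
  rw [hN'] at e₂
  rw [finrank_stalk_iso a₁ x, finrank_stalk_iso a₃ x] at e₁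
  rw [finrank_stalk_iso b₁ x, finrank_stalk_iso b₃ x] at e₂
  omega

end Main

end Groth.Misc7.VirtualCotangent
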