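import Groth.Agent.Misc7.VirtualCotangent
import Groth.Agent.KoszulLCI.ConormalShortExact
import Groth.Agent.S9372
import Groth.Agent.S8661
import Mathlib

/-!
# Virtual relative dimensions add under composition
-/

set_option autoImplicit false

universe u

open CategoryTheory Limits AlgebraicGeometry TopologicalSpace Opposite

namespace Groth.Misc7.VirtualCotangent

open Groth.OmegaSheaf

/-- The rank of a finite locally free module at a stalk. -/
noncomputable abbrev rkAt {X : Scheme.{u}} (M : X.Modules) (x : X) : ℕ :=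
  Module.finrank (X.presheaf.stalk x) (M.presheaf.stalk x)

open Groth.PicAux Groth.KTheory.LocFree in
/-- The rank of a pullback. -/
theorem finrank_stalk_pullback' {X Y : Scheme.{u}} (f : X ⟶ Y) {M : Y.Modules}
    (hM : FlatMod.IsFinLocFree M) (x : X) :
    rkAt ((Scheme.Modules.pullback f).obj M) x = rkAt M (f x) := by
  obtain ⟨U, n, s, hx, hs⟩ := exists_basis_of_isFinLocFree hM (f x)
  have := Groth.KTheory.LocFree.isQCoh hM
  have := Groth.KTheory.LocFree.isQCoh (Groth.LocFree.isFinLocFree_pullback f hM)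
  rw [rkAt, rkAt, Groth.LocFree.finrank_stalk_of_basis hs hx,
    Groth.LocFree.finrank_stalk_of_basis (hs.pull f) (show x ∈ f ⁻¹ᵁ U from hx)]

variable {X Y Z V W T : Scheme.{u}} (f : X ⟶ Y) (g : Y ⟶ Z)
  (gf : V ⟶ Y) [Smooth gf] (jf : X ⟶ V) [IsClosedImmersion jf] (hjf : jf ≫ gf = f)
  (gg : W ⟶ Z) [Smooth gg] (jg : Y ⟶ W) [IsClosedImmersion jg] (hjg : jg ≫ gg = g)
  (gh : T ⟶ Z) [Smooth gh] (jh : X ⟶ T) [IsClosedImmersion jh] (hjh : jh ≫ gh = f ≫ g)
  {Ωf : V.Modules} {df : OmegaSh.Der gf Ωf} (hdf : OmegaSh.IsUniversal df)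
  {Ωg : W.Modules} {dg : OmegaSh.Der gg Ωg} (hdg : OmegaSh.IsUniversal dg)
  {Ωh : T.Modules} {dh : OmegaSh.Der gh Ωh} (hdh : OmegaSh.IsUniversal dh)

include hjf hjg hjh hdf hdg hdh

theorem finrank_stalk_comp (hf : ∀ x : X, Synt.IsKoszulAt f x)
    (hg : ∀ y : Y, Synt.IsKoszulAt g y) (x : X) :
    rkAt (Omega.conormal jh) x + rkAt ((Scheme.Modules.pullback jf).obj Ωf) x +
        rkAt ((Scheme.Modules.pullback jg).obj Ωg) (f x) =
      rkAt ((Scheme.Modules.pullback jh).obj Ωh) x + rkAt (Omega.conormal jf) x +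
        rkAt (Omega.conormal jg) (f x) := by
  let m : pullback gh g ⟶ pullback gh gg :=
    pullback.map gh g gh gg (𝟙 T) jg (𝟙 Z) (by simp) (by simp [hjg])
  have hm₁ : m ≫ pullback.fst gh gg = pullback.fst gh g :=
    (pullback.lift_fst _ _ _).trans (Category.comp_id _)
  have hm₂ : m ≫ pullback.snd gh gg = pullback.snd gh g ≫ jg := pullback.lift_snd _ _ _
  have sq : IsPullback m (pullback.snd gh g) (pullback.snd gh gg) jg := by
    refine IsPullback.of_right ?_ hm₂ (IsPullback.of_hasPullback gh gg)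
    rw [hm₁, hjg]
    exact IsPullback.of_hasPullback gh g
  have : IsClosedImmersion m := MorphismProperty.of_isPullback sq.flip inferInstance
  let k : X ⟶ pullback gh g := pullback.lift jh f hjh
  let kP : X ⟶ pullback gh gg := k ≫ m
  have hkP₁ : kP ≫ pullback.fst gh gg = jh := by
    rw [Category.assoc, hm₁]; exact pullback.lift_fst _ _ _
  have hkP₂ : kP ≫ pullback.snd gh gg = f ≫ jg := by
    rw [Category.assoc, hm₂, ← Category.assoc]; exact congrArg (· ≫ jg) (pullback.lift_snd _ _ _)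
  have : IsImmersion (kP ≫ pullback.fst gh gg) := by rw [hkP₁]; infer_instance
  have : IsImmersion kP := IsImmersion.of_comp kP (pullback.fst gh gg)
  let P₀ := kP.coborderRange
  let Q₀ := m ⁻¹ᵁ P₀
  have sqr := isPullback_morphismRestrict m P₀
  let k₀ : X ⟶ Q₀.toScheme := sqr.lift kP.liftCoborder k (by
    rw [Scheme.Hom.liftCoborder_ι])
  have hk₀ : k₀ ≫ (m ∣_ P₀) = kP.liftCoborder := sqr.lift_fst _ _ _
  have hk₀' : k₀ ≫ Q₀.ι = k := sqr.lift_snd _ _ _
  have : IsClosedImmersion (k₀ ≫ (m ∣_ P₀)) := by rw [hk₀]; infer_instance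
  have : IsClosedImmersion k₀ := IsClosedImmersion.of_comp k₀ (m ∣_ P₀)
  -- the factorisation `X → Q₀ → Y` of `f`
  have hk₀f : k₀ ≫ Q₀.ι ≫ pullback.snd gh g = f := by
    rw [← Category.assoc, hk₀', pullback.lift_snd]
  have hk₀h : k₀ ≫ Q₀.ι ≫ pullback.fst gh g = jh := by
    rw [← Category.assoc, hk₀', pullback.lift_fst]
  obtain ⟨ΩQ, dQ, hdQ⟩ := Groth.Misc7.OmegaExists.exists_isUniversal (pullback.snd gh g)
  obtain ⟨eQ⟩ := nonempty_pullback_iso (IsPullback.of_hasPullback gh g) hdh hdQ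
  have e1 := finrank_stalk_add_eq f gf jf hjf (Q₀.ι ≫ pullback.snd gh g) k₀ hk₀f hdf
    (isUniversal_restrictDer hdQ Q₀) hf x
  have e2 : rkAt ((Scheme.Modules.pullback k₀).obj (ΩQ.restrict Q₀.ι)) x =
      rkAt ((Scheme.Modules.pullback jh).obj Ωh) x :=
    finrank_stalk_iso ((Scheme.Modules.pullback k₀).mapIso
      ((Scheme.Modules.restrictFunctorIsoPullback Q₀.ι).app ΩQ ≪≫
        (Scheme.Modules.pullback Q₀.ι).mapIso eQ.symm ≪≫
        (Scheme.Modules.pullbackComp Q₀.ι (pullback.fst gh g)).app Ωh) ≪≫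
      (Scheme.Modules.pullbackComp k₀ (Q₀.ι ≫ pullback.fst gh g)).app Ωh ≪≫
      (Scheme.Modules.pullbackCongr hk₀h).app Ωh) x
  -- the conormal sequence of `X → Q₀ → P₀`
  have hN₀ := isFinLocFree_conormal f hf (Q₀.ι ≫ pullback.snd gh g) k₀ hk₀f
  have hh1 : ∀ z : X, RegImm.IsRegularImmersionAt .h1 k₀ z := fun z => by
    obtain ⟨U, hz, hci, rs, hrs, hker⟩ :=
      (Groth.Agent.S8656.result f hf (Q₀.ι ≫ pullback.snd gh g) k₀ hk₀f).2 z
    exact ⟨U, hz, hci, rs, Groth.KoszulLCI.seq_h1_of_koszul hrs, hker⟩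
  obtain ⟨a, ha, -⟩ := existsUnique_isConormalMap (k₀ ≫ (m ∣_ P₀)) (m ∣_ P₀) (𝟙 _) k₀
    (by rw [Category.comp_id])
  obtain ⟨b, hb, -⟩ := existsUnique_isConormalMap k₀ (k₀ ≫ (m ∣_ P₀)) (m ∣_ P₀) (𝟙 X)
    (Category.id_comp _)
  obtain ⟨w, hS⟩ := Groth.KoszulLCI.conormal_shortExact k₀ (m ∣_ P₀) ha hb hh1
  -- the conormal sheaf of `Q₀ → P₀` is the pullback of that of `Y → W`
  have sq₀ : IsPullback (m ∣_ P₀) (Q₀.ι ≫ pullback.snd gh g) (P₀.ι ≫ pullback.snd gh gg) jg :=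
    sqr.paste_vert sq
  obtain ⟨φ, hφ, -⟩ := existsUnique_isConormalMap (m ∣_ P₀) jg (P₀.ι ≫ pullback.snd gh gg)
    (Q₀.ι ≫ pullback.snd gh g) sq₀.w.symm
  have hφi := (Groth.Agent.S9372.result _ _ _ _ sq₀ φ hφ).2 inferInstance
  have hNg := isFinLocFree_conormal g hg gg jg hjg
  let eN : (Scheme.Modules.pullback k₀).obj (Omega.conormal (m ∣_ P₀)) ≅
      (Scheme.Modules.pullback f).obj (Omega.conormal jg) :=
    (Scheme.Modules.pullback k₀).mapIso (asIso φ).symm ≪≫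
      (Scheme.Modules.pullbackComp k₀ (Q₀.ι ≫ pullback.snd gh g)).app _ ≪≫
      (Scheme.Modules.pullbackCongr hk₀f).app _
  have hX₁ : FlatMod.IsFinLocFree ((Scheme.Modules.pullback k₀).obj (Omega.conormal (m ∣_ P₀))) :=
    Groth.KTheory.LocFree.isFinLocFree_of_iso eN.symm (Groth.LocFree.isFinLocFree_pullback f hNg)
  have e3 := Groth.LocFree.finrank_stalk_add hS hX₁ hN₀ x
  change rkAt (Omega.conormal (k₀ ≫ (m ∣_ P₀))) x =
    rkAt ((Scheme.Modules.pullback k₀).obj (Omega.conormal (m ∣_ P₀))) x +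
      rkAt (Omega.conormal k₀) x at e3
  rw [show rkAt ((Scheme.Modules.pullback k₀).obj (Omega.conormal (m ∣_ P₀))) x = _ from
    (finrank_stalk_iso eN x).trans (finrank_stalk_pullback' f hNg x)] at e3
  -- the projection to `T`
  have hP₁ : (k₀ ≫ (m ∣_ P₀)) ≫ P₀.ι ≫ pullback.fst gh gg = jh := by
    rw [hk₀, ← Category.assoc, Scheme.Hom.liftCoborder_ι, hkP₁]
  have hP₂ : (k₀ ≫ (m ∣_ P₀)) ≫ P₀.ι ≫ pullback.snd gh gg = f ≫ jg := by
    rw [hk₀, ← Category.assoc, Scheme.Hom.liftCoborder_ι, hkP₂]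
  obtain ⟨S, hS', ⟨s₁⟩, s₂, ⟨s₃⟩⟩ := exists_shortExact_baseChange
    (IsPullback.of_hasPullback gh gg).flip P₀ (k₀ ≫ (m ∣_ P₀)) jh hP₁ (f ≫ jg) hP₂ hdg
  have hfg : ∀ z : X, Synt.IsKoszulAt (f ≫ g) z := fun z => Groth.Agent.S8661.result f g hf hg z
  have hNh := isFinLocFree_conormal (f ≫ g) hfg gh jh hjh
  have hΩg := Groth.LocFree.isFinLocFree_pullback jg (isFinLocFree_of_isUniversal gg hdg)
  have s₃' := s₃ ≪≫ ((Scheme.Modules.pullbackComp f jg).app Ωg).symm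
  have e4 := Groth.LocFree.finrank_stalk_add hS'
    (Groth.KTheory.LocFree.isFinLocFree_of_iso s₁.symm hNh)
    (Groth.KTheory.LocFree.isFinLocFree_of_iso s₃'.symm
      (Groth.LocFree.isFinLocFree_pullback f hΩg)) x
  rw [finrank_stalk_iso s₁ x, finrank_stalk_iso s₃' x, s₂] at e4
  have e5 := finrank_stalk_pullback' f hΩg x
  simp only [rkAt, Functor.comp_obj] at *
  omega

end Groth.Misc7.VirtualCotangent
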